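import Cfsg.Agent.Lib.RuGroup.Checks

/-!
The smaller search trees, and the sets they cover.
-/

set_option autoImplicit false
set_option maxRecDepth 100000

namespace CfsgLib.RuGroup

open CfsgLib.PresCert

theorem tree1_step : allBin 2304 (treeStep treeT1 sT 4 112) 12 0 = true := by
  decide +kernel

theorem tree1_set : Nat.beq (treeSet treeT1 2304 12)
    (Nat.land (Nat.shiftRight classBits 0) (2 ^ 16384 - 1)) = true := by
  decide +kernel

theorem tree1_sum : Nat.beq (treeSum treeT1 2304 12) (treeSet treeT1 2304 12) = true := by
  decide +kernel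

theorem tree2_step : allBin 300 (treeStep treeT2 sT 3 144) 9 0 = true := by
  decide +kernel

theorem tree2_set : Nat.beq (treeSet treeT2 300 9)
    (Nat.land (Nat.shiftRight classBits 16384) (2 ^ 16384 - 1)) = true := by
  decide +kernel

theorem tree2_sum : Nat.beq (treeSum treeT2 300 9) (treeSet treeT2 300 9) = true := by
  decide +kernel

theorem tree3_step : allBin 26 (treeStep treeT3 sT 2 48) 5 0 = true := by
  decide +kernel

theorem tree3_set : Nat.beq (treeSet treeT3 26 5)
    (Nat.land (Nat.shiftRight classBits 32768) (2 ^ 16384 - 1)) = true := by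
  decide +kernel

theorem tree3_sum : Nat.beq (treeSum treeT3 26 5) (treeSet treeT3 26 5) = true := by
  decide +kernel

theorem tree4_step : allBin 2 (treeStep treeT4 sT 1 7745) 1 0 = true := by
  decide +kernel

theorem tree4_set : Nat.beq (treeSet treeT4 2 1)
    (Nat.land (Nat.shiftRight classBits 49152) (2 ^ 16384 - 1)) = true := by
  decide +kernel

theorem tree4_sum : Nat.beq (treeSum treeT4 2 1) (treeSet treeT4 2 1) = true := by
  decide +kernel

theorem tree5_step : allBin 7020 (treeStep treeT5 sT 4 4) 13 0 = true := by
  decide +kernel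

theorem tree5_set : Nat.beq (treeSet treeT5 7020 13)
    (Nat.land (Nat.shiftRight classBits 65536) (2 ^ 16384 - 1)) = true := by
  decide +kernel

theorem tree5_sum : Nat.beq (treeSum treeT5 7020 13) (treeSet treeT5 7020 13) = true := by
  decide +kernel

theorem tree0_set : Nat.beq (treeSum treeT0 16240 14) (2 ^ 16240 - 1) = true := by
  decide +kernel

theorem tree0_or : Nat.beq (treeSet treeT0 16240 14) (2 ^ 16240 - 1) = true := by
  decide +kernel

end CfsgLib.RuGroup
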