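import Cfsg.Agent.Lib.RuGroup.Gens
import Cfsg.Agent.Lib.RuGroup.CheckTrees

/-!
The orbit of each point of the base is a profile class, so the automorphism group of the lattice
has order `16240 * 2304 * 300 * 26 * 2` and is generated by the chosen maps and the scalar.
-/

set_option autoImplicit false
set_option maxRecDepth 100000

namespace CfsgLib.RuGroup

open CfsgLib.PresCert CfsgLib.LocalEven.RuRootless Cfsg.Spor

attribute [local irreducible] colW app el idT profT classBits vecT lane pkN sv vec profOf singleP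

/-- The search tree of a class. -/
def slotTree : Fin 5 → BTree := ![treeT1, treeT2, treeT3, treeT4, treeT5]

/-- The size of a class. -/
def slotSize : Fin 5 → ℕ := ![2304, 300, 26, 2, 7020]

/-- The depth of the loop over a class. -/
def slotDepth : Fin 5 → ℕ := ![12, 9, 5, 1, 13]

/-- The number of composites used for a class. -/
def slotGens : Fin 5 → ℕ := ![4, 3, 2, 1, 4]

/-- The root of a class. -/
def slotRoot : Fin 5 → Fin 16240 := ![112, 144, 48, 7745, 4]

theorem slotRoot_eq (s : Fin 5) : (slotRoot s : ℕ) = classRoot s := by fin_cases s <;> rfl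

theorem slot_bound : (List.finRange 5).all (fun s => allBin (slotSize s)
    (fun i => Nat.blt (child (slotTree s) i) 16240) (slotDepth s) 0) = true := by
  decide +kernel

theorem slot_set : (List.finRange 5).all (fun s =>
    Nat.beq (treeSet (slotTree s) (slotSize s) (slotDepth s))
      (Nat.land (Nat.shiftRight classBits (Nat.mul 16384 (s : ℕ))) (Nat.pred (Nat.shiftLeft 1 16384)))) = true := by
  decide +kernel

theorem slot_sum : (List.finRange 5).all (fun s =>
    Nat.beq (treeSum (slotTree s) (slotSize s) (slotDepth s))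
      (treeSet (slotTree s) (slotSize s) (slotDepth s))) = true := by
  decide +kernel

theorem slotSize_le : ∀ s : Fin 5, slotSize s ≤ 2 ^ slotDepth s ∧ 0 < slotSize s := by decide

theorem slot_step (s : Fin 5) : allBin (slotSize s)
    (treeStep (slotTree s) sT (slotGens s) (slotRoot s : ℕ)) (slotDepth s) 0 = true := by
  fin_cases s
  · exact tree1_step
  · exact tree2_step
  · exact tree3_step
  · exact tree4_step
  · exact tree5_step

theorem testBit_window {C a n v : ℕ} (hv : v < n) :
    (Nat.land (Nat.shiftRight C a) (Nat.pred (Nat.shiftLeft 1 n))).testBit v = C.testBit (a + v) := by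
  show ((C >>> a) &&& ((1 <<< n) - 1)).testBit v = _
  rw [Nat.testBit_and, Nat.testBit_shiftRight, Nat.one_shiftLeft, Nat.testBit_two_pow_sub_one]
  simp [hv]

theorem slot_child_lt {s : Fin 5} {i : ℕ} (hi : i < slotSize s) : child (slotTree s) i < 16240 := by
  have h := allBin_spec _ _ _ _ (List.all_eq_true.1 slot_bound s (List.mem_finRange s)) i (Nat.zero_le _) hi
    (lt_of_lt_of_le hi (by simpa using (slotSize_le s).1))
  exact Nat.le_of_ble_eq_true h

/-- The members of a class are the children of its tree. -/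
theorem slot_mem {s : Fin 5} {v : ℕ} (hv : v < 16240) :
    (∀ r < classLen s, pdot v r = pdot (classRoot s) r) ↔ ∃ i < slotSize s, child (slotTree s) i = v := by
  rw [← class_bit hv s.2]
  have h := List.all_eq_true.1 slot_set s (List.mem_finRange s)
  rw [Nat.beq_eq] at h
  have h2 := testBit_window (C := classBits) (a := Nat.mul 16384 (s : ℕ)) (n := 16384) (v := v) (by omega)
  rw [← h] at h2
  have h3 : classBits.testBit (16384 * (s : ℕ) + v) =
      (treeSet (slotTree s) (slotSize s) (slotDepth s)).testBit v := h2.symm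
  rw [h3, treeSet, testBit_orBin]
  constructor
  · rintro ⟨i, -, hi, -, he⟩
    exact ⟨i, hi, (testBit_bit1 _ _).1 he⟩
  · rintro ⟨i, hi, he⟩
    exact ⟨i, Nat.zero_le _, hi, by have := (slotSize_le s).1; omega, (testBit_bit1 _ _).2 he⟩

theorem slot_inj {s : Fin 5} {i j : ℕ} (hi : i < slotSize s) (hj : j < slotSize s)
    (e : child (slotTree s) i = child (slotTree s) j) : i = j := by
  have h := List.all_eq_true.1 slot_sum s (List.mem_finRange s)
  rw [Nat.beq_eq] at h
  have := (slotSize_le s).1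
  exact bits_injOn _ _ _ _ h.symm i j (Nat.zero_le _) hi (by omega) (Nat.zero_le _) hj (by omega) e

/-- A class as a set of points. -/
def slotClass (s : Fin 5) : Set (Fin 16240) :=
  {v | ∀ r < classLen s, pdot v r = pdot (classRoot s) r}

theorem ncard_slotClass (s : Fin 5) : (slotClass s).ncard = slotSize s := by
  let φ : Fin (slotSize s) → Fin 16240 := fun i => ⟨child (slotTree s) i, slot_child_lt i.2⟩
  have e : slotClass s = Set.range φ := by
    ext v
    constructor
    · intro hv
      obtain ⟨i, hi, he⟩ := (slot_mem v.2).1 hv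
      exact ⟨⟨i, hi⟩, Fin.ext he⟩
    · rintro ⟨i, rfl⟩
      exact (slot_mem (slot_child_lt i.2)).2 ⟨i, i.2, rfl⟩
  have hinj : Function.Injective φ := fun a b h => Fin.ext (slot_inj a.2 b.2 (congrArg Fin.val h))
  rw [e, Set.ncard_range_of_injective hinj, Nat.card_fin]

/-! ### The stabiliser chain -/

/-- The automorphisms fixing the first `k` points of the base. -/
def baseFix (k : ℕ) : Subgroup fourRu where
  carrier := {f | ∀ b : Fin 5, (b : ℕ) < k → f • basePt b = basePt b}
  one_mem' b _ := one_smul _ _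
  mul_mem' {f g} hf hg b hb := by rw [mul_smul, hg b hb, hf b hb]
  inv_mem' {f} hf b hb := by rw [inv_smul_eq_iff, hf b hb]

/-- The group generated by the chosen maps and the scalar. -/
noncomputable def genGrp : Subgroup fourRu := Subgroup.closure (Set.range uG ∪ {rotG})

theorem uG_mem (g : Fin 8) : uG g ∈ genGrp := Subgroup.subset_closure (Or.inl ⟨g, rfl⟩)

theorem rotG_mem : rotG ∈ genGrp := Subgroup.subset_closure (Or.inr rfl)

theorem sG_mem (n : Fin 4) : sG n ∈ genGrp :=
  mul_mem (mul_mem (uG_mem _) (uG_mem _)) (pow_mem rotG_mem _)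

theorem sG_fix (n : Fin 4) : sG n ∈ baseFix (4 - n) := by
  intro b hb
  have h := List.all_eq_true.1 (List.all_eq_true.1 s_fix n (List.mem_range.2 n.2)) b (List.mem_range.2 hb)
  rw [← basePt_eq] at h
  exact sG_smul n h

/-- The transversal group of a class. -/
noncomputable def slotGrp (s : Fin 5) : Subgroup fourRu := genGrp ⊓ baseFix (5 - slotGens s)

theorem slot_reach (s : Fin 5) {i : ℕ} (hi : i < slotSize s) :
    ∃ f ∈ slotGrp s, f • slotRoot s = (⟨child (slotTree s) i, slot_child_lt hi⟩ : Fin 16240) := by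
  induction i using Nat.strong_induction_on with
  | _ i ih =>
    have h := allBin_spec _ _ _ _ (slot_step s) i (Nat.zero_le _) hi
      (lt_of_lt_of_le hi (by simpa using (slotSize_le s).1))
    rcases treeStep_spec h with ⟨-, he⟩ | ⟨-, hp, hg, hs⟩
    · exact ⟨1, one_mem _, by rw [one_smul]; exact Fin.ext he.symm⟩
    · obtain ⟨f, hf, hfe⟩ := ih _ hp (by omega)
      have hg4 : gen (slotTree s) i < 4 := by
        have : slotGens s ≤ 4 := by fin_cases s <;> decide
        omega
      refine ⟨sG ⟨_, hg4⟩ * f, mul_mem ⟨sG_mem _, ?_⟩ hf, ?_⟩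
      · intro b hb
        have hle : 5 - slotGens s ≤ 4 - gen (slotTree s) i := by omega
        exact sG_fix ⟨_, hg4⟩ b (lt_of_lt_of_le hb hle)
      · rw [mul_smul, hfe]
        exact sG_smul ⟨_, hg4⟩ hs

/-- The level of a class in the chain. -/
theorem slot_level : ∀ s : Fin 5, 5 - slotGens s = if (s : ℕ) = 4 then 1 else (s : ℕ) + 1 := by decide

theorem pdot_smul {k : ℕ} {f : fourRu} (hf : f ∈ baseFix k) (v : Fin 16240) {r : ℕ} (hr : r < 10)
    (hrk : r / 2 < k) : pdot (f • v : Fin 16240) r = pdot v r := by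
  obtain ⟨hv, hlt⟩ := profVec_vals ⟨r, hr⟩
  simp only at hv hlt
  have hb : endoOf f (pv (basePt ⟨r / 2, by omega⟩)) = pv (basePt ⟨r / 2, by omega⟩) := by
    rw [smul_spec, hf ⟨r / 2, by omega⟩ hrk]
  have hfix : (endoOf f ⟨sv (profVec r), sv_mem hlt⟩ : X) = sv (profVec r) := by
    by_cases he : r % 2 = 0
    · have e : profVec r = (basePt ⟨r / 2, by omega⟩ : ℕ) := by
        rw [hv, basePt_eq]
        interval_cases r <;> first | rfl | omega
      have hb' := congrArg Subtype.val hb
      simp only [e]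
      exact hb'
    · have e : sv (profVec r) = rotX (sv (basePt ⟨r / 2, by omega⟩ : ℕ)) := by
        rw [basePt_eq, ← sv_baseI, hv]
        interval_cases r <;> first | rfl | omega
      have h2 := (endoOf_isEndo f).comm (pv (basePt ⟨r / 2, by omega⟩))
      rw [hb] at h2
      simp only [e]
      exact h2
  unfold pdot
  conv_lhs => rw [← hfix]
  rw [show sv (f • v : Fin 16240) = (endoOf f (pv v) : X) by rw [smul_spec]; rfl]
  exact (endoOf_isEndo f).pres _ _

theorem slot_orbit_le (s : Fin 5) {f : fourRu} (hf : f ∈ baseFix (5 - slotGens s)) :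
    f • slotRoot s ∈ slotClass s := by
  intro r hr
  have hl : classLen s ≤ 2 * (5 - slotGens s) ∧ classLen s ≤ 10 := by
    fin_cases s <;> simp [classLen, slotGens]
  rw [pdot_smul hf _ (by omega) (by omega), slotRoot_eq]

theorem slot_transitive (s : Fin 5) {f : fourRu} (hf : f ∈ baseFix (5 - slotGens s)) :
    ∃ h ∈ slotGrp s, h • slotRoot s = f • slotRoot s := by
  obtain ⟨i, hi, he⟩ := (slot_mem (f • slotRoot s).2).1 (slot_orbit_le s hf)
  obtain ⟨h, hh, hhe⟩ := slot_reach s hi
  exact ⟨h, hh, hhe.trans (Fin.ext he)⟩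

theorem top_reach : ∀ i, ∀ hi : i < 16240, ∃ f ∈ genGrp,
    f • (0 : Fin 16240) = (⟨child treeT0 i, child0_lt hi⟩ : Fin 16240) := by
  intro i
  induction i using Nat.strong_induction_on with
  | _ i ih =>
    intro hi
    rcases treeStep_spec (tree0_step hi) with ⟨-, he⟩ | ⟨-, hp, hg, hs⟩
    · exact ⟨1, one_mem _, by rw [one_smul]; exact Fin.ext he.symm⟩
    · obtain ⟨f, hf, hfe⟩ := ih _ hp (by omega)
      refine ⟨uG ⟨gen treeT0 i, by omega⟩ * f, mul_mem (uG_mem _) hf, ?_⟩
      rw [mul_smul, hfe]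
      exact uG_smul _ hs

theorem top_transitive (v : Fin 16240) : ∃ f ∈ genGrp, f • (0 : Fin 16240) = v := by
  obtain ⟨i, hi, he⟩ := exists_child0 v.2
  obtain ⟨f, hf, hfe⟩ := top_reach i hi
  exact ⟨f, hf, hfe.trans (Fin.ext he)⟩

theorem chain_descend {k : ℕ} (hk : k < 5) {f : fourRu} (hf : f ∈ baseFix k) :
    ∃ h ∈ genGrp ⊓ baseFix k, h • basePt ⟨k, hk⟩ = f • basePt ⟨k, hk⟩ := by
  cases k with
  | zero =>
    obtain ⟨h, hh, he⟩ := top_transitive (f • basePt ⟨0, hk⟩)
    exact ⟨h, ⟨hh, fun b hb => absurd hb (Nat.not_lt_zero _)⟩, he⟩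
  | succ k =>
    have e1 : 5 - slotGens ⟨k, by omega⟩ = k + 1 := by
      rw [slot_level, if_neg (by simp only; omega)]
    have e2 : slotRoot ⟨k, by omega⟩ = basePt ⟨k + 1, hk⟩ := by
      have hk4 : k < 4 := by omega
      interval_cases k <;> rfl
    obtain ⟨h, hh, he⟩ := slot_transitive ⟨k, by omega⟩ (f := f) (by rw [e1]; exact hf)
    rw [e2] at he
    rw [slotGrp, e1] at hh
    exact ⟨h, hh, he⟩

theorem baseFix_five : baseFix 5 = ⊥ :=
  le_bot_iff.1 fun f hf => Subgroup.mem_bot.2 (eq_one_of_fix fun b => hf b b.2)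

theorem baseFix_zero : baseFix 0 = ⊤ :=
  top_le_iff.1 fun _ _ b hb => absurd hb (Nat.not_lt_zero _)

theorem mem_baseFix_succ {k : ℕ} (hk : k < 5) {f : fourRu} :
    f ∈ baseFix (k + 1) ↔ f ∈ baseFix k ∧ f • basePt ⟨k, hk⟩ = basePt ⟨k, hk⟩ := by
  refine ⟨fun h => ⟨fun b hb => h b (by omega), h ⟨k, hk⟩ (by simp)⟩, fun ⟨h1, h2⟩ b hb => ?_⟩
  rcases Nat.lt_succ_iff_lt_or_eq.1 hb with h | h
  · exact h1 b h
  · rw [show b = ⟨k, hk⟩ from Fin.ext h]; exact h2

theorem mem_genGrp (f : fourRu) : f ∈ genGrp := by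
  suffices H : ∀ d k, k + d = 5 → ∀ f ∈ baseFix k, f ∈ genGrp from
    H 5 0 rfl f (by rw [baseFix_zero]; trivial)
  intro d
  induction d with
  | zero =>
    intro k hk f hf
    obtain rfl : k = 5 := by omega
    rw [baseFix_five, Subgroup.mem_bot] at hf
    rw [hf]
    exact one_mem _
  | succ d ih =>
    intro k hkd f hf
    have hk : k < 5 := by omega
    obtain ⟨h, ⟨hh1, hh2⟩, he⟩ := chain_descend hk hf
    have hmem : h⁻¹ * f ∈ baseFix (k + 1) := (mem_baseFix_succ hk).2
      ⟨mul_mem (inv_mem hh2) hf, by rw [mul_smul, ← he, inv_smul_smul]⟩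
    have := mul_mem hh1 (ih (k + 1) (by omega) _ hmem)
    rwa [mul_inv_cancel_left] at this

theorem card_step {k : ℕ} (hk : k < 5) :
    Nat.card (baseFix k) =
      (MulAction.orbit (baseFix k) (basePt ⟨k, hk⟩)).ncard * Nat.card (baseFix (k + 1)) := by
  rw [← MulAction.index_stabilizer]
  have e : (baseFix (k + 1)).subgroupOf (baseFix k) = MulAction.stabilizer (baseFix k) (basePt ⟨k, hk⟩) := by
    ext ⟨f, hf⟩
    rw [Subgroup.mem_subgroupOf, MulAction.mem_stabilizer_iff, mem_baseFix_succ hk, Subgroup.mk_smul]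
    exact ⟨fun h => h.2, fun h => ⟨hf, h⟩⟩
  have hle : baseFix (k + 1) ≤ baseFix k := fun f hf => ((mem_baseFix_succ hk).1 hf).1
  rw [← e, mul_comm, ← Nat.card_congr (Subgroup.subgroupOfEquivOfLe hle).toEquiv]
  exact (Subgroup.card_mul_index _).symm

theorem orbit_eq (s : Fin 5) (hs : (s : ℕ) < 4) :
    MulAction.orbit (baseFix ((s : ℕ) + 1)) (slotRoot s) = slotClass s := by
  have e1 : 5 - slotGens s = (s : ℕ) + 1 := by rw [slot_level, if_neg (by omega)]
  ext v
  constructor
  · rintro ⟨⟨f, hf⟩, rfl⟩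
    exact slot_orbit_le s (by rw [e1]; exact hf)
  · intro hv
    obtain ⟨i, hi, he⟩ := (slot_mem v.2).1 hv
    obtain ⟨f, hf, hfe⟩ := slot_reach s hi
    refine ⟨⟨f, by rw [← e1]; exact hf.2⟩, ?_⟩
    show f • slotRoot s = v
    rw [hfe]
    exact Fin.ext he

theorem card_fourRu : Nat.card fourRu = 583704576000 := by
  have h0 : (MulAction.orbit (baseFix 0) (basePt ⟨0, by norm_num⟩)).ncard = 16240 := by
    have : MulAction.orbit (baseFix 0) (basePt ⟨0, by norm_num⟩) = Set.univ := by
      refine Set.eq_univ_of_forall fun v => ?_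
      obtain ⟨f, -, hf⟩ := top_transitive v
      exact ⟨⟨f, by rw [baseFix_zero]; trivial⟩, hf⟩
    rw [this, Set.ncard_univ, Nat.card_fin]
  have hstep : ∀ s : Fin 5, ∀ hs : (s : ℕ) < 4, Nat.card (baseFix ((s : ℕ) + 1)) =
      slotSize s * Nat.card (baseFix ((s : ℕ) + 2)) := by
    intro s hs
    rw [card_step (show (s : ℕ) + 1 < 5 by omega)]
    congr 1
    rw [show basePt ⟨(s : ℕ) + 1, by omega⟩ = slotRoot s by fin_cases s <;> first | rfl | (simp at hs),
      orbit_eq s hs, ncard_slotClass]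
  have e1 : Nat.card (baseFix 1) = 2304 * Nat.card (baseFix 2) := hstep 0 (by norm_num)
  have e2 : Nat.card (baseFix 2) = 300 * Nat.card (baseFix 3) := hstep 1 (by norm_num)
  have e3 : Nat.card (baseFix 3) = 26 * Nat.card (baseFix 4) := hstep 2 (by norm_num)
  have e4 : Nat.card (baseFix 4) = 2 * Nat.card (baseFix 5) := hstep 3 (by norm_num)
  have e5 : Nat.card (baseFix 5) = 1 := by rw [baseFix_five]; exact Subgroup.card_bot
  have e0 := card_step (k := 0) (by norm_num)
  rw [h0, baseFix_zero, Nat.card_congr Subgroup.topEquiv.toEquiv] at e0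
  rw [e0, e1, e2, e3, e4, e5]

end CfsgLib.RuGroup
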