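import Cfsg.Agent.Lib.RuGroup.Checks

/-!
The classes of short vectors with prescribed profiles.
-/

set_option autoImplicit false
set_option maxRecDepth 100000

namespace CfsgLib.RuGroup

open CfsgLib.PresCert

theorem class_part0 : allBin 4096 classOK 12 0 = true := by
  decide +kernel

theorem class_part1 : allBin 8192 classOK 12 4096 = true := by
  decide +kernel

end CfsgLib.RuGroup
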