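import Cfsg.Agent.Lib.RuGroup.Checks

/-!
The classes of short vectors with prescribed profiles.
-/

set_option autoImplicit false
set_option maxRecDepth 100000

namespace CfsgLib.RuGroup

open CfsgLib.PresCert

theorem class_part2 : allBin 12288 classOK 12 8192 = true := by
  decide +kernel

theorem class_part3 : allBin 16240 classOK 12 12288 = true := by
  decide +kernel

end CfsgLib.RuGroup
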