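import Cfsg.Agent.Lib.RuGroup.LatticeChecks

/-!
Rows lie in the lattice, the maps preserve it, and the determined vectors span the frame.
-/

set_option autoImplicit false
set_option maxRecDepth 100000

namespace CfsgLib.RuGroup

open CfsgLib.PresCert CfsgLib.LocalEven.RuRootless Cfsg.Spor

theorem tab_pack : ruTable.length = 20 ∧ tabP.length = 20 ∧ ∀ k : Fin 20, ∀ j : Fin 56,
    flat (ruTable.getD k 0) j % 4 = (two (tabP.getD k 0) j : ℤ) := by
  decide +kernel

theorem gen_word : genWord.length = 40 ∧ rowGen.length = 42 ∧
    genWord.all (fun e => decide (e.1 < 20) && e.2.all (fun o => decide (o < 5))) = true := by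
  decide +kernel

theorem row_gen : allBin 42 rowGenOK 6 0 = true := by
  decide +kernel

theorem row_wide : rowW.length = 42 ∧ (List.range 42).all (fun r => (List.range 56).all fun j =>
    Nat.beq (lane (rowW.getD r 0) j) ((rows.getD r []).getD j 0)) = true := by
  decide +kernel

theorem row_img : (List.range 8).all (fun g => allBin 42 (rowImgOK (uT g) (uRow g)) 6 0) = true := by
  decide +kernel

theorem frame_steps : frameStep.length = 56 ∧ (List.range 56).all frameStepOK = true ∧
    (frameStep.map Prod.fst).Nodup := by
  decide +kernel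

theorem op_inj : ∀ k : Fin 5, ∀ j j' : Fin 56, (opAt k j).1 = (opAt k j').1 → j = j' := by
  decide +kernel

theorem span_ok : allBin 56 spanOK 6 0 = true ∧ allBin 56 spanWOK 6 0 = true ∧
    allBin 56 spanIdxOK 6 0 = true := by
  decide +kernel

theorem frame_img : (List.range 8).all (fun g => allBin 56 (frameImgOK (uCol g) (uFrame g)) 6 0) = true := by
  decide +kernel

end CfsgLib.RuGroup
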