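import Cfsg.Agent.Lib.RuGroup.MapChecks

/-!
The tables of the maps are consistent, and their images of the frame orthogonal.
-/

set_option autoImplicit false
set_option maxRecDepth 100000

namespace CfsgLib.RuGroup

open CfsgLib.PresCert

theorem id_ok : allBin 112 idOK 7 0 = true := by
  decide +kernel

theorem u_col : (List.range 8).all (fun g => allBin 112 (colOK (uT g) (uCol g)) 7 0) = true := by
  decide +kernel

theorem s_col : (List.range 4).all (fun g => allBin 112 (colOK (sT g) (sCol g)) 7 0) = true := by
  decide +kernel

theorem u_trans : (List.range 8).all (fun g => allBin 56 (transOK (uT g) (uTT g)) 6 0) = true := by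
  decide +kernel

theorem u_orth : (List.range 8).all (fun g => allBin 56 (orthOK (uTT g) (uCol g)) 6 0) = true := by
  decide +kernel

end CfsgLib.RuGroup
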