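import Cfsg.Agent.Lib.RuGroup.OutChecks

/-!
The orbits of the first map.
-/

set_option autoImplicit false
set_option maxRecDepth 100000

namespace CfsgLib.RuGroup

open CfsgLib.PresCert

theorem covX_part0 : allBin 8192 (covOK (uT 0) 560 covX) 13 0 = true := by
  decide +kernel

theorem covX_part1 : allBin 16240 (covOK (uT 0) 560 covX) 13 8192 = true := by
  decide +kernel


end CfsgLib.RuGroup
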