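import Cfsg.Agent.Lib.RuGroup.OutChecks

/-!
The orbits of the element of order 7.
-/

set_option autoImplicit false
set_option maxRecDepth 100000

namespace CfsgLib.RuGroup

open CfsgLib.PresCert

theorem covZ_part0 : allBin 8192 (covOK zT 2320 covZ) 13 0 = true := by
  decide +kernel

theorem covZ_part1 : allBin 16240 (covOK zT 2320 covZ) 13 8192 = true := by
  decide +kernel


end CfsgLib.RuGroup
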