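import Cfsg.Agent.Lib.RuGroup.OutChecks

/-!
Tables and profiles.
-/

set_option autoImplicit false
set_option maxRecDepth 100000

namespace CfsgLib.RuGroup

open CfsgLib.PresCert

theorem rot_col : allBin 112 rotColOK 7 0 = true := by
  decide +kernel

theorem z_col : allBin 112 (fun c => colOK zT zCol c && zUnitOK c) 7 0 = true := by
  decide +kernel

theorem fixX_col : allBin 56 (fixColOK fixTX fixVX) 6 0 = true := by
  decide +kernel

theorem fixX_pairs : (List.range 7).all (fixPairOK fixVX) = true := by
  decide +kernel

theorem fixX_targets : (decide (fixAX.map (fixProf fixTX) = fixPX) && decide fixPX.Nodup && fixAX.all (fun v => Nat.blt v 16240)) = true := by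
  decide +kernel

theorem fixZ1_col : allBin 56 (fixColOK fixTZ1 fixVZ1) 6 0 = true := by
  decide +kernel

theorem fixZ1_pairs : (List.range 7).all (fixPairOK fixVZ1) = true := by
  decide +kernel

theorem fixZ1_targets : (decide (fixAZ1.map (fixProf fixTZ1) = fixPZ1) && decide fixPZ1.Nodup && fixAZ1.all (fun v => Nat.blt v 16240)) = true := by
  decide +kernel

theorem fixZ2_col : allBin 56 (fixColOK fixTZ2 fixVZ2) 6 0 = true := by
  decide +kernel

theorem fixZ2_pairs : (List.range 7).all (fixPairOK fixVZ2) = true := by
  decide +kernel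

theorem fixZ2_targets : (decide (fixAZ2.map (fixProf fixTZ2) = fixPZ2) && decide fixPZ2.Nodup && fixAZ2.all (fun v => Nat.blt v 16240)) = true := by
  decide +kernel

theorem fix_chain : (decide (fixHeads fixVX = fixPosX.map (fun i => orbX.getD i 0)) && decide (fixHeads fixVZ1 = orbZ) && decide (fixHeads fixVZ2 = fixAZ1) && decide (fixAX = [0, 112, 144, 48, 7745]) && decide (fixAZ2 = [0, 112, 144, 48, 7745]) && fixPosX.all (fun i => Nat.blt i 29) && decide (orbX.length = 29) && decide (orbZ.length = 7) && Nat.beq (orbX.getD 0 1) 0 && Nat.beq (orbZ.getD 0 0) 119) = true := by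
  decide +kernel


end CfsgLib.RuGroup
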