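import Cfsg.Agent.Lib.RuGroup.OutChecks

/-!
Relations.
-/

set_option autoImplicit false
set_option maxRecDepth 100000

namespace CfsgLib.RuGroup

open CfsgLib.PresCert

theorem rel_z7 : (uTraces ((List.replicate 7 oZ).flatten) r_z7L && uTraces ([]) r_z7R && decide (uEnds r_z7L = uEnds r_z7R)) = true := by
  decide +kernel

theorem rel_zx : (uTraces (oZ ++ [0]) r_zxL && uTraces (xWord 16 ++ oZ) r_zxR && decide (uEnds r_zxL = uEnds r_zxR)) = true := by
  decide +kernel

theorem rel_tx : (uTraces (oT ++ [0]) r_txL && uTraces (xWord 28 ++ oT) r_txR && decide (uEnds r_txL = uEnds r_txR)) = true := by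
  decide +kernel

theorem rel_zt : (uTraces (oZ ++ oT) r_ztL && uTraces (oT ++ oZ) r_ztR && decide (uEnds r_ztL = uEnds r_ztR)) = true := by
  decide +kernel

theorem rel_zp : (uTraces (oZ ++ oP) r_zpL && uTraces (oP ++ oZ) r_zpR && decide (uEnds r_zpL = uEnds r_zpR)) = true := by
  decide +kernel

theorem rot_traces : (List.range 4).all (fun k => uTraces (List.replicate k 16) (tr_rot.getD k [])) = true := by
  decide +kernel

theorem scal_a : (uTraces (relA 1 oP) s_a && decide (uEnds s_a = uEnds (tr_rot.getD 1 []))) = true := by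
  decide +kernel

theorem scal_b : (uTraces (relB 1 oP) s_b && decide (uEnds s_b = uEnds (tr_rot.getD 0 []))) = true := by
  decide +kernel

theorem scal_t2 : (uTraces (oT ++ oT) s_t2 && decide (uEnds s_t2 = uEnds (tr_rot.getD 0 []))) = true := by
  decide +kernel

theorem scal_p2 : (uTraces (oP ++ oP) s_p2 && decide (uEnds s_p2 = uEnds (tr_rot.getD 0 []))) = true := by
  decide +kernel

theorem scal_q2 : (uTraces (oT ++ oP ++ (oT ++ oP)) s_q2 && decide (uEnds s_q2 = uEnds (tr_rot.getD 2 []))) = true := by
  decide +kernel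

theorem nscal_c : (uTraces (relA 1 oT) s_c && (List.range 4).all (fun k => !(decide (uEnds s_c = uEnds (tr_rot.getD k []))))) = true := by
  decide +kernel

theorem nscal_d : (uTraces (relA 2 oT) s_d && (List.range 4).all (fun k => !(decide (uEnds s_d = uEnds (tr_rot.getD k []))))) = true := by
  decide +kernel

theorem nscal_e : (uTraces (relA 1 (oT ++ oP)) s_e && (List.range 4).all (fun k => !(decide (uEnds s_e = uEnds (tr_rot.getD k []))))) = true := by
  decide +kernel

theorem nscal_f : (uTraces (relA 2 oP) s_f && (List.range 4).all (fun k => !(decide (uEnds s_f = uEnds (tr_rot.getD k []))))) = true := by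
  decide +kernel

theorem nscal_g : (uTraces (relB 2 (oT ++ oP)) s_g && (List.range 4).all (fun k => !(decide (uEnds s_g = uEnds (tr_rot.getD k []))))) = true := by
  decide +kernel

theorem nscal_p1 : (uTraces (oP) s_p1 && (List.range 4).all (fun k => !(decide (uEnds s_p1 = uEnds (tr_rot.getD k []))))) = true := by
  decide +kernel

theorem nscal_z1 : (uTraces (oZ) s_z1 && (List.range 4).all (fun k => !(decide (uEnds s_z1 = uEnds (tr_rot.getD k []))))) = true := by
  decide +kernel

theorem gen_words : (List.range 7).all (fun g => uTraces (sylWord (genSyl.getD g ([], 0)).1 ++ List.replicate (genSyl.getD g ([], 0)).2 16) (([u_1, u_2, u_3, u_4, u_5, u_6, u_7]).getD g []) && uTraces [g + 1] (([u_1R, u_2R, u_3R, u_4R, u_5R, u_6R, u_7R]).getD g []) && decide (uEnds (([u_1, u_2, u_3, u_4, u_5, u_6, u_7]).getD g []) = uEnds (([u_1R, u_2R, u_3R, u_4R, u_5R, u_6R, u_7R]).getD g []))) = true := by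
  decide +kernel


end CfsgLib.RuGroup
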