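import Cfsg.Agent.Lib.RuGroup.OutChecks

/-!
The orbits of the first map cover everything.
-/

set_option autoImplicit false
set_option maxRecDepth 100000

namespace CfsgLib.RuGroup

open CfsgLib.PresCert

theorem covX_full : Nat.beq (treeSet covX 16240 14) (2 ^ 16240 - 1) = true := by
  decide +kernel

theorem repX_ok : allBin 560 (repOK (uT 0) orbX orbIX covX certX (leftX.map fun e => e.1)) 10 0 = true := by
  decide +kernel

theorem orbX_ok : (List.range 29).all (orbOK (uT 0) orbX orbIX) = true := by
  decide +kernel

theorem leftX_ok : leftX.all (fun e => leftOK [0] 0 29 e && Nat.beq e.2.2.2.1 0) = true := by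
  decide +kernel


end CfsgLib.RuGroup
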