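import Cfsg.Agent.Lib.RuGroup.OutChecks

/-!
The orbits of the element of order 7 cover everything.
-/

set_option autoImplicit false
set_option maxRecDepth 100000

namespace CfsgLib.RuGroup

open CfsgLib.PresCert

theorem covZ_full : Nat.beq (treeSet covZ 16240 14) (2 ^ 16240 - 1) = true := by
  decide +kernel

theorem repZ_ok : allBin 2320 (repOK zT orbZ orbIZ covZ certZ (leftZ.map fun e => e.1)) 12 0 = true := by
  decide +kernel

theorem orbZ_ok : (List.range 7).all (orbOK zT orbZ orbIZ) = true := by
  decide +kernel

theorem leftZ_ok : leftZ.all (leftOK oZ 119 7) = true := by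
  decide +kernel


end CfsgLib.RuGroup
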