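import Cfsg.Agent.Lib.RuGroup.OutChecks

/-!
Short vectors determined by their profiles.
-/

set_option autoImplicit false
set_option maxRecDepth 100000

namespace CfsgLib.RuGroup

open CfsgLib.PresCert

theorem fixX_uniq0 : allBin 8192 (uniqOK fixPX fixAX fixTX) 13 0 = true := by
  decide +kernel

theorem fixX_uniq1 : allBin 16240 (uniqOK fixPX fixAX fixTX) 13 8192 = true := by
  decide +kernel

theorem fixZ1_uniq0 : allBin 8192 (uniqOK fixPZ1 fixAZ1 fixTZ1) 13 0 = true := by
  decide +kernel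

theorem fixZ1_uniq1 : allBin 16240 (uniqOK fixPZ1 fixAZ1 fixTZ1) 13 8192 = true := by
  decide +kernel

theorem fixZ2_uniq0 : allBin 8192 (uniqOK fixPZ2 fixAZ2 fixTZ2) 13 0 = true := by
  decide +kernel

theorem fixZ2_uniq1 : allBin 16240 (uniqOK fixPZ2 fixAZ2 fixTZ2) 13 8192 = true := by
  decide +kernel


end CfsgLib.RuGroup
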