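import Cfsg.Agent.Lib.RuGroup.ShortChecks

/-!
The binary code, the frame, and the words of weight eight.
-/

set_option autoImplicit false
set_option maxRecDepth 100000

namespace CfsgLib.RuGroup

open CfsgLib.PresCert CfsgLib.LocalEven.RuRootless

theorem weight_sets :
    (Nat.beq (weightSets (planes colTab 56)).1 (orBin 1701 (fun i => bit1 (wMsg i)) 11 0) &&
      Nat.beq (weightSets (planes colTab 56)).2
        ([0, 1088, 8448, 16437, 34818, 65672, 135680, 262144].foldr (fun i a => Nat.lor (bit1 i) a) 0)) = true := by
  decide +kernel

theorem low_words : [0, 1088, 8448, 16437, 34818, 65672, 135680, 262144].all (fun m =>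
    (0 :: (List.range 7).map fun b => 255 <<< (8 * b)).any fun u => Nat.beq (cw word1 ((List.range 19).filter fun k => Nat.testBit m k) % 2 ^ 56) u) = true := by
  decide +kernel

theorem key_ok : allBin 16240 keyOK 14 112 = true := by
  decide +kernel

theorem frame_code : allBin 112 (fun i => Nat.beq (el i) (frameCode i)) 7 0 = true := by
  decide +kernel

theorem pair_sorted : allBin 1597 pairOK 11 0 = true := by
  decide +kernel

theorem pair_all : Nat.beq (orBin 1597 (fun p => bit1 (Nat.add (Nat.mul (pairJ p) 64) (pairK p))) 11 0)
    (((List.range 56).flatMap fun j => (List.range 57).filterMap fun k =>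
      if j < k then some (64 * j + k) else none).foldr (fun i a => Nat.lor (bit1 i) a) (bit1 (56 * 64 + 56))) = true := by
  decide +kernel

theorem light_ok : allBin 1792 lightOK 11 0 = true := by
  decide +kernel

theorem row_pack : rowP.length = 42 ∧ (List.range 42).all (fun r => (List.range 56).all fun j =>
    Nat.beq (rowAt (rowP.getD r 0) j) ((rows.getD r []).getD j 0)) = true ∧ rows.length = 42 := by
  decide +kernel

theorem col_pack : colP.getD 56 0 = 0 ∧ (List.range 56).all (fun j => (List.range 42).all fun r =>
    Nat.beq ((Nat.shiftRight (colP.getD j 0) r) % 2) (rowAt (rowP.getD r 0) j % 2)) = true ∧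
    (List.range 56).all (fun j => Nat.blt (colP.getD j 0) (2 ^ 42)) = true := by
  decide +kernel

theorem var_ok : varL.length = 16 ∧ (List.range 16).all (fun k =>
    Nat.beq (varL.getD k 0) (ttab 0 (fun i => Nat.beq i k) 16)) = true := by
  decide +kernel

end CfsgLib.RuGroup
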