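import Cfsg.Agent.Lib.RuGroup.TitsChecks

/-!
The checks on the point stabiliser and its subgroup of index two.
-/

set_option autoImplicit false
set_option maxRecDepth 100000

namespace CfsgLib.RuGroup

open CfsgLib.PresCert

theorem pi_tab : (List.range 4).all (fun n => allBin 2304 (tabOK treeT1 piT 2304 n) 12 0) = true := by
  decide +kernel

theorem qi_tab : (List.range 3).all (fun n => allBin 300 (tabOK treeT2 qiT 300 n) 9 0) = true := by
  decide +kernel

theorem path_ok : allBin 2304 pathOK 12 0 = true := by decide +kernel

theorem bit_ok : (List.range 4).all (fun n => allBin 2304 (bitOK n) 12 0) = true := by decide +kernel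

theorem block_ok : (List.range 3).all (fun n =>
    Nat.beq (tab piT n 0) 0 && allBin 2304 (blockOK n) 12 0) = true := by decide +kernel

theorem half_ok : (Nat.beq (Nat.land halfA halfB) 0 && inHalf false halfPt &&
    Nat.blt halfPt 2304 && !(pathB 0)) = true := by
  decide +kernel

theorem moved_ok : allBin 2304 movedOK 12 0 = true := by decide +kernel

theorem trans_step : allBin 2304 (wstep piT [wH, wK, wT] transT) 12 0 = true := by decide +kernel

theorem trans_full : Nat.beq (treeSet transT 2304 12) (2 ^ 2304 - 1) = true := by decide +kernel

theorem transQ_step : allBin 300 (wstep qiT [wH, wK] transQ) 9 0 = true := by decide +kernel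

theorem transQ_full : Nat.beq (treeSet transQ 300 9) (2 ^ 300 - 1) = true := by decide +kernel

/-- The base points after the first. -/
def baseTail : List Nat := [112, 144, 48, 7745]

theorem word_h : (tracesOK (List.replicate 13 wH).flatten tr_h13 && tracesOK wH tr_hw &&
    decide (ends tr_h13 = baseTail) && !(decide (ends tr_hw = baseTail))) = true := by
  decide +kernel

theorem word_z : (tracesOK [0, 0] tr_z2 && decide (ends tr_z2 = baseTail) &&
    tracesOK (wH ++ [0]) tr_hz && tracesOK (0 :: wH) tr_zh && !(decide (ends tr_hz = ends tr_zh)) &&
    tracesOK wZ tr_zword && tracesOK [0] tr_z1 && decide (ends tr_zword = ends tr_z1)) = true := by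
  decide +kernel

theorem word_a : (tracesOK (List.replicate 3 wA).flatten tr_a3 && decide (ends tr_a3 = baseTail) &&
    tracesOK (List.replicate 13 (wA ++ wB)).flatten tr_ab13 && decide (ends tr_ab13 = baseTail) &&
    tracesOK (wA ++ wB) tr_ab && !(decide (ends tr_ab = baseTail))) = true := by
  decide +kernel

end CfsgLib.RuGroup
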