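import Cfsg.Agent.Lib.RuGroup.Checks

/-!
The orbit of the first vector.
-/

set_option autoImplicit false
set_option maxRecDepth 100000

namespace CfsgLib.RuGroup

open CfsgLib.PresCert

theorem tree0_part0 : allBin 4096 (treeStep treeT0 uT 2 0) 12 0 = true := by
  decide +kernel

theorem tree0_part1 : allBin 8192 (treeStep treeT0 uT 2 0) 12 4096 = true := by
  decide +kernel

end CfsgLib.RuGroup
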