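import Cfsg.Agent.Lib.RuGroup.Checks

/-!
The orbit of the first vector.
-/

set_option autoImplicit false
set_option maxRecDepth 100000

namespace CfsgLib.RuGroup

open CfsgLib.PresCert

theorem tree0_part2 : allBin 12288 (treeStep treeT0 uT 2 0) 12 8192 = true := by
  decide +kernel

theorem tree0_part3 : allBin 16240 (treeStep treeT0 uT 2 0) 12 12288 = true := by
  decide +kernel

end CfsgLib.RuGroup
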