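import Cfsg.Agent.Lib.RuGroup.MapChecks

/-!
Commutation with the scalar, the words of the composites, and powers.
-/

set_option autoImplicit false
set_option maxRecDepth 100000

namespace CfsgLib.RuGroup

open CfsgLib.PresCert

theorem u_rot : (List.range 8).all (fun g => allBin 56 (rotOK (uT g)) 6 0) = true := by
  decide +kernel

theorem s_word : (List.range 4).all (fun n => allBin 112
    (wordOK (uT (sWord.getD n (0, 0, 0)).1) (uCol (sWord.getD n (0, 0, 0)).2.1) (sCol n)
      (sWord.getD n (0, 0, 0)).2.2) 7 0) = true := by
  decide +kernel

theorem s_fix : (List.range 4).all (fun n => (List.range (4 - n)).all fun i =>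
    sends (sT n) (baseL.getD i 0) (baseL.getD i 0)) = true := by
  decide +kernel

theorem u_pow : (List.range 8).all (fun g => (List.range 5).all (powOK g)) = true := by
  decide +kernel

theorem prof_col : allBin 56 profColOK 6 0 = true := by
  decide +kernel

theorem baseI_ok : (List.range 5).all baseIOK = true := by
  decide +kernel

theorem root_prof : [112, 144, 48, 7745, 4].map profOf = rootP ∧ singles.map profOf = singleP := by
  decide +kernel

theorem single_set : Nat.land (Nat.shiftRight classBits 81920) (2 ^ 16384 - 1) =
    singles.foldr (fun i a => Nat.lor (bit1 i) a) 0 ∧ singleP.Nodup := by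
  decide +kernel

end CfsgLib.RuGroup
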