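import Cfsg.Agent.Lib.RuGroup.ShortChecks

/-!
The vectors on the words of weight sixteen.
-/

set_option autoImplicit false
set_option maxRecDepth 100000

namespace CfsgLib.RuGroup

open CfsgLib.PresCert CfsgLib.LocalEven.RuRootless

theorem word_part0 : allBin 448 wordRecOK 9 0 = true := by
  decide +kernel

theorem word_part1 : allBin 896 wordRecOK 9 448 = true := by
  decide +kernel

end CfsgLib.RuGroup
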