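import Cfsg.Agent.Lib.RuGroup.Code
import Cfsg.Agent.Lib.RuGroup.DataVec
import Cfsg.Agent.Lib.RuGroup.DataMaps
import Cfsg.Agent.Lib.RuGroup.DataTrees

/-!
The predicates of the finite checks.
-/

set_option autoImplicit false

namespace CfsgLib.RuGroup

open CfsgLib.PresCert

/-- The code of the short vector with index `i`. -/
noncomputable def el (i : Nat) : Nat :=
  getP vecT (nat_lit 112) (nat_lit 5192296858534827628530496329220095) i

/-- An entry of a list of images. -/
noncomputable def img (C c : Nat) : Nat :=
  Nat.land (Nat.shiftRight C (Nat.mul c (nat_lit 14))) (nat_lit 16383)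

/-- Child, parent and map of an entry of a search tree. -/
noncomputable def ent (t : BTree) (i : Nat) : Nat :=
  getP t (nat_lit 32) (nat_lit 4294967295) i

/-- The child of an entry. -/
noncomputable def child (t : BTree) (i : Nat) : Nat := Nat.land (ent t i) (nat_lit 16383)

/-- The parent of an entry. -/
noncomputable def parent (t : BTree) (i : Nat) : Nat :=
  Nat.land (Nat.shiftRight (ent t i) (nat_lit 14)) (nat_lit 16383)

/-- The map of an entry. -/
noncomputable def gen (t : BTree) (i : Nat) : Nat := Nat.shiftRight (ent t i) (nat_lit 28)

/-- The map `T` sends the vector with index `a` to the vector with index `b`. -/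
noncomputable def sends (T a b : Nat) : Bool := Nat.beq (app T (el a)) (app idT (el b))

/-- An entry of a search tree follows from an earlier one. -/
noncomputable def treeStep (t : BTree) (T : Nat → Nat) (ng root i : Nat) : Bool :=
  Bool.rec
    (Bool.rec false
      (Bool.rec false (sends (T (gen t i)) (child t (parent t i)) (child t i))
        (Nat.blt (gen t i) ng))
      (Nat.blt (parent t i) i))
    (Nat.beq (child t i) root)
    (Nat.beq i (nat_lit 0))

/-- The set of children of a search tree. -/
noncomputable def treeSet (t : BTree) (n d : Nat) : Nat :=
  orBin n (fun i => bit1 (child t i)) d (nat_lit 0)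

/-- The children of a search tree, counted with multiplicity. -/
noncomputable def treeSum (t : BTree) (n d : Nat) : Nat :=
  sumBin n (fun i => bit1 (child t i)) d (nat_lit 0)

/-- The profile of the short vector with index `i`. -/
noncomputable def profOf (i : Nat) : Nat := prof profT (el i)

/-- The lowest `m` lanes agree. -/
noncomputable def agree (m a b : Nat) : Bool :=
  Nat.beq (Nat.land a (Nat.pred (Nat.shiftLeft (nat_lit 1) (Nat.shiftLeft m (nat_lit 3)))))
    (Nat.land b (Nat.pred (Nat.shiftLeft (nat_lit 1) (Nat.shiftLeft m (nat_lit 3)))))

/-- Membership in a short list. -/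
noncomputable def memN (x : Nat) (l : List Nat) : Bool :=
  List.rec (motive := fun _ => Bool) false (fun a _ ih => Bool.rec ih true (Nat.beq x a)) l

/-- Profiles of the roots of the five classes. -/
def rootP : List Nat := [0x40443c40404440503c40, 0x4044444040504044403c, 0x444040503c4044404040, 0x40503c40404440444044, 0x40404040403c3c404040]

/-- Profiles of the singles. -/
def singleP : List Nat := [0x3c4044403c4040403c40, 0x4044444040403c40403c, 0x4040444040403c404044, 0x40444044404440444044, 0x3c40403c3c4044404044, 0x44404044404440444440, 0x44403c40444040444044, 0x403c4440404440404044, 0x403c40443c403c404040, 0x3c4044403c4040404440, 0x3c4040443c40403c4044, 0x44404040403c40444040, 0x3c40444040444044403c, 0x3c403c40403c403c4044, 0x40404040403c44404440, 0x3c403c40403c3c404044, 0x40444040404040444440, 0x403c404044403c403c40, 0x403c3c4040444044403c, 0x404440403c4040444440, 0x40444440404440444440, 0x3c404040403c44403c40, 0x40443c40404044403c40]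

/-- A bit of the class table. -/
noncomputable def classBit (s i : Nat) : Nat :=
  Nat.land (Nat.shiftRight classBits (Nat.add (Nat.shiftLeft s (nat_lit 14)) i)) (nat_lit 1)

/-- The truth value as a bit. -/
noncomputable def bval (b : Bool) : Nat := Bool.rec (nat_lit 0) (nat_lit 1) b

/-- The class table is correct at index `i`, given the profile. -/
noncomputable def classOKp (i p : Nat) : Bool :=
  Bool.rec false
    (Bool.rec false
      (Bool.rec false
        (Bool.rec false
          (Bool.rec false
            (Nat.beq (bval (memN p singleP)) (classBit (nat_lit 5) i))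
            (Nat.beq (bval (agree (nat_lit 2) p (nat_lit 303416676295419094908992))) (classBit (nat_lit 4) i)))
          (Nat.beq (bval (agree (nat_lit 8) p (nat_lit 303711535970256723132484))) (classBit (nat_lit 3) i)))
        (Nat.beq (bval (agree (nat_lit 6) p (nat_lit 322306146726116570710080))) (classBit (nat_lit 2) i)))
      (Nat.beq (bval (agree (nat_lit 4) p (nat_lit 303490751502176051544124))) (classBit (nat_lit 1) i)))
    (Nat.beq (bval (agree (nat_lit 2) p (nat_lit 303490175041372209298496))) (classBit (nat_lit 0) i))

/-- The class table is correct at index `i`. -/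
noncomputable def classOK (i : Nat) : Bool :=
  (fun p => classOKp i p) (profOf i)

end CfsgLib.RuGroup
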