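import Cfsg.Agent.Lib.PresCert.Tree

/-!
Codes for the short vectors of the Rudvalis lattice and packed tables for maps on them.

A code holds sixteen fields of seven bits; the field `c < 112` stands for the signed unit vector
at the real coordinate `c % 56`, negative when `56 ≤ c`. The vector of a code is the sum of the
sixteen unit vectors. A map is a table with one packed column for each signed unit vector, so
that its value on a code is obtained by sixteen additions.
-/

set_option autoImplicit false

namespace CfsgLib.RuGroup

open CfsgLib.PresCert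

/-- The bound on the lane values of a packed column. -/
def lb : Nat := 65536

/-- Digits `f 0, …, f (n-1)` in base `B`. -/
noncomputable def pkN (B : Nat) (n : Nat) : (Nat → Nat) → Nat :=
  Nat.rec (motive := fun _ => (Nat → Nat) → Nat) (fun _ => nat_lit 0)
    (fun _ ih f => Nat.add (f (nat_lit 0)) (Nat.mul B (ih fun i => f (Nat.add i (nat_lit 1))))) n

/-- Lane `r` of sixteen bits. -/
noncomputable def lane (x r : Nat) : Nat :=
  Nat.land (Nat.shiftRight x (Nat.shiftLeft r (nat_lit 4))) (nat_lit 65535)

/-- Entry of a packed table. -/
noncomputable def colW (w mask T c : Nat) : Nat :=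
  Nat.land (Nat.shiftRight T (Nat.mul w c)) mask

/-- The sum of the columns at the first `n` fields of a code. -/
noncomputable def sumCols (w mask T : Nat) (n : Nat) : Nat → Nat :=
  Nat.rec (motive := fun _ => Nat → Nat) (fun _ => nat_lit 0)
    (fun _ ih code => Nat.add (colW w mask T (Nat.land code (nat_lit 127)))
      (ih (Nat.shiftRight code (nat_lit 7)))) n

/-- The fields of a code are signed coordinates. -/
noncomputable def okCode (n : Nat) : Nat → Bool :=
  Nat.rec (motive := fun _ => Nat → Bool) (fun _ => true)
    (fun _ ih code => Bool.rec false (ih (Nat.shiftRight code (nat_lit 7)))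
      (Nat.blt (Nat.land code (nat_lit 127)) (nat_lit 112))) n

/-- The mask of a column. -/
def m896 : Nat := 2 ^ 896 - 1

/-- The mask of a profile. -/
def m80 : Nat := 2 ^ 80 - 1

/-- The value of a map on a code. -/
noncomputable def app (T code : Nat) : Nat :=
  sumCols (nat_lit 896) m896 T (nat_lit 16) code

/-- The profile of a code against the base. -/
noncomputable def prof (P code : Nat) : Nat :=
  sumCols (nat_lit 80) m80 P (nat_lit 16) code

/-- Entry of a table with 32 entries of width `w` to a leaf. -/
noncomputable def getP (t : BTree) (w mask i : Nat) : Nat :=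
  Nat.land (Nat.shiftRight (t.get (Nat.shiftRight i (nat_lit 5))) (Nat.mul w (Nat.land i (nat_lit 31))))
    mask

/-- Disjunction of `f` over `lo ≤ i < min n (lo + 2 ^ d)`. -/
noncomputable def orBin (n : Nat) (f : Nat → Nat) (d : Nat) : Nat → Nat :=
  Nat.rec (motive := fun _ => Nat → Nat)
    (fun l => Bool.rec (f l) (nat_lit 0) (Nat.ble n l))
    (fun k ih l => Bool.rec (Nat.lor (ih l) (ih (Nat.add l (Nat.shiftLeft (nat_lit 1) k)))) (nat_lit 0)
      (Nat.ble n l)) d

/-- Sum of `f` over `lo ≤ i < min n (lo + 2 ^ d)`. -/
noncomputable def sumBin (n : Nat) (f : Nat → Nat) (d : Nat) : Nat → Nat :=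
  Nat.rec (motive := fun _ => Nat → Nat)
    (fun l => Bool.rec (f l) (nat_lit 0) (Nat.ble n l))
    (fun k ih l => Bool.rec (Nat.add (ih l) (ih (Nat.add l (Nat.shiftLeft (nat_lit 1) k)))) (nat_lit 0)
      (Nat.ble n l)) d

/-- One bit. -/
noncomputable def bit1 (i : Nat) : Nat := Nat.shiftLeft (nat_lit 1) i

end CfsgLib.RuGroup
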