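import Mathlib

/-!
An element of order dividing 13 that normalises a small group of order prime to 13 centralises it.
-/

set_option autoImplicit false

namespace CfsgLib.RuGroup

/-- A prime power that occurs in `2 ^ 11 * 3 ^ 2 * 5 ^ 2`. -/
theorem small_prime_pow {p k : ℕ} (hp : p.Prime) (hk : 0 < k) (h : p ^ k ∣ 460800) :
    (p = 2 ∧ k ≤ 11) ∨ (p = 3 ∧ k ≤ 2) ∨ (p = 5 ∧ k ≤ 2) := by
  have h460 : (460800 : ℕ) = 2 ^ 11 * 3 ^ 2 * 5 ^ 2 := by norm_num
  have hp' : p ∣ 2 ^ 11 * 3 ^ 2 * 5 ^ 2 := h460 ▸ (dvd_pow_self p hk.ne').trans h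
  have hle : ∀ q e, p = q → ¬ q ^ (e + 1) ∣ 460800 → k ≤ e := by
    intro q e hq hnd
    by_contra hc
    exact hnd (hq ▸ (pow_dvd_pow p (by omega : e + 1 ≤ k)).trans h)
  rcases (Nat.Prime.dvd_mul hp).1 hp' with h1 | h1
  · rcases (Nat.Prime.dvd_mul hp).1 h1 with h2 | h2
    · have e := (Nat.prime_dvd_prime_iff_eq hp Nat.prime_two).1 (hp.dvd_of_dvd_pow h2)
      exact Or.inl ⟨e, hle 2 11 e (by norm_num)⟩
    · have e := (Nat.prime_dvd_prime_iff_eq hp Nat.prime_three).1 (hp.dvd_of_dvd_pow h2)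
      exact Or.inr (Or.inl ⟨e, hle 3 2 e (by norm_num)⟩)
  · have e := (Nat.prime_dvd_prime_iff_eq hp Nat.prime_five).1 (hp.dvd_of_dvd_pow h1)
    exact Or.inr (Or.inr ⟨e, hle 5 2 e (by norm_num)⟩)

/-- Powers congruent modulo 13 below the order of the base. -/
theorem pow_mod13 {p j k : ℕ} (hjk : j ≤ k)
    (hk : (p = 2 ∧ k ≤ 11) ∨ (p = 3 ∧ k ≤ 2) ∨ (p = 5 ∧ k ≤ 2)) (h : p ^ k ≡ p ^ j [MOD 13]) :
    j = k := by
  rcases hk with ⟨rfl, hk⟩ | ⟨rfl, hk⟩ | ⟨rfl, hk⟩ <;>
    · unfold Nat.ModEq at h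
      revert h hjk
      interval_cases k <;> intro h hjk <;> interval_cases j <;> simp_all

theorem centralize_of_small {G : Type*} [Group G] [Finite G] (N : Subgroup G) (φ : MulAut N)
    (h13 : φ ^ 13 = 1) (hd : Nat.card N ∣ 460800) : ∀ n : N, φ n = n := by
  classical
  haveI : Fact (Nat.Prime 13) := ⟨by norm_num⟩
  let F : Subgroup N := φ.toMonoidHom.eqLocus (MonoidHom.id N)
  suffices hF : Nat.card N ∣ Nat.card F by
    intro n
    have htop : F = ⊤ := Subgroup.eq_top_of_card_eq F (Nat.dvd_antisymm (Subgroup.card_subgroup_dvd_card F) hF)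
    have hn : n ∈ F := htop ▸ Subgroup.mem_top n
    exact hn
  rw [Nat.dvd_iff_prime_pow_dvd_dvd]
  intro p k hp hk
  rcases Nat.eq_zero_or_pos k with rfl | hk0
  · simp
  haveI : Fact p.Prime := ⟨hp⟩
  have h13p : IsPGroup 13 (Subgroup.zpowers φ) := by
    refine IsPGroup.of_card (n := if φ = 1 then 0 else 1) ?_
    rw [Nat.card_zpowers]
    split_ifs with h1
    · rw [h1, orderOf_one, pow_zero]
    · rw [pow_one]; exact orderOf_eq_prime h13 h1
  have hns : ¬ 13 ∣ Nat.card (Sylow p N) := by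
    intro hdv
    obtain ⟨P⟩ := (inferInstance : Nonempty (Sylow p N))
    have h1 : 13 ∣ Nat.card N :=
      hdv.trans ((Sylow.card_dvd_index P).trans (Subgroup.index_dvd_card _))
    exact absurd (h1.trans hd) (by norm_num)
  obtain ⟨P, hP⟩ := h13p.nonempty_fixed_point_of_prime_not_dvd_card (Sylow p N) hns
  have hfix : ∀ a : Subgroup.zpowers φ, ∀ x ∈ (P : Subgroup N), (a : MulAut N) x ∈ (P : Subgroup N) := by
    intro a x hx
    have h1 : (((a : MulAut N) • P : Sylow p N) : Subgroup N) = P :=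
      congrArg Sylow.toSubgroup (hP a)
    rw [Sylow.pointwise_smul_def] at h1
    rw [← h1]
    exact Subgroup.smul_mem_pointwise_smul x (a : MulAut N) _ hx
  letI act : MulAction (Subgroup.zpowers φ) (P : Subgroup N) :=
    { smul := fun a x => ⟨(a : MulAut N) x, hfix a x x.2⟩
      one_smul := fun x => Subtype.ext rfl
      mul_smul := fun a b x => Subtype.ext rfl }
  have hcount := h13p.card_modEq_card_fixedPoints (P : Subgroup N)
  let C : Subgroup (P : Subgroup N) := F.subgroupOf P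
  have hC : Nat.card (@MulAction.fixedPoints (Subgroup.zpowers φ) (P : Subgroup N) _ act) = Nat.card C := by
    refine Nat.card_congr (Equiv.setCongr ?_)
    ext x
    constructor
    · intro hx
      exact congrArg Subtype.val (hx ⟨φ, Subgroup.mem_zpowers φ⟩)
    · intro hx a
      obtain ⟨a, ha⟩ := a
      refine Subtype.ext ?_
      show a (x : N) = (x : N)
      obtain ⟨m, rfl⟩ := Subgroup.mem_zpowers_iff.1 ha
      have hx' : φ • (x : N) = (x : N) := hx
      exact Subgroup.zpow_mem (MulAction.stabilizer (MulAut N) (x : N)) hx' m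
  rw [hC] at hcount
  obtain ⟨e, he⟩ := P.2.exists_card_eq
  have he' : Nat.card (P : Subgroup N) = p ^ e := he
  obtain ⟨j, hj, hj'⟩ := (Nat.dvd_prime_pow hp).1 (he' ▸ Subgroup.card_subgroup_dvd_card C)
  have hpk : p ^ k ∣ p ^ e := by
    rw [← he']
    exact Sylow.pow_dvd_card_of_pow_dvd_card P hk
  have hek : k ≤ e := (Nat.pow_dvd_pow_iff_le_right hp.one_lt).1 hpk
  have hsm := small_prime_pow hp (by omega : 0 < e) ((he' ▸ Subgroup.card_subgroup_dvd_card _).trans hd)
  have hje : j = e := pow_mod13 hj hsm (by rw [← he', ← hj']; exact hcount)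
  refine hpk.trans ?_
  rw [← hje, ← hj']
  exact (Subgroup.card_dvd_of_injective ((P : Subgroup N).subtype.comp C.subtype |>.codRestrict F (fun x => x.2))
    (fun a b h => Subtype.ext (Subtype.ext (congrArg (fun y : F => (y : N)) h))))

end CfsgLib.RuGroup
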