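import Cfsg.Agent.Lib.RuGroup.Profile

/-!
A scalar product preserving endomorphism of the lattice fixing the base is the identity.
-/

set_option autoImplicit false
set_option maxRecDepth 100000

namespace CfsgLib.RuGroup

open CfsgLib.PresCert CfsgLib.LocalEven.RuRootless

attribute [local irreducible] colW app el idT profT classBits vecT lane pkN sv vec profOf singleP

/-- An endomorphism of the lattice that respects the scalar product and the multiplication by `i`. -/
structure IsEndo (F : lat →+ lat) : Prop where
  pres : ∀ x y : lat, dot (F x : X) (F y) = dot (x : X) y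
  comm : ∀ x : lat, (F ⟨rotX x.1, opZ_mem (by norm_num) x.2⟩ : X) = rotX (F x : X)

theorem frame_lat (j : Fin 56) : (Pi.single j (4 : ℤ) : X) ∈ lat := by
  refine AddSubgroup.subset_closure (Or.inr ⟨Pi.single j 1, funext fun r => ?_⟩)
  by_cases h : r = j <;> simp [h]

theorem span_abs : (List.range 56).all (fun j => Nat.blt (absTot (spanC.getD j []) * 200) 4294967296) = true := by
  decide +kernel

theorem spanIdx_small : ∀ m : Fin 56, spanIdx.getD m 0 < 16240 := by decide +kernel

theorem spanC_small : (List.range 56).all (fun j => (spanC.getD j []).all fun a => Nat.blt a.1 56) = true := by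
  decide +kernel

/-- The index of a spanning vector. -/
def spanI (m : ℕ) : ℕ := spanIdx.getD m 0

theorem spanW_eq {m : ℕ} (hm : m < 56) :
    spanW.getD m 0 = pkN 4294967296 56 (fun r => (4 * natX (sv (spanI m)) r + 64).toNat) := by
  have h := allBin_spec _ _ _ _ span_ok.2.1 m (Nat.zero_le _) hm (lt_of_lt_of_le hm (by decide))
  unfold spanWOK at h
  rw [Nat.eq_of_beq_eq_true h]
  refine pkN_congr _ _ _ _ fun r hr => ?_
  have hl := lane_app_id (el_okCode (spanIdx_small ⟨m, hm⟩)) ⟨r, hr⟩
  have := abs_le.1 (sv_abs (spanIdx_small ⟨m, hm⟩) ⟨r, hr⟩)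
  rw [natX_lt _ hr]
  simp only [spanI, sv] at *
  omega

/-- The signed combination of spanning vectors. -/
noncomputable def spanZ : List (ℕ × Bool × ℕ) → X
  | [] => 0
  | a :: l => (if a.2.1 = true then (a.2.2 : ℤ) else -(a.2.2 : ℤ)) • sv (spanI a.1) + spanZ l

theorem spanSum_spec : ∀ l : List (ℕ × Bool × ℕ), (∀ a ∈ l, a.1 < 56) →
    spanSum l = pkN 4294967296 56 (fun r => (4 * natX (spanZ l) r + 64 * absTot l).toNat) ∧
      ∀ r : Fin 56, |spanZ l r| ≤ 4 * absTot l
  | [], _ => by
    refine ⟨?_, fun r => by simp [spanZ]⟩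
    show (0 : ℕ) = _
    rw [← pkN_zero 4294967296 56]
    exact pkN_congr _ _ _ _ fun r _ => by simp [spanZ, absTot]
  | (m, b, c) :: l, h => by
    obtain ⟨e, hb⟩ := spanSum_spec l fun a ha => h a (List.mem_cons_of_mem _ ha)
    have hm : m < 56 := h _ List.mem_cons_self
    have hv : ∀ r : Fin 56, |sv (spanI m) r| ≤ 4 := fun r => sv_abs (spanIdx_small ⟨m, hm⟩) r
    have htot : absTot ((m, b, c) :: l) = c + absTot l := rfl
    have hterm : c * (Bool.rec (Nat.sub (pkN 4294967296 56 (fun _ => 128)) (spanW.getD m 0))
        (spanW.getD m 0) b : ℕ) = pkN 4294967296 56 (fun r =>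
          ((if b = true then (c : ℤ) else -(c : ℤ)) * (4 * natX (sv (spanI m)) r) + 64 * c).toNat) := by
      have hneg : Nat.sub (pkN 4294967296 56 (fun _ => 128)) (spanW.getD m 0) =
          pkN 4294967296 56 (fun r => (64 - 4 * natX (sv (spanI m)) r).toNat) := by
        show pkN 4294967296 56 (fun _ => 128) - spanW.getD m 0 = _
        rw [spanW_eq hm]
        have : pkN 4294967296 56 (fun r => (4 * natX (sv (spanI m)) r + 64).toNat) +
            pkN 4294967296 56 (fun r => (64 - 4 * natX (sv (spanI m)) r).toNat) =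
            pkN 4294967296 56 (fun _ => 128) := by
          rw [← pkN_add]
          refine pkN_congr _ _ _ _ fun r hr => ?_
          have := abs_le.1 (hv ⟨r, hr⟩)
          rw [natX_lt _ hr]
          omega
        omega
      cases b
      · show c * Nat.sub _ _ = _
        rw [hneg, ← pkN_mul]
        refine pkN_congr _ _ _ _ fun r hr => ?_
        have hvr := abs_le.1 (hv ⟨r, hr⟩)
        rw [natX_lt _ hr, if_neg (by simp)]
        have hnn : 0 ≤ (c : ℤ) * (64 - 4 * sv (spanI m) ⟨r, hr⟩) := mul_nonneg (by positivity) (by omega)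
        zify
        rw [Int.toNat_of_nonneg (by omega), Int.toNat_of_nonneg (by nlinarith)]
        ring
      · show c * spanW.getD m 0 = _
        rw [spanW_eq hm, ← pkN_mul]
        refine pkN_congr _ _ _ _ fun r hr => ?_
        have hvr := abs_le.1 (hv ⟨r, hr⟩)
        rw [natX_lt _ hr, if_pos rfl]
        have hnn : 0 ≤ (c : ℤ) * (4 * sv (spanI m) ⟨r, hr⟩ + 64) := mul_nonneg (by positivity) (by omega)
        zify
        rw [Int.toNat_of_nonneg (by omega), Int.toNat_of_nonneg (by nlinarith)]
        ring
    refine ⟨?_, fun r => ?_⟩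
    · show spanSum l + c * _ = _
      rw [e]
      refine (congrArg (_ + ·) hterm).trans ?_
      rw [← pkN_add]
      refine pkN_congr _ _ _ _ fun r hr => ?_
      have h1 := abs_le.1 (hb ⟨r, hr⟩)
      have hvr := abs_le.1 (hv ⟨r, hr⟩)
      rw [htot, natX_lt _ hr, natX_lt _ hr, natX_lt _ hr]
      simp only [spanZ, Pi.add_apply, Pi.smul_apply, smul_eq_mul]
      push_cast
      have p1 : 0 ≤ (if b = true then (c : ℤ) else -(c : ℤ)) * (4 * sv (spanI m) ⟨r, hr⟩) + 64 * c := by
        split <;> nlinarith
      generalize (if b = true then (c : ℤ) else -(c : ℤ)) = q at p1 ⊢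
      rw [show q * (4 * sv (spanI m) ⟨r, hr⟩) = 4 * (q * sv (spanI m) ⟨r, hr⟩) by ring] at p1 ⊢
      omega
    · rw [htot]
      simp only [spanZ, Pi.add_apply, Pi.smul_apply, smul_eq_mul]
      have h1 := hb r
      have h2 : |(if b = true then (c : ℤ) else -(c : ℤ)) * sv (spanI m) r| ≤ 4 * c := by
        rw [abs_mul]
        have : |if b = true then (c : ℤ) else -(c : ℤ)| = c := by
          split
          · exact Nat.abs_cast c
          · rw [abs_neg]; exact Nat.abs_cast c
        rw [this, mul_comm (4 : ℤ)]
        exact mul_le_mul_of_nonneg_left (hv r) (by positivity)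
      push_cast
      exact (abs_add_le _ _).trans (by omega)

theorem span_frame (j : Fin 56) : spanZ (spanC.getD j []) = Pi.single j (7800 : ℤ) := by
  have hj := spanC_small
  simp only [List.all_eq_true, List.mem_range, Nat.blt_eq] at hj
  obtain ⟨e, hb⟩ := spanSum_spec _ (hj j j.2)
  have h := allBin_spec _ _ _ _ span_ok.1 j (Nat.zero_le _) j.2 (lt_of_lt_of_le j.2 (by decide))
  unfold spanOK at h
  have h' : spanSum (spanC.getD j []) = pkN 4294967296 56 (fun r =>
      64 * absTot (spanC.getD j []) + pick (Nat.beq r j) 31200 0) := Nat.eq_of_beq_eq_true h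
  rw [e] at h'
  have ht := List.all_eq_true.1 span_abs j (List.mem_range.2 j.2)
  rw [Nat.blt_eq] at ht
  have hT : absTot (spanC.getD j []) * 64 + 31200 < 4294967296 := by omega
  funext r
  have hd := pkN_inj (fun i hi => by have := abs_le.1 (hb ⟨i, hi⟩); rw [natX_lt _ hi]; omega)
    (fun i _ => by rw [pick_eq]; split <;> omega) h' r r.2
  rw [natX_fin, pick_eq] at hd
  have := abs_le.1 (hb r)
  by_cases er : r = j
  · subst er
    rw [if_pos (by simp)] at hd
    rw [Pi.single_eq_same]
    omega
  · rw [if_neg (by simpa [Fin.val_inj] using er)] at hd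
    rw [Pi.single_eq_of_ne er]
    omega

theorem single_bits : allBin 16240
    (fun i => !(Nat.beq (classBit 5 i) 1) || memN i singles) 14 0 = true := by
  decide +kernel

theorem singles_lt : ∀ s ∈ singles, s < 16240 := by decide +kernel

theorem endo_fix_single {F : lat →+ lat} (hF : IsEndo F)
    (hfix : ∀ b : Fin 5, ∀ h : sv (baseL.getD b 0) ∈ lat,
      (F ⟨_, h⟩ : X) = sv (baseL.getD b 0))
    (hmem : ∀ i < 16240, sv i ∈ lat) {s : ℕ} (hs : s ∈ singles) :
    (F ⟨sv s, hmem s (singles_lt s hs)⟩ : X) = sv s := by
  have hlt := singles_lt s hs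
  obtain ⟨i, hi, he⟩ := short_complete (F ⟨sv s, hmem s hlt⟩).2 (by rw [hF.pres, sv_norm hlt])
  have hb : ∀ b : Fin 5, (F ⟨sv (baseI.getD b 0), hmem _ (baseI_lt b).1⟩ : X) = sv (baseI.getD b 0) := by
    intro b
    have h := hF.comm ⟨_, hmem _ (baseI_lt b).2⟩
    rw [hfix b] at h
    simp only [← sv_baseI] at h
    exact h
  have hpd : ∀ r < 10, pdot i r = pdot s r := by
    intro r hr
    unfold pdot
    obtain ⟨hv, hlt'⟩ := profVec_vals ⟨r, hr⟩
    simp only at hv hlt'
    have hfixr : (F ⟨sv (profVec r), hmem _ hlt'⟩ : X) = sv (profVec r) := by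
      simp only [hv]
      interval_cases r
      · exact hfix 0 _
      · exact hb 0
      · exact hfix 1 _
      · exact hb 1
      · exact hfix 2 _
      · exact hb 2
      · exact hfix 3 _
      · exact hb 3
      · exact hfix 4 _
      · exact hb 4
    rw [he]
    conv_lhs => rw [← hfixr]
    exact hF.pres _ _
  have hp : profOf i = profOf s := by
    rw [(profOf_spec hi).1, (profOf_spec hlt).1]
    exact pkN_congr _ _ _ _ fun r hr => by rw [hpd r hr]
  have hbit := class_single hi
  have hmemP : profOf s ∈ singleP := by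
    have := List.mem_map_of_mem (f := profOf) hs
    rwa [root_prof.2] at this
  rw [hp, (memN_iff _ _).2 hmemP] at hbit
  have hsi : i ∈ singles := by
    have hok := allBin_spec _ _ _ _ single_bits i (Nat.zero_le _) hi (by omega)
    rw [← memN_iff]
    have h1 := (classOKp_spec (classOK_all hi)).2
    rw [Nat.beq_eq, hp, (memN_iff _ _).2 hmemP] at h1
    have h1' : classBit 5 i = 1 := h1.symm
    rw [h1'] at hok
    simpa using hok
  have heq : i = s := by
    have hnd : (singles.map profOf).Nodup := by
      rw [root_prof.2]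
      exact single_set.2
    exact List.inj_on_of_nodup_map hnd hsi hs hp
  rw [← he, heq]

theorem endo_trivial {F : lat →+ lat} (hF : IsEndo F) (hmem : ∀ i < 16240, sv i ∈ lat)
    (hfix : ∀ b : Fin 5, ∀ h : sv (baseL.getD b 0) ∈ lat,
      (F ⟨_, h⟩ : X) = sv (baseL.getD b 0)) : ∀ x, F x = x := by
  have hspan : ∀ m < 56, ∀ h : sv (spanI m) ∈ lat, (F ⟨_, h⟩ : X) = sv (spanI m) := by
    intro m
    induction m using Nat.strong_induction_on with
    | _ m ih =>
      intro hm h
      have hok := allBin_spec _ _ _ _ span_ok.2.2 m (Nat.zero_le _) hm (lt_of_lt_of_le hm (by decide))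
      by_cases he : m % 2 = 0
      · have hcase : spanI m ∈ baseL ++ singles := by
          rw [← memN_iff]
          revert hok
          unfold spanIdxOK
          rw [show Nat.beq (Nat.land m 1) 0 = true by
            rw [Nat.beq_eq]; show m &&& 1 = 0; rw [Nat.and_one_is_mod]; exact he]
          show (Bool.rec false (memN (spanI m) (baseL ++ singles)) _ : Bool) = true → _
          generalize Nat.blt _ 16240 = a
          cases a <;> simp
        rcases List.mem_append.1 hcase with hc | hc
        · obtain ⟨b, hb, hbe⟩ := List.mem_iff_getElem.1 hc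
          have e : sv (spanI m) = sv (baseL.getD b 0) := by
            rw [List.getD_eq_getElem _ _ hb, hbe]
          simp only [e]
          exact hfix ⟨b, hb⟩ _
        · exact endo_fix_single hF hfix hmem hc
      · have hrot : sv (spanI m) = rotX (sv (spanI (m - 1))) := by
          revert hok
          unfold spanIdxOK
          rw [show Nat.beq (Nat.land m 1) 0 = false by
            rw [Bool.eq_false_iff, ne_eq, Nat.beq_eq]; show ¬ m &&& 1 = 0; rw [Nat.and_one_is_mod]; exact he]
          show (Bool.rec false (allBin 56 _ 6 0) _ : Bool) = true → _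
          intro hok
          have hall : allBin 56 (fun r => Nat.beq (lane (app idT (el (spanI m))) r)
              (pick (Nat.beq (Nat.land r 1) 0)
                (Nat.sub 128 (lane (app idT (el (spanI (m - 1)))) (Nat.add r 1)))
                (lane (app idT (el (spanI (m - 1)))) (Nat.sub r 1)))) 6 0 = true := by
            revert hok
            show (Bool.rec false _ (Nat.blt (spanI m) 16240) : Bool) = true → _
            cases Nat.blt (spanI m) 16240
            · intro hok; exact absurd hok (by simp)
            · exact id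
          funext r
          have hr := allBin_spec _ _ _ _ hall r (Nat.zero_le _) r.2 (lt_of_lt_of_le r.2 (by decide))
          rw [Nat.beq_eq, pick_eq] at hr
          have hy := lane_app_id (el_okCode (spanIdx_small ⟨m, hm⟩)) r
          by_cases her : (r : ℕ) % 2 = 0
          · rw [if_pos (by rw [Nat.beq_eq]; show (r : ℕ) &&& 1 = 0; rw [Nat.and_one_is_mod]; exact her)] at hr
            have hx := lane_app_id (el_okCode (spanIdx_small ⟨m - 1, by omega⟩)) ⟨(r : ℕ) + 1, by omega⟩
            have hbd := abs_le.1 (sv_abs (spanIdx_small ⟨m - 1, by omega⟩) ⟨(r : ℕ) + 1, by omega⟩)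
            rw [rotX_even her]
            have hr' : lane (app idT (el (spanI m))) r =
                128 - lane (app idT (el (spanI (m - 1)))) ((r : ℕ) + 1) := hr
            simp only [sv, spanI] at *
            omega
          · rw [if_neg (by rw [Nat.beq_eq]; show ¬ (r : ℕ) &&& 1 = 0; rw [Nat.and_one_is_mod]; exact her)] at hr
            have hx := lane_app_id (el_okCode (spanIdx_small ⟨m - 1, by omega⟩)) ⟨(r : ℕ) - 1, by omega⟩
            rw [rotX_odd (by omega)]
            have hr' : lane (app idT (el (spanI m))) r =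
                lane (app idT (el (spanI (m - 1)))) ((r : ℕ) - 1) := hr
            simp only [sv, spanI] at *
            omega
        have hprev := hmem _ (spanIdx_small ⟨m - 1, by omega⟩)
        have h' := hF.comm ⟨sv (spanI (m - 1)), hprev⟩
        rw [ih (m - 1) (by omega) (by omega) hprev] at h'
        simp only [← hrot] at h'
        exact h'
  let K : AddSubgroup lat :=
    { carrier := {x | F x = x}
      add_mem' := fun {a b} ha hb => by
        show F (a + b) = a + b
        rw [map_add, ha, hb]
      zero_mem' := map_zero F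
      neg_mem' := fun {a} ha => by
        show F (-a) = -a
        rw [map_neg, ha] }
  have hframe : ∀ j : Fin 56, F ⟨_, frame_lat j⟩ = ⟨_, frame_lat j⟩ := by
    intro j
    have hj := spanC_small
    simp only [List.all_eq_true, List.mem_range, Nat.blt_eq] at hj
    have hz : ∀ l : List (ℕ × Bool × ℕ), (∀ a ∈ l, a.1 < 56) →
        ∃ h : spanZ l ∈ lat, (⟨_, h⟩ : lat) ∈ K := by
      intro l
      induction l with
      | nil => exact fun _ => ⟨zero_mem _, (map_zero F : _)⟩
      | cons a t ih =>
        intro ht
        obtain ⟨h, hk⟩ := ih fun x hx => ht x (List.mem_cons_of_mem _ hx)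
        have ha := ht a List.mem_cons_self
        have hsm := hmem _ (spanIdx_small ⟨a.1, ha⟩)
        exact ⟨add_mem (zsmul_mem hsm _) h, K.add_mem
          (K.zsmul_mem (show (⟨sv (spanI a.1), hsm⟩ : lat) ∈ K from Subtype.ext (hspan _ ha hsm)) _) hk⟩
    obtain ⟨h, hk⟩ := hz _ (hj j j.2)
    have e : (⟨_, h⟩ : lat) = (1950 : ℕ) • (⟨_, frame_lat j⟩ : lat) := by
      refine Subtype.ext ?_
      show spanZ (spanC.getD j []) = (1950 : ℕ) • (Pi.single j (4 : ℤ) : X)
      rw [span_frame, ← Pi.single_smul']
      norm_num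
    have hk' : F ((1950 : ℕ) • (⟨_, frame_lat j⟩ : lat)) = (1950 : ℕ) • (⟨_, frame_lat j⟩ : lat) := e ▸ hk
    rw [map_nsmul] at hk'
    exact nsmul_right_injective (by norm_num : (1950 : ℕ) ≠ 0) hk'
  intro x
  have e : (4 : ℕ) • x = ∑ j, (x : X) j • (⟨_, frame_lat j⟩ : lat) := by
    refine Subtype.ext ?_
    rw [AddSubmonoidClass.coe_finset_sum]
    funext r
    simp [Finset.sum_apply, Pi.single_apply, mul_comm]
  have h4 : F ((4 : ℕ) • x) = (4 : ℕ) • x := by
    rw [e, map_sum]
    exact Finset.sum_congr rfl fun j _ => by rw [map_zsmul, hframe j]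
  rw [map_nsmul] at h4
  exact nsmul_right_injective (by norm_num : (4 : ℕ) ≠ 0) h4

end CfsgLib.RuGroup
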