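import Cfsg.Agent.Lib.RuGroup.Endo
import Cfsg.Agent.Lib.RuGroup.CheckTreeA
import Cfsg.Agent.Lib.RuGroup.CheckTreeB

/-!
The listed vectors lie in the lattice, the chosen maps are automorphisms, and the automorphism
group of the lattice acts faithfully on the short vectors.
-/

set_option autoImplicit false
set_option maxRecDepth 100000

namespace CfsgLib.RuGroup

open CfsgLib.PresCert CfsgLib.LocalEven.RuRootless Cfsg.Spor

attribute [local irreducible] colW app el idT profT classBits vecT lane pkN sv vec profOf singleP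

theorem treeStep_spec {t : BTree} {T : ℕ → ℕ} {ng root i : ℕ} (h : treeStep t T ng root i = true) :
    (i = 0 ∧ child t i = root) ∨
      (i ≠ 0 ∧ parent t i < i ∧ gen t i < ng ∧
        sends (T (gen t i)) (child t (parent t i)) (child t i) = true) := by
  unfold treeStep at h
  revert h
  by_cases h0 : i = 0
  · subst h0
    rw [show Nat.beq 0 0 = true from rfl]
    intro h
    exact Or.inl ⟨rfl, Nat.eq_of_beq_eq_true h⟩
  · rw [show Nat.beq i 0 = false by simpa [Bool.eq_false_iff] using h0]
    intro h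
    refine Or.inr ⟨h0, ?_⟩
    revert h
    generalize sends (T (gen t i)) (child t (parent t i)) (child t i) = c
    cases h1 : Nat.blt (parent t i) i <;> cases h2 : Nat.blt (gen t i) ng <;> cases c <;> simp_all

theorem tree0_step {i : ℕ} (hi : i < 16240) :
    treeStep treeT0 uT 2 0 i = true := by
  rcases lt_or_ge i 4096 with h | h
  · exact allBin_spec _ _ _ _ tree0_part0 i (Nat.zero_le _) h (by omega)
  rcases lt_or_ge i 8192 with h' | h'
  · exact allBin_spec _ _ _ _ tree0_part1 i h h' (by omega)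
  rcases lt_or_ge i 12288 with h'' | h''
  · exact allBin_spec _ _ _ _ tree0_part2 i h' h'' (by omega)
  · exact allBin_spec _ _ _ _ tree0_part3 i h'' hi (by omega)

theorem tree0_bound : allBin 16240 (fun i => Nat.blt (child treeT0 i) 16240) 14 0 = true := by
  decide +kernel

theorem child0_lt {i : ℕ} (hi : i < 16240) : child treeT0 i < 16240 := by
  have h := allBin_spec _ _ _ _ tree0_bound i (Nat.zero_le _) hi (by omega)
  simpa using h

theorem tree0_full : Nat.beq (treeSet treeT0 16240 14) (Nat.pred (Nat.shiftLeft 1 16240)) = true := by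
  decide +kernel

theorem full_mem {S n v : ℕ} (h : Nat.beq S (Nat.pred (Nat.shiftLeft 1 n)) = true) (hv : v < n) :
    S.testBit v = true := by
  rw [Nat.eq_of_beq_eq_true h]
  show ((1 <<< n) - 1).testBit v = true
  rw [Nat.one_shiftLeft, Nat.testBit_two_pow_sub_one]
  simpa using hv

theorem exists_child0 {v : ℕ} (hv : v < 16240) : ∃ i < 16240, child treeT0 i = v := by
  have h := full_mem tree0_full hv
  rw [treeSet, testBit_orBin] at h
  obtain ⟨i, -, hi, -, he⟩ := h
  exact ⟨i, hi, (testBit_bit1 _ _).1 he⟩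

theorem four_inj {a b : X} (h : (4 : ℕ) • a = 4 • b) : a = b :=
  nsmul_right_injective (by norm_num : (4 : ℕ) ≠ 0) h

theorem sv_mem {v : ℕ} (hv : v < 16240) : sv v ∈ lat := by
  have key : ∀ i, i < 16240 → sv (child treeT0 i) ∈ lat := by
    intro i
    induction i using Nat.strong_induction_on with
    | _ i ih =>
      intro hi
      rcases treeStep_spec (tree0_step hi) with ⟨rfl, he⟩ | ⟨-, hp, hg, hs⟩
      · rw [he, sv_frame (by norm_num)]
        exact frame_lat _
      · obtain ⟨z, hz, hU⟩ := U_lat (g := gen treeT0 i) (by omega) (ih _ hp (by omega))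
        rw [sends_spec (colIs_U (by omega)).1 (child0_lt (by omega)) (child0_lt hi) hs] at hU
        rwa [four_inj hU]
  obtain ⟨i, hi, rfl⟩ := exists_child0 hv
  exact key i hi

/-! ### The maps -/

/-- A chosen map on the lattice. -/
noncomputable def uEndo (g : Fin 8) : lat →+ lat where
  toFun x := ⟨(U_lat g.2 x.2).choose, (U_lat g.2 x.2).choose_spec.1⟩
  map_zero' := Subtype.ext (four_inj (by
    rw [← (U_lat g.2 (0 : lat).2).choose_spec.2]; simp))
  map_add' x y := Subtype.ext (four_inj (by
    show (4 : ℕ) • _ = (4 : ℕ) • (_ + _)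
    rw [nsmul_add, ← (U_lat g.2 (x + y).2).choose_spec.2, ← (U_lat g.2 x.2).choose_spec.2,
      ← (U_lat g.2 y.2).choose_spec.2, ← map_add]
    rfl))

theorem uEndo_spec (g : Fin 8) (x : lat) : U g (x : X) = (4 : ℕ) • (uEndo g x : X) :=
  (U_lat g.2 x.2).choose_spec.2

theorem dot_four (x y : X) : dot ((4 : ℕ) • x) ((4 : ℕ) • y) = 16 * dot x y := by
  simp only [dot, Finset.mul_sum, Pi.smul_apply, nsmul_eq_mul, Nat.cast_ofNat]
  exact Finset.sum_congr rfl fun j _ => by ring

theorem uEndo_isEndo (g : Fin 8) : IsEndo (uEndo g) where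
  pres x y := by
    have := dot_U g.2 (x : X) (y : X)
    rw [uEndo_spec, uEndo_spec, dot_four] at this
    omega
  comm x := four_inj (by
    rw [← uEndo_spec, ← map_nsmul rotX, ← uEndo_spec]
    exact U_rot g.2 _)

theorem IsEndo.comp {F G : lat →+ lat} (hF : IsEndo F) (hG : IsEndo G) : IsEndo (F.comp G) where
  pres x y := (hF.pres _ _).trans (hG.pres _ _)
  comm x := by
    have h : G ⟨rotX x.1, opZ_mem (by norm_num) x.2⟩ =
        ⟨rotX (G x).1, opZ_mem (by norm_num) (G x).2⟩ := Subtype.ext (hG.comm x)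
    show (F (G _) : X) = rotX (F (G x) : X)
    rw [h]
    exact hF.comm _

theorem IsEndo.ident : IsEndo (AddMonoidHom.id lat) := ⟨fun _ _ => rfl, fun _ => rfl⟩

theorem uEndo_sends (g : Fin 8) {a b : ℕ} (ha : a < 16240) (hb : b < 16240)
    (h : sends (uT g) a b = true) : uEndo g ⟨sv a, sv_mem ha⟩ = ⟨sv b, sv_mem hb⟩ := by
  refine Subtype.ext (four_inj ?_)
  rw [← uEndo_spec]
  exact sends_spec (colIs_U g.2).1 ha hb h

/-- Powers of an endomorphism. -/
noncomputable def endoPow (F : lat →+ lat) : ℕ → (lat →+ lat)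
  | 0 => AddMonoidHom.id lat
  | n + 1 => F.comp (endoPow F n)

theorem endoPow_isEndo {F : lat →+ lat} (hF : IsEndo F) : ∀ n, IsEndo (endoPow F n)
  | 0 => IsEndo.ident
  | n + 1 => hF.comp (endoPow_isEndo hF n)

theorem endoPow_comm (F : lat →+ lat) : ∀ n x, endoPow F n (F x) = F (endoPow F n x)
  | 0, _ => rfl
  | n + 1, x => by
    show F (endoPow F n (F x)) = _
    rw [endoPow_comm F n]
    rfl

theorem powOK_spec {g b : ℕ} (h : powOK g b = true) :
    chain g b 0 = baseL.getD b 0 ∧ chain g b 29 = baseL.getD b 0 ∧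
      ∀ t < 29, chain g b (t + 1) < 16240 ∧ sends (uT g) (chain g b t) (chain g b (t + 1)) = true := by
  unfold powOK at h
  revert h
  cases h1 : Nat.beq (chain g b 0) (baseL.getD b 0) with
  | false => exact fun h => absurd h (by simp)
  | true =>
    cases h2 : Nat.beq (chain g b 29) (baseL.getD b 0) with
    | false => exact fun h => absurd h (by simp)
    | true =>
      intro h
      refine ⟨Nat.eq_of_beq_eq_true h1, Nat.eq_of_beq_eq_true h2, fun t ht => ?_⟩
      have ht' := allBin_spec _ _ _ _ h t (Nat.zero_le _) ht (lt_of_lt_of_le ht (by decide))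
      revert ht'
      cases h3 : Nat.blt (chain g b (Nat.add t 1)) 16240 with
      | false => exact fun h => absurd h (by simp)
      | true => exact fun ht' => ⟨Nat.le_of_ble_eq_true h3, ht'⟩

theorem uEndo_pow (g : Fin 8) (x : lat) : endoPow (uEndo g) 29 x = x := by
  refine endo_trivial (endoPow_isEndo (uEndo_isEndo g) 29) (fun i hi => sv_mem hi) (fun b hmem => ?_) x
  obtain ⟨h0, h29, hst⟩ := powOK_spec
    (List.all_eq_true.1 (List.all_eq_true.1 u_pow g (List.mem_range.2 g.2)) b (List.mem_range.2 b.2))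
  have hlt : ∀ t, t ≤ 29 → chain g b t < 16240 := fun t ht => by
    cases t with
    | zero => rw [h0]; exact (baseI_lt b).2
    | succ t => exact (hst t (by omega)).1
  have key : ∀ t (ht : t ≤ 29), endoPow (uEndo g) t ⟨sv (chain g b 0), sv_mem (hlt 0 (by omega))⟩ =
      ⟨sv (chain g b t), sv_mem (hlt t ht)⟩ := by
    intro t
    induction t with
    | zero => intro _; rfl
    | succ t ih =>
      intro ht
      show uEndo g (endoPow (uEndo g) t _) = _
      rw [ih (by omega)]
      exact uEndo_sends g (hlt t (by omega)) (hlt (t + 1) ht) (hst t (by omega)).2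
  have h := congrArg Subtype.val (key 29 le_rfl)
  simp only [h0, h29] at h
  exact h

/-- The automorphism of the lattice given by a chosen map. -/
noncomputable def uEquiv (g : Fin 8) : lat ≃+ lat :=
  { uEndo g with
    invFun := endoPow (uEndo g) 28
    left_inv := fun x => by
      show endoPow (uEndo g) 28 (uEndo g x) = x
      rw [endoPow_comm]
      exact uEndo_pow g x
    right_inv := fun x => uEndo_pow g x }

/-! ### Automorphisms of the complex lattice -/

theorem flat_ruI (v : ruLattice) : (latEquiv (ruI v) : X) = rotX (latEquiv v : X) := flat_gI v.1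

theorem norm_latEquiv (v : ruLattice) : ruNorm v.1 = dot (latEquiv v : X) (latEquiv v : X) :=
  ruNorm_eq v.1

theorem dot_of_norm {F : lat →+ lat} (h : ∀ x : lat, dot (F x : X) (F x) = dot (x : X) x) (x y : lat) :
    dot (F x : X) (F y) = dot (x : X) y := by
  have hs := h (x + y)
  rw [map_add, AddSubgroup.coe_add, AddSubgroup.coe_add] at hs
  have e : ∀ a b : X, dot (a + b) (a + b) = dot a a + dot b b + 2 * dot a b := fun a b => by
    rw [dot_add_left, dot_comm a (a + b), dot_comm b (a + b), dot_add_left, dot_add_left, dot_comm b a]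
    ring
  rw [e, e, h x, h y] at hs
  omega

/-- The endomorphism of the real form given by an automorphism. -/
noncomputable def endoOf (f : fourRu) : lat →+ lat where
  toFun x := latEquiv (f.1 (latEquiv.symm x))
  map_zero' := by
    have h := f.2.1 0 0
    rw [add_zero] at h
    have h0 : f.1 (0 : ruLattice) = 0 := left_eq_add.1 h
    rw [map_zero, h0, map_zero]
  map_add' x y := by rw [map_add, f.2.1, map_add]

theorem endoOf_isEndo (f : fourRu) : IsEndo (endoOf f) where
  pres := dot_of_norm fun x => by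
    show dot (latEquiv (f.1 (latEquiv.symm x)) : X) (latEquiv (f.1 (latEquiv.symm x))) = _
    rw [← norm_latEquiv, f.2.2.2, norm_latEquiv, AddEquiv.apply_symm_apply]
  comm x := by
    show (latEquiv (f.1 (latEquiv.symm _)) : X) = _
    have e : latEquiv.symm ⟨rotX x.1, opZ_mem (by norm_num) x.2⟩ = ruI (latEquiv.symm x) := by
      apply latEquiv.injective
      rw [AddEquiv.apply_symm_apply]
      refine Subtype.ext ?_
      rw [flat_ruI, AddEquiv.apply_symm_apply]
    rw [e, f.2.2.1, flat_ruI]
    rfl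

/-- An automorphism of the complex lattice from one of the real form. -/
noncomputable def ofEquiv (e : lat ≃+ lat) (he : IsEndo e.toAddMonoidHom) : fourRu :=
  ⟨(latEquiv.toEquiv.trans e.toEquiv).trans latEquiv.symm.toEquiv, by
    refine ⟨fun v w => ?_, fun v => ?_, fun v => ?_⟩
    · show latEquiv.symm (e (latEquiv (v + w))) = latEquiv.symm (e (latEquiv v)) + latEquiv.symm (e (latEquiv w))
      rw [map_add, map_add, map_add]
    · show latEquiv.symm (e (latEquiv (ruI v))) = ruI (latEquiv.symm (e (latEquiv v)))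
      apply latEquiv.injective
      rw [AddEquiv.apply_symm_apply]
      refine Subtype.ext ?_
      rw [flat_ruI, AddEquiv.apply_symm_apply]
      have h : latEquiv (ruI v) = ⟨rotX (latEquiv v).1, opZ_mem (by norm_num) (latEquiv v).2⟩ :=
        Subtype.ext (flat_ruI v)
      rw [h]
      exact he.comm (latEquiv v)
    · show ruNorm (latEquiv.symm (e (latEquiv v))).1 = ruNorm v.1
      rw [norm_latEquiv, AddEquiv.apply_symm_apply, norm_latEquiv]
      exact he.pres _ _⟩

theorem endoOf_ofEquiv (e : lat ≃+ lat) (he : IsEndo e.toAddMonoidHom) (x : lat) :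
    endoOf (ofEquiv e he) x = e x := by
  show latEquiv (latEquiv.symm (e (latEquiv (latEquiv.symm x)))) = e x
  rw [AddEquiv.apply_symm_apply, AddEquiv.apply_symm_apply]

theorem endoOf_mul (f g : fourRu) (x : lat) : endoOf (f * g) x = endoOf f (endoOf g x) := by
  show latEquiv (f.1 (g.1 (latEquiv.symm x))) =
    latEquiv (f.1 (latEquiv.symm (latEquiv (g.1 (latEquiv.symm x)))))
  rw [AddEquiv.symm_apply_apply]

theorem endoOf_one (x : lat) : endoOf 1 x = x := AddEquiv.apply_symm_apply _ _

theorem endoOf_inj {f g : fourRu} (h : ∀ x, endoOf f x = endoOf g x) : f = g := by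
  refine Subtype.ext (Equiv.ext fun v => latEquiv.injective ?_)
  have h' : latEquiv (f.1 (latEquiv.symm (latEquiv v))) = latEquiv (g.1 (latEquiv.symm (latEquiv v))) :=
    h (latEquiv v)
  rwa [AddEquiv.symm_apply_apply] at h'

/-! ### The action on short vectors -/

/-- A short vector as a member of the lattice. -/
noncomputable def pv (i : Fin 16240) : lat := ⟨sv i, sv_mem i.2⟩

theorem pv_inj : Function.Injective pv := fun i j h =>
  Fin.ext (sv_inj i.2 j.2 (congrArg Subtype.val h))

theorem exists_image (f : fourRu) (i : Fin 16240) : ∃ j, endoOf f (pv i) = pv j := by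
  obtain ⟨k, hk, he⟩ := short_complete (endoOf f (pv i)).2
    (((endoOf_isEndo f).pres _ _).trans (sv_norm i.2))
  exact ⟨⟨k, hk⟩, Subtype.ext he.symm⟩

noncomputable instance : SMul fourRu (Fin 16240) := ⟨fun f i => (exists_image f i).choose⟩

theorem smul_spec (f : fourRu) (i : Fin 16240) : endoOf f (pv i) = pv (f • i) :=
  (exists_image f i).choose_spec

noncomputable instance : MulAction fourRu (Fin 16240) where
  one_smul i := pv_inj (by rw [← smul_spec, endoOf_one])
  mul_smul f g i := pv_inj (by rw [← smul_spec, endoOf_mul, smul_spec g, smul_spec f])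

/-- The base as short vectors. -/
def basePt : Fin 5 → Fin 16240 := ![0, 112, 144, 48, 7745]

theorem basePt_eq (b : Fin 5) : (basePt b : ℕ) = baseL.getD b 0 := by
  fin_cases b <;> rfl

theorem eq_one_of_fix {f : fourRu} (h : ∀ b, f • basePt b = basePt b) : f = 1 := by
  refine endoOf_inj fun x => ?_
  rw [endoOf_one]
  refine endo_trivial (endoOf_isEndo f) (fun i hi => sv_mem hi) (fun b hmem => ?_) x
  have e : (⟨sv (baseL.getD b 0), hmem⟩ : lat) = pv (basePt b) :=
    Subtype.ext (congrArg sv (basePt_eq b).symm)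
  rw [e, smul_spec, h b]
  show sv (basePt b) = _
  rw [basePt_eq]

instance : FaithfulSMul fourRu (Fin 16240) where
  eq_of_smul_eq_smul {f g} h := by
    have : g⁻¹ * f = 1 := eq_one_of_fix fun b => by rw [mul_smul, h, inv_smul_smul]
    exact (inv_mul_eq_one.1 this).symm

instance : Finite fourRu :=
  Finite.of_injective (MulAction.toPerm : fourRu → Equiv.Perm (Fin 16240)) MulAction.toPerm_injective

/-- A chosen map as an automorphism. -/
noncomputable def uG (g : Fin 8) : fourRu := ofEquiv (uEquiv g) ⟨(uEndo_isEndo g).pres, (uEndo_isEndo g).comm⟩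

theorem endoOf_uG (g : Fin 8) (x : lat) : endoOf (uG g) x = uEndo g x := endoOf_ofEquiv _ _ x

theorem uG_smul (g : Fin 8) {a b : Fin 16240} (h : sends (uT g) a b = true) : uG g • a = b :=
  pv_inj (by rw [← smul_spec, endoOf_uG]; exact uEndo_sends g a.2 b.2 h)

theorem endoOf_pow (f : fourRu) : ∀ (n : ℕ) (x : lat), endoOf (f ^ n) x = endoPow (endoOf f) n x
  | 0, x => by rw [pow_zero, endoOf_one]; rfl
  | n + 1, x => by
    rw [pow_succ', endoOf_mul, endoOf_pow f n]
    rfl

theorem endoPow_congr {F G : lat →+ lat} (h : ∀ x, F x = G x) : ∀ n x, endoPow F n x = endoPow G n x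
  | 0, _ => rfl
  | n + 1, x => by
    show F (endoPow F n x) = G (endoPow G n x)
    rw [endoPow_congr h n, h]

theorem uG_pow (g : Fin 8) : uG g ^ 29 = 1 :=
  endoOf_inj fun x => by
    rw [endoOf_pow, endoOf_one, endoPow_congr (endoOf_uG g) 29, uEndo_pow]

/-! ### The scalar -/

theorem rotX_rotX (x : X) : rotX (rotX x) = -x := by
  funext r
  by_cases h : (r : ℕ) % 2 = 0
  · rw [rotX_even h, rotX_odd (by simp only; omega)]
    exact congrArg (fun a => -x a) (Fin.ext (by simp only; omega))
  · rw [rotX_odd (by omega), rotX_even (by simp only; omega)]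
    exact congrArg (fun a => -x a) (Fin.ext (by simp only; omega))

/-- Multiplication by `i` on the real form. -/
noncomputable def rotEquiv : lat ≃+ lat where
  toFun x := ⟨rotX x.1, opZ_mem (by norm_num) x.2⟩
  invFun x := ⟨-rotX x.1, neg_mem (opZ_mem (by norm_num) x.2)⟩
  left_inv x := Subtype.ext (by
    show -rotX (rotX x.1) = x.1
    rw [rotX_rotX, neg_neg])
  right_inv x := Subtype.ext (by
    show rotX (-rotX x.1) = x.1
    rw [map_neg, rotX_rotX, neg_neg])
  map_add' x y := Subtype.ext (map_add rotX x.1 y.1)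

theorem rotEquiv_isEndo : IsEndo rotEquiv.toAddMonoidHom where
  pres x y := dot_rotX _ _
  comm _ := rfl

/-- Multiplication by `i` as an automorphism. -/
noncomputable def rotG : fourRu := ofEquiv rotEquiv rotEquiv_isEndo

theorem endoOf_rotG (x : lat) : endoOf rotG x = ⟨rotX x.1, opZ_mem (by norm_num) x.2⟩ :=
  endoOf_ofEquiv _ _ x

theorem rotG_central (f : fourRu) : f * rotG = rotG * f :=
  endoOf_inj fun x => by
    rw [endoOf_mul, endoOf_mul, endoOf_rotG, endoOf_rotG]
    exact Subtype.ext ((endoOf_isEndo f).comm x)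

/-! ### The composites -/

/-- The word of a composite. -/
def sW (n : Fin 4) : Fin 8 × Fin 8 × ℕ :=
  (Fin.ofNat 8 (sWord.getD n (0, 0, 0)).1, Fin.ofNat 8 (sWord.getD n (0, 0, 0)).2.1,
    (sWord.getD n (0, 0, 0)).2.2)

/-- A composite as an automorphism. -/
noncomputable def sG (n : Fin 4) : fourRu := uG (sW n).1 * uG (sW n).2.1 * rotG ^ (sW n).2.2

theorem sWord_lt : ∀ n : Fin 4, (sWord.getD n (0, 0, 0)).1 < 8 ∧ (sWord.getD n (0, 0, 0)).2.1 < 8 := by
  decide +kernel

theorem col_img {g c : ℕ} (hg : g < 8) (hc : c < 112) : sv (uImg g c) = U g (unitV c) := by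
  obtain ⟨hcol, hi⟩ := colIs_U hg
  have h := allBin_spec _ _ _ _ (List.all_eq_true.1 u_col g (List.mem_range.2 hg)) c
    (Nat.zero_le _) hc (lt_of_lt_of_le hc (by decide))
  obtain ⟨-, -, h3⟩ := colOK_spec h
  obtain ⟨e, b⟩ := hcol c hc
  obtain ⟨e2, b2⟩ := app_id (el_okCode (hi c hc))
  have e' : col (uT g) c = pkN 65536 56 (fun r => (natX (U g (unitV c)) r + 4).toNat) := e
  unfold uImg at *
  rw [e', e2, ← pkN_mul, rep, ← pkN_add] at h3
  funext r
  have hd := pkN_inj (fun i hi' => by
      have h1 := abs_le.1 (b i hi')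
      simp only [AddMonoidHom.comp_apply] at h1
      omega)
    (fun i hi' => by have h1 := abs_le.1 (b2 ⟨i, hi'⟩); rw [natX_lt _ hi']; omega) h3 r r.2
  have h1 := abs_le.1 (b r r.2)
  have h2 := abs_le.1 (b2 r)
  simp only [AddMonoidHom.comp_apply, natX_fin] at h1 hd
  show sv (img (uCol g) c) r = _
  rw [show sv (img (uCol g) c) = vec (el (img (uCol g) c)) by unfold sv; rfl]
  omega

theorem rotPow_unitV : ∀ k c, c < 112 → rotPow k c < 112 ∧
    unitV (rotPow k c) = (fun x => rotX x)^[k] (unitV c)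
  | 0, c, hc => ⟨hc, rfl⟩
  | k + 1, c, hc => by
    obtain ⟨h1, h2⟩ := rotPow_unitV k (rotC c) (rotC_lt ⟨c, hc⟩)
    refine ⟨h1, ?_⟩
    show unitV (rotPow k (rotC c)) = _
    rw [h2, unitV_rotC hc, Function.iterate_succ_apply]

theorem endoOf_rot_pow : ∀ (k : ℕ) (x : lat), (endoOf (rotG ^ k) x : X) = (fun y => rotX y)^[k] x.1
  | 0, x => by rw [pow_zero, endoOf_one]; rfl
  | k + 1, x => by
    rw [pow_succ', endoOf_mul, endoOf_rotG, Function.iterate_succ_apply']
    show rotX _ = _
    rw [endoOf_rot_pow k]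

theorem iterate_hom (f : X →+ X) : ∀ k, ∃ R : X →+ X, ∀ x, R x = (fun y => f y)^[k] x
  | 0 => ⟨AddMonoidHom.id _, fun _ => rfl⟩
  | k + 1 => by
    obtain ⟨R, hR⟩ := iterate_hom f k
    exact ⟨f.comp R, fun x => by rw [Function.iterate_succ_apply', ← hR]; rfl⟩

theorem S4_eq (n : Fin 4) (x : lat) : S4 n (x : X) = (4 : ℕ) • (endoOf (sG n) x : X) := by
  obtain ⟨R, hR⟩ := iterate_hom rotX (sW n).2.2
  have hlin : (U (sW n).1).comp ((U (sW n).2.1).comp R) = (4 : ℕ) • S4 n := by
    refine addHom_ext fun j => ?_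
    have h := allBin_spec _ _ _ _ (List.all_eq_true.1 s_word n (List.mem_range.2 n.2)) j
      (Nat.zero_le _) (by omega) (lt_of_lt_of_le (show (j : ℕ) < 112 by omega) (by decide))
    obtain ⟨hu, hv⟩ := sWord_lt n
    have e1 : ((sW n).1 : ℕ) = (sWord.getD n (0, 0, 0)).1 := Nat.mod_eq_of_lt hu
    have e2 : ((sW n).2.1 : ℕ) = (sWord.getD n (0, 0, 0)).2.1 := Nat.mod_eq_of_lt hv
    have e3 : (sW n).2.2 = (sWord.getD n (0, 0, 0)).2.2 := rfl
    unfold wordOK at h
    rw [← e1, ← e2, ← e3] at h
    obtain ⟨hlt, hrot⟩ := rotPow_unitV (sW n).2.2 j (by omega)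
    have happ : app (uT (sW n).1) (el (img (uCol (sW n).2.1) (rotPow (sW n).2.2 j))) =
        app idT (el (img (sCol n) j)) := by
      revert h
      cases Nat.blt (rotPow (sW n).2.2 j) 112
      · exact fun h => absurd h (by simp)
      · exact fun h => Nat.eq_of_beq_eq_true h
    have hs := sends_eq (colIs_U (sW n).1.2).1
      (el_okCode ((colIs_U (sW n).2.1.2).2 _ hlt))
      (el_okCode ((colIs_S n.2).2 j (by omega))) happ
    rw [AddMonoidHom.comp_apply, AddMonoidHom.comp_apply, AddMonoidHom.smul_apply, hR, ← unitV_lo,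
      ← hrot, ← col_img (sW n).2.1.2 hlt, unitV_lo, S4, lin_single, one_smul]
    unfold sv uImg sImg
    exact hs
  have hx := DFunLike.congr_fun hlin (x : X)
  rw [AddMonoidHom.comp_apply, AddMonoidHom.comp_apply, AddMonoidHom.smul_apply, hR] at hx
  have e : (endoOf (sG n) x : X) = (uEndo (sW n).1 (uEndo (sW n).2.1 (endoOf (rotG ^ (sW n).2.2) x)) : X) := by
    rw [sG, endoOf_mul, endoOf_mul, endoOf_uG, endoOf_uG]
  refine four_inj (hx.symm.trans ?_)
  rw [← endoOf_rot_pow, uEndo_spec, map_nsmul, uEndo_spec, e]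

theorem sG_smul (n : Fin 4) {a b : Fin 16240} (h : sends (sT n) a b = true) : sG n • a = b := by
  refine pv_inj ((smul_spec _ _).symm.trans (Subtype.ext (four_inj ?_)))
  rw [← S4_eq]
  exact sends_spec (colIs_S n.2).1 a.2 b.2 h

end CfsgLib.RuGroup
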