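import Cfsg.Agent.Lib.RuGroup.Shapes
import Cfsg.Agent.Lib.RuGroup.CheckLattice

/-!
The lattice in real coordinates is the lattice of the rows modulo four.
-/

set_option autoImplicit false
set_option maxRecDepth 100000

namespace CfsgLib.RuGroup

open CfsgLib.PresCert CfsgLib.LocalEven.RuRootless Cfsg.Spor

/-- Back from real coordinates. -/
def unflat (x : X) : RuVec := fun p =>
  ⟨x ⟨8 * (p.1 : ℕ) + 2 * (p.2 : ℕ), by omega⟩, x ⟨8 * (p.1 : ℕ) + 2 * (p.2 : ℕ) + 1, by omega⟩⟩

theorem flat_unflat (x : X) : flat (unflat x) = x := by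
  funext j
  unfold flat unflat
  by_cases h : (j : ℕ) % 2 = 0
  · rw [if_pos h]
    exact congrArg x (Fin.ext (by simp only; omega))
  · rw [if_neg h]
    exact congrArg x (Fin.ext (by simp only; omega))

theorem unflat_flat (v : RuVec) : unflat (flat v) = v := by
  funext p
  obtain ⟨⟨n, hn⟩, ⟨t, ht⟩⟩ := p
  apply Zsqrtd.ext
  · show flat v ⟨8 * n + 2 * t, _⟩ = (v _).re
    unfold flat
    simp only
    rw [if_pos (by omega)]
    congr <;> omega
  · show flat v ⟨8 * n + 2 * t + 1, _⟩ = (v _).im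
    unfold flat
    simp only
    rw [if_neg (by omega)]
    congr <;> omega

/-- The lattice in real coordinates. -/
def latR : AddSubgroup X := ruLattice.map flatHom

theorem table_mem {k : ℕ} (hk : k < 20) : flat (ruTable.getD k 0) ∈ latR := by
  refine AddSubgroup.mem_map.2 ⟨_, AddSubgroup.mem_sInf.2 fun L hL => hL.1 _ ?_, rfl⟩
  rw [List.getD_eq_getElem _ _ (by rw [tab_pack.1]; exact hk)]
  exact List.getElem_mem _

theorem op_mem {k : ℕ} (hk : k < 5) {x : X} (hx : x ∈ latR) : opZ k x ∈ latR := by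
  obtain ⟨v, hv, rfl⟩ := AddSubgroup.mem_map.1 hx
  have hv' : ∀ L ∈ ruClosed, gI • v ∈ L ∧ ruRj v ∈ L ∧ ruRk v ∈ L ∧ ruSign v ∈ L ∧ ruShift v ∈ L :=
    fun L hL => hL.2 v (AddSubgroup.mem_sInf.1 hv L hL)
  interval_cases k
  · exact ⟨_, AddSubgroup.mem_sInf.2 fun L hL => (hv' L hL).1, flat_gI v⟩
  · exact ⟨_, AddSubgroup.mem_sInf.2 fun L hL => (hv' L hL).2.1, flat_ruRj v⟩
  · exact ⟨_, AddSubgroup.mem_sInf.2 fun L hL => (hv' L hL).2.2.1, flat_ruRk v⟩
  · exact ⟨_, AddSubgroup.mem_sInf.2 fun L hL => (hv' L hL).2.2.2.1, flat_ruSign v⟩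
  · exact ⟨_, AddSubgroup.mem_sInf.2 fun L hL => (hv' L hL).2.2.2.2, flat_ruShift v⟩

/-- A word of maps applied to a generating vector. -/
def wordX (k : ℕ) : List ℕ → X
  | [] => flat (ruTable.getD k 0)
  | o :: w => opZ o (wordX k w)

theorem wordX_mem {k : ℕ} (hk : k < 20) : ∀ w : List ℕ, (∀ o ∈ w, o < 5) → wordX k w ∈ latR
  | [], _ => table_mem hk
  | o :: w, h => op_mem (h o List.mem_cons_self) (wordX_mem hk w fun a ha => h a (List.mem_cons_of_mem _ ha))

theorem wordVal_lt (k : ℕ) : ∀ (w : List ℕ) (j : ℕ), wordVal k w j < 4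
  | [], j => Nat.lt_of_le_of_lt Nat.and_le_right (by norm_num)
  | o :: w, j => Nat.lt_of_le_of_lt Nat.and_le_right (by norm_num)

theorem wordVal_mod {k : ℕ} (hk : k < 20) : ∀ w : List ℕ, (∀ o ∈ w, o < 5) → ∀ j : Fin 56,
    (4 : ℤ) ∣ (wordVal k w j : ℤ) - wordX k w j
  | [], _, j => by
    have h := tab_pack.2.2 ⟨k, hk⟩ j
    simp only at h
    show (4 : ℤ) ∣ ((two (tabP.getD k 0) j : ℕ) : ℤ) - flat (ruTable.getD k 0) j
    omega
  | o :: w, h, j => by
    have ho := h o List.mem_cons_self
    have hlt := opAt_lt o ho j j.2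
    have ih := wordVal_mod hk w (fun a ha => h a (List.mem_cons_of_mem _ ha))
      ⟨(opAt o j).1, hlt⟩
    show (4 : ℤ) ∣ ((((opAt o j).2 * wordVal k w (opAt o j).1) &&& 3 : ℕ) : ℤ) -
      (if (opAt o j).2 = 1 then wordX k w (Fin.ofNat 56 (opAt o j).1)
        else -wordX k w (Fin.ofNat 56 (opAt o j).1))
    rw [show (3 : ℕ) = 2 ^ 2 - 1 by norm_num, Nat.and_two_pow_sub_one_eq_mod,
      show Fin.ofNat 56 (opAt o j).1 = ⟨_, hlt⟩ from Fin.ext (Nat.mod_eq_of_lt hlt)]
    simp only at ih
    rcases op_sign o ho j j.2 with e | e <;> rw [e]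
    · rw [if_pos rfl]; omega
    · rw [if_neg (by norm_num : ¬ (3 = 1))]; omega

/-- A vector stands for a packed word. -/
def Packs (v : ℕ) (g : X) : Prop :=
  ∃ f : ℕ → ℕ, v = pkN 65536 56 f ∧ (∀ r < 56, f r < 4) ∧ ∀ r : Fin 56, (4 : ℤ) ∣ (f r : ℤ) - g r

/-- The combination of vectors with two bit coefficients. -/
def combZ : List X → ℕ → X
  | [], _ => 0
  | g :: l, c => (c &&& 3) • g + combZ l (c >>> 2)

theorem combZ_mem (H : AddSubgroup X) : ∀ (l : List X) (c : ℕ), (∀ g ∈ l, g ∈ H) → combZ l c ∈ H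
  | [], _, _ => zero_mem _
  | g :: l, c, h => add_mem (nsmul_mem (h g List.mem_cons_self) _)
      (combZ_mem H l _ fun a ha => h a (List.mem_cons_of_mem _ ha))

theorem combPk_spec : ∀ (vs : List ℕ) (gs : List X), List.Forall₂ Packs vs gs → ∀ c,
    ∃ F : ℕ → ℕ, combPk vs c = pkN 65536 56 F ∧ (∀ r < 56, F r ≤ 9 * vs.length) ∧
      ∀ r : Fin 56, (4 : ℤ) ∣ (F r : ℤ) - combZ gs c r
  | _, _, .nil, c => ⟨fun _ => 0, (pkN_zero _ _).symm, fun r _ => by simp, fun r => by simp [combZ]⟩
  | v :: vs, g :: gs, .cons ⟨f, hv, hf, hfg⟩ h, c => by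
    obtain ⟨F, h1, h2, h3⟩ := combPk_spec vs gs h (c >>> 2)
    have hc : c &&& 3 ≤ 3 := Nat.and_le_right
    refine ⟨fun r => (c &&& 3) * f r + F r, ?_, fun r hr => ?_, fun r => ?_⟩
    · show (c &&& 3) * v + combPk vs (c >>> 2) = _
      rw [h1, hv, ← pkN_mul, ← pkN_add]
    · have := hf r hr
      have := h2 r hr
      have : (c &&& 3) * f r ≤ 3 * 3 := Nat.mul_le_mul hc (by omega)
      show (c &&& 3) * f r + F r ≤ _
      rw [List.length_cons]
      omega
    · obtain ⟨a, ha⟩ := hfg r
      obtain ⟨b, hb⟩ := h3 r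
      refine ⟨((c &&& 3 : ℕ) : ℤ) * a + b, ?_⟩
      simp only [combZ, Pi.add_apply, Pi.smul_apply, nsmul_eq_mul, Pi.mul_apply, Pi.natCast_apply]
      push_cast
      linear_combination ((c &&& 3 : ℕ) : ℤ) * ha + hb

theorem rowW_pk : (List.range 42).all (fun r => Nat.beq (rowW.getD r 0)
    (pkN 65536 56 fun j => (rows.getD r []).getD j 0)) = true := by
  decide +kernel

theorem rows_small : rows.all (fun R => R.all fun a => decide (a < 4)) = true := by decide +kernel

theorem row_entry_lt (r j : ℕ) : (rows.getD r []).getD j 0 < 4 := by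
  rcases lt_or_ge r rows.length with hr | hr
  · rcases lt_or_ge j (rows.getD r []).length with hj | hj
    · rw [List.getD_eq_getElem _ _ hj]
      have h := List.all_eq_true.1 rows_small _ (List.getElem_mem hr)
      rw [← List.getD_eq_getElem rows [] hr] at h
      simpa using List.all_eq_true.1 h _ (List.getElem_mem hj)
    · rw [List.getD_eq_default _ _ hj]; norm_num
  · rw [List.getD_eq_default _ _ hr]; simp

theorem rowW_eq {r : ℕ} (hr : r < 42) :
    rowW.getD r 0 = pkN 65536 56 (fun j => (rows.getD r []).getD j 0) := by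
  have h := rowW_pk
  simp only [List.all_eq_true, List.mem_range, Nat.beq_eq] at h
  exact h r hr

theorem rowW_packs : List.Forall₂ Packs rowW (rows.map CfsgLib.LocalEven.RuRootless.toZ) := by
  rw [List.forall₂_iff_get]
  refine ⟨by rw [List.length_map, row_wide.1, (row_len_42 : rows.length = 42)], fun i h1 h2 => ?_⟩
  rw [row_wide.1] at h1
  refine ⟨fun j => (rows.getD i []).getD j 0, ?_, fun j _ => row_entry_lt i j, fun j => ?_⟩
  · rw [← rowW_eq h1, List.get_eq_getElem, List.getD_eq_getElem]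
  · simp only [List.get_eq_getElem, List.getElem_map]
    rw [List.getD_eq_getElem rows [] (by rw [row_len_42]; exact h1)]
    simp [CfsgLib.LocalEven.RuRootless.toZ]
where
  row_len_42 : rows.length = 42 := by decide +kernel

theorem mem_lat_of_comb {x : X} (c : ℕ) (h : ∀ j, (4 : ℤ) ∣ x j - combZ (rows.map CfsgLib.LocalEven.RuRootless.toZ) c j) :
    x ∈ lat := by
  choose y hy using h
  have e : x = combZ (rows.map CfsgLib.LocalEven.RuRootless.toZ) c + 4 • y := funext fun j => by
    have := hy j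
    simp only [Pi.add_apply, Pi.smul_apply, nsmul_eq_mul, Nat.cast_ofNat, Pi.mul_apply, Pi.ofNat_apply]
    omega
  rw [e]
  refine add_mem (combZ_mem _ _ _ fun g hg => ?_) (AddSubgroup.subset_closure (Or.inr ⟨y, rfl⟩))
  obtain ⟨R, hR, rfl⟩ := List.mem_map.1 hg
  exact AddSubgroup.subset_closure (Or.inl ⟨R, hR, rfl⟩)

theorem frame_mem : ∀ i, i < 56 →
    Pi.single (Fin.ofNat 56 (frameStep.getD i (0, 0, 0)).1) (4 : ℤ) ∈ latR := by
  intro i
  induction i using Nat.strong_induction_on with
  | _ i ih =>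
    intro hi
    have h := List.all_eq_true.1 frame_steps.2.1 i (List.mem_range.2 hi)
    unfold frameStepOK at h
    generalize hst : frameStep.getD i (0, 0, 0) = st at h
    obtain ⟨j, k, p⟩ := st
    simp only [decide_eq_true_eq] at h
    obtain ⟨hj, h⟩ := h
    simp only
    rcases h with ⟨rfl, rfl⟩ | ⟨hk, hp, hmem⟩
    · have e : flat (ruTable.getD 0 0) = Pi.single (Fin.ofNat 56 0) (4 : ℤ) := by
        have : ∀ j : Fin 56, flat (ruTable.getD 0 0) j = if j = 0 then 4 else 0 := by decide +kernel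
        funext j
        rw [this j]
        by_cases e : j = 0
        · subst e; simp [Fin.ofNat]
        · rw [if_neg e, Pi.single_eq_of_ne (by simpa [Fin.ofNat] using e)]
      rw [← e]
      exact table_mem (by norm_num)
    · obtain ⟨⟨p', k', p''⟩, hm, hpe⟩ := List.mem_map.1 hmem
      obtain ⟨l, hl, hle⟩ := List.mem_iff_getElem.1 hm
      rw [List.length_take] at hl
      have hsl : frameStep.getD l (0, 0, 0) = (p', k', p'') := by
        rw [List.getD_eq_getElem _ _ (by omega), ← hle, List.getElem_take]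
      have ihl := ih l (by omega) (by omega)
      rw [hsl] at ihl
      simp only at hpe ihl
      subst hpe
      have hp56 : p' < 56 := by rw [← hp]; exact opAt_lt k hk j hj
      have hres : opZ k (Pi.single (Fin.ofNat 56 p') (4 : ℤ)) =
          Pi.single (Fin.ofNat 56 j) (if (opAt k j).2 = 1 then (4 : ℤ) else -4) := by
        funext q
        have hqlt := opAt_lt k hk q q.2
        show (if (opAt k q).2 = 1 then _ else _) = _
        by_cases hq : q = Fin.ofNat 56 j
        · have hqj : (q : ℕ) = j := by rw [hq]; exact Nat.mod_eq_of_lt hj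
          rw [hqj, hp, hq, Pi.single_eq_same, Pi.single_eq_same]
        · rw [Pi.single_eq_of_ne hq]
          have hne : Fin.ofNat 56 (opAt k q).1 ≠ Fin.ofNat 56 p' := fun e => hq (by
            have e' := congrArg Fin.val e
            simp only [Fin.ofNat, Nat.mod_eq_of_lt hqlt, Nat.mod_eq_of_lt hp56] at e'
            exact op_inj ⟨k, hk⟩ q (Fin.ofNat 56 j)
              (e'.trans (by simp only [Fin.ofNat, Nat.mod_eq_of_lt hj]; exact hp.symm)))
          rw [Pi.single_eq_of_ne hne]
          split <;> simp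
      have := op_mem hk ihl
      rw [hres] at this
      split at this
      · exact this
      · simpa [← Pi.single_neg] using neg_mem this

theorem four_mem (y : X) : (4 : ℕ) • y ∈ latR := by
  have hcover : ∀ j : Fin 56, Pi.single j (4 : ℤ) ∈ latR := by
    intro j
    have hnd := frame_steps.2.2
    have hlen : (frameStep.map Prod.fst).length = 56 := by rw [List.length_map, frame_steps.1]
    have hsub : ∀ a ∈ frameStep.map Prod.fst, a < 56 := by decide +kernel
    have hmem : (j : ℕ) ∈ frameStep.map Prod.fst := by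
      have hfin : (frameStep.map Prod.fst).toFinset = Finset.range 56 :=
        Finset.eq_of_subset_of_card_le (fun a ha => Finset.mem_range.2 (hsub a (List.mem_toFinset.1 ha)))
          (by rw [List.toFinset_card_of_nodup hnd, hlen, Finset.card_range])
      exact List.mem_toFinset.1 (hfin ▸ Finset.mem_range.2 j.2)
    obtain ⟨i, hi, he⟩ := List.mem_iff_getElem.1 hmem
    rw [List.length_map] at hi
    have h := frame_mem i (by rw [← frame_steps.1]; exact hi)
    rw [List.getElem_map] at he
    rw [List.getD_eq_getElem _ _ hi, he,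
      show Fin.ofNat 56 (j : ℕ) = j from Fin.ext (Nat.mod_eq_of_lt j.2)] at h
    exact h
  rw [show (4 : ℕ) • y = ∑ j, y j • (Pi.single j (4 : ℤ) : X) by
    funext r
    simp [Finset.sum_apply, Pi.single_apply, mul_comm]]
  exact sum_mem fun j _ => zsmul_mem (hcover j) _

theorem lat_eq : lat = latR := by
  refine le_antisymm ((AddSubgroup.closure_le _).2 ?_) ?_
  · rintro x (⟨R, hR, rfl⟩ | ⟨y, rfl⟩)
    · obtain ⟨r, hr, rfl⟩ := List.mem_iff_getElem.1 hR
      have hlen : rows.length = 42 := rowW_packs.row_len_42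
      rw [hlen] at hr
      have hg := allBin_spec _ _ _ _ row_gen r (by omega) hr (by omega)
      unfold rowGenOK at hg
      have hgen := gen_word.2.2
      simp only [List.all_eq_true, Bool.and_eq_true, decide_eq_true_eq] at hgen
      have hpacks : List.Forall₂ Packs (genWord.map wordPk) (genWord.map fun e => wordX e.1 e.2) := by
        rw [List.forall₂_map_left_iff, List.forall₂_map_right_iff, List.forall₂_same]
        intro e he
        exact ⟨wordVal e.1 e.2, rfl, fun r _ => wordVal_lt _ _ r,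
          wordVal_mod (hgen e he).1 e.2 (hgen e he).2⟩
      obtain ⟨F, h1, h2, h3⟩ := combPk_spec _ _ hpacks (rowGen.getD r 0)
      rw [List.length_map, gen_word.1] at h2
      obtain ⟨y, hy⟩ : ∃ y : X, ∀ j, CfsgLib.LocalEven.RuRootless.toZ rows[r] j -
          combZ (genWord.map fun e => wordX e.1 e.2) (rowGen.getD r 0) j = 4 * y j := by
        refine ⟨fun j => (CfsgLib.LocalEven.RuRootless.toZ rows[r] j -
          combZ (genWord.map fun e => wordX e.1 e.2) (rowGen.getD r 0) j) / 4, fun j => ?_⟩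
        have hj := allBin_spec _ _ _ _ hg j (Nat.zero_le _) j.2 (lt_of_lt_of_le j.2 (by decide))
        rw [Nat.beq_eq, h1, rowW_eq hr, lane_pkN (fun i hi => by have := h2 i hi; omega) j.2,
          lane_pkN (fun i _ => by have := row_entry_lt r i; omega) j.2,
          List.getD_eq_getElem rows [] (by rw [hlen]; exact hr)] at hj
        have h4 := h3 j
        have e3 : Nat.land (F j) 3 = F j % 4 := by
          show F j &&& 3 = _
          rw [show (3 : ℕ) = 2 ^ 2 - 1 by norm_num, Nat.and_two_pow_sub_one_eq_mod]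
        rw [e3] at hj
        have hz : CfsgLib.LocalEven.RuRootless.toZ rows[r] j = ((F j % 4 : ℕ) : ℤ) := by rw [hj]; rfl
        simp only
        omega
      rw [show CfsgLib.LocalEven.RuRootless.toZ rows[r] = combZ (genWord.map fun e => wordX e.1 e.2) (rowGen.getD r 0) + 4 • y from
        funext fun j => by
          have := hy j
          simp only [Pi.add_apply, Pi.smul_apply, nsmul_eq_mul, Nat.cast_ofNat, Pi.mul_apply, Pi.ofNat_apply]
          omega]
      refine add_mem (combZ_mem _ _ _ fun g hg => ?_) (four_mem y)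
      obtain ⟨e, he, rfl⟩ := List.mem_map.1 hg
      exact wordX_mem (hgen e he).1 e.2 (hgen e he).2
    · exact four_mem y
  · rintro x hx
    obtain ⟨v, hv, rfl⟩ := AddSubgroup.mem_map.1 hx
    exact mem_lat_of_mem hv

theorem mem_ruLattice_iff (v : RuVec) : v ∈ ruLattice ↔ flat v ∈ lat := by
  refine ⟨mem_lat_of_mem, fun h => ?_⟩
  rw [lat_eq] at h
  obtain ⟨w, hw, e⟩ := AddSubgroup.mem_map.1 h
  have e' : unflat (flat w) = unflat (flat v) := congrArg unflat e
  rw [unflat_flat, unflat_flat] at e'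
  exact e' ▸ hw

/-- The lattice and its real form. -/
def latEquiv : ruLattice ≃+ lat where
  toFun v := ⟨flat v.1, (mem_ruLattice_iff v.1).1 v.2⟩
  invFun x := ⟨unflat x.1, (mem_ruLattice_iff _).2 (by rw [flat_unflat]; exact x.2)⟩
  left_inv v := Subtype.ext (unflat_flat _)
  right_inv x := Subtype.ext (flat_unflat _)
  map_add' v w := Subtype.ext (map_add flatHom v.1 w.1)

end CfsgLib.RuGroup
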