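import Cfsg.Agent.Lib.RuGroup.MapChecks
import Cfsg.Agent.Lib.RuGroup.DataLattice
import Cfsg.Agent.Lib.RuGroup.DataSpan
import Cfsg.Agent.Lib.LocalEven.RuRootless

/-!
The predicates of the checks on rows, their images, and the span of the determined vectors.
-/

set_option autoImplicit false

namespace CfsgLib.RuGroup

open CfsgLib.PresCert CfsgLib.LocalEven.RuRootless

/-- An entry with two bits. -/
noncomputable def two (R j : Nat) : Nat :=
  Nat.land (Nat.shiftRight R (Nat.shiftLeft j (nat_lit 1))) (nat_lit 3)

/-- The value modulo four of a word applied to a generating vector. -/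
noncomputable def wordVal (k : Nat) (w : List Nat) : Nat → Nat :=
  List.rec (motive := fun _ => Nat → Nat) (fun j => two (tabP.getD k 0) j)
    (fun o _ ih j => Nat.land (Nat.mul (opAt o j).2 (ih (opAt o j).1)) (nat_lit 3)) w

/-- A word packed with sixteen bits to an entry. -/
noncomputable def wordPk (e : Nat × List Nat) : Nat :=
  pkN (nat_lit 65536) (nat_lit 56) (wordVal e.1 e.2)

/-- A combination with two bit coefficients. -/
noncomputable def combPk (l : List Nat) : Nat → Nat :=
  List.rec (motive := fun _ => Nat → Nat) (fun _ => nat_lit 0)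
    (fun v _ ih c => Nat.add (Nat.mul (Nat.land c (nat_lit 3)) v) (ih (Nat.shiftRight c (nat_lit 2)))) l

/-- A row is a combination of words modulo four. -/
noncomputable def rowGenOK (r : Nat) : Bool :=
  (fun s => allBin (nat_lit 56)
      (fun j => Nat.beq (Nat.land (lane s j) (nat_lit 3)) (lane (rowW.getD r 0) j)) (nat_lit 6) (nat_lit 0))
    (combPk (genWord.map wordPk) (rowGen.getD r 0))

/-- The sum of the columns of a map weighted by a row. -/
noncomputable def rowImg (T R : Nat) : Nat :=
  Nat.rec (motive := fun _ => Nat) (nat_lit 0)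
    (fun j acc => Nat.add acc (Nat.mul (lane R j) (col T j))) (nat_lit 56)

/-- The sum of a row. -/
noncomputable def rowTot (R : Nat) : Nat :=
  Nat.rec (motive := fun _ => Nat) (nat_lit 0) (fun j acc => Nat.add acc (lane R j)) (nat_lit 56)

/-- The image of a row is four times a combination of rows modulo sixteen. -/
noncomputable def rowImgOK (T : Nat) (cs : List Nat) (r : Nat) : Bool :=
  (fun s v t => allBin (nat_lit 56)
      (fun j => Nat.beq (Nat.land (lane s j) (nat_lit 15))
        (Nat.land (Nat.mul (nat_lit 4) (Nat.add (lane v j) t)) (nat_lit 15))) (nat_lit 6) (nat_lit 0))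
    (rowImg T (rowW.getD r 0)) (combPk rowW (cs.getD r 0)) (rowTot (rowW.getD r 0))

/-- A step of the orbit of the first member of the frame. -/
def frameStepOK (i : Nat) : Bool :=
  match frameStep.getD i (0, 0, 0) with
  | (j, k, p) => decide (j < 56 ∧ (i = 0 ∧ j = 0 ∨ k < 5 ∧ (opAt k j).1 = p ∧
      p ∈ (frameStep.take i).map Prod.fst))

/-- The offset of a list of coefficients. -/
noncomputable def absTot (l : List (Nat × Bool × Nat)) : Nat :=
  List.rec (motive := fun _ => Nat) (nat_lit 0) (fun a _ ih => Nat.add a.2.2 ih) l

/-- A combination of the spanning vectors. -/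
noncomputable def spanSum (l : List (Nat × Bool × Nat)) : Nat :=
  List.rec (motive := fun _ => Nat) (nat_lit 0)
    (fun a _ ih => Nat.add ih (Nat.mul a.2.2
      (Bool.rec (Nat.sub (pkN (nat_lit 4294967296) (nat_lit 56) (fun _ => nat_lit 128)) (spanW.getD a.1 0))
        (spanW.getD a.1 0) a.2.1))) l

/-- A coordinate vector is a combination of the spanning vectors. -/
noncomputable def spanOK (j : Nat) : Bool :=
  (fun l t => Nat.beq (spanSum l)
      (pkN (nat_lit 4294967296) (nat_lit 56)
        (fun r => Nat.add (Nat.mul (nat_lit 64) t) (pick (Nat.beq r j) (nat_lit 31200) (nat_lit 0)))))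
    (spanC.getD j []) (absTot (spanC.getD j []))

/-- The wide form of a spanning vector. -/
noncomputable def spanWOK (m : Nat) : Bool :=
  Nat.beq (spanW.getD m 0)
    (pkN (nat_lit 4294967296) (nat_lit 56) (fun r => lane (app idT (el (spanIdx.getD m 0))) r))

/-- Members of the spanning list are the base or singles, or their multiples by `i`. -/
noncomputable def spanIdxOK (m : Nat) : Bool :=
  Bool.rec false
    (Bool.rec
      (allBin (nat_lit 56) (fun r => Nat.beq (lane (app idT (el (spanIdx.getD m 0))) r)
        (pick (Nat.beq (Nat.land r (nat_lit 1)) (nat_lit 0))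
          (Nat.sub (nat_lit 128) (lane (app idT (el (spanIdx.getD (Nat.sub m 1) 0))) (Nat.add r (nat_lit 1))))
          (lane (app idT (el (spanIdx.getD (Nat.sub m 1) 0))) (Nat.sub r (nat_lit 1)))))
        (nat_lit 6) (nat_lit 0))
      (memN (spanIdx.getD m 0) (baseL ++ singles))
      (Nat.beq (Nat.land m (nat_lit 1)) (nat_lit 0)))
    (Nat.blt (spanIdx.getD m 0) (nat_lit 16240))

/-- The image of a member of the frame is a combination of rows modulo four. -/
noncomputable def frameImgOK (C : Nat) (cs : List Nat) (c : Nat) : Bool :=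
  (fun x v => allBin (nat_lit 56)
      (fun j => Nat.beq (Nat.land (lane x j) (nat_lit 15))
        (Nat.land (Nat.mul (nat_lit 4) (lane v j)) (nat_lit 15))) (nat_lit 6) (nat_lit 0))
    (app idT (el (img C c))) (combPk rowW (cs.getD c 0))

end CfsgLib.RuGroup
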