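import Cfsg.Agent.Lib.RuGroup.TitsSimple
import Cfsg.Prelude.Def_Exceptional
import Cfsg.Prelude.Def_Sporadic

/-!
The permutation representation of degree 4060, on the lines of short vectors.
-/

set_option autoImplicit false
set_option maxRecDepth 100000

namespace CfsgLib.RuGroup

open CfsgLib.PresCert CfsgLib.LocalEven.RuRootless Cfsg.Spor

attribute [local irreducible] colW app el idT profT classBits vecT lane pkN sv vec profOf singleP

/-- The stabiliser of the first line. -/
noncomputable def lineGrp : Subgroup fourRu where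
  carrier := {f | ∃ k : ℕ, rotG ^ k • f • (0 : Fin 16240) = 0}
  one_mem' := ⟨0, by rw [pow_zero, one_smul, one_smul]⟩
  mul_mem' {f g} hf hg := by
    obtain ⟨a, ha⟩ := hf; obtain ⟨b, hb⟩ := hg
    refine ⟨a + b, ?_⟩
    rw [mul_smul, pow_add, mul_smul, ← rot_pow_smul_comm b f (g • (0 : Fin 16240)), hb, ha]
  inv_mem' {f} hf := by
    obtain ⟨a, ha⟩ := hf
    refine ⟨3 * a, ?_⟩
    conv_lhs => rw [← ha]
    rw [rot_pow_smul_comm a f⁻¹ (f • (0 : Fin 16240)), inv_smul_smul, ← mul_smul, ← pow_add,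
      show 3 * a + a = 4 * a by ring, pow_mul, rotG_pow_four, one_pow, one_smul]

theorem scalars_le_line : scalars ≤ lineGrp := by
  rw [scalars, Subgroup.zpowers_le]
  exact ⟨3, by rw [← mul_smul, show rotG ^ 3 * rotG = rotG ^ 4 from (pow_succ rotG 3).symm,
    rotG_pow_four, one_smul]⟩

theorem baseFix_one_le : baseFix 1 ≤ lineGrp := fun f hf =>
  ⟨0, by rw [pow_zero, one_smul]; exact hf 0 (by norm_num)⟩

theorem fix_one_of_zero {f : fourRu} (h : f • (0 : Fin 16240) = 0) : f ∈ baseFix 1 := fun b hb => by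
  rw [show b = 0 from Fin.ext (Nat.lt_one_iff.1 hb)]
  exact h

theorem card_lineGrp : Nat.card lineGrp = 4 * 35942400 := by
  have e : Nat.card lineGrp = Nat.card (scalars × baseFix 1) := by
    let φ : scalars × baseFix 1 → lineGrp := fun p =>
      ⟨p.1 * p.2, mul_mem (scalars_le_line p.1.2) (baseFix_one_le p.2.2)⟩
    refine (Nat.card_congr (Equiv.ofBijective φ ⟨?_, ?_⟩)).symm
    · rintro ⟨z, k⟩ ⟨z', k'⟩ h
      have h' : (z : fourRu) * k = z' * k' := congrArg Subtype.val h
      have h1 : (z' : fourRu)⁻¹ * z = k' * (k : fourRu)⁻¹ := by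
        rw [eq_mul_inv_iff_mul_eq, mul_assoc, h', inv_mul_cancel_left]
      have hone : (z' : fourRu)⁻¹ * z = 1 := eq_one_of_central_fix
        (scalars_le (mul_mem (inv_mem z'.2) z.2))
        (by rw [h1, mul_smul, show ((k : fourRu)⁻¹ • (0 : Fin 16240)) = 0 from inv_smul_eq_iff.2 (k.2 0 (by norm_num)).symm]; exact k'.2 0 (by norm_num))
      have hz : (z : fourRu) = z' := (inv_mul_eq_one.1 hone).symm
      rw [hz] at h'
      exact Prod.ext (Subtype.ext hz) (Subtype.ext (mul_left_cancel h'))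
    · rintro ⟨f, k, hk⟩
      have hmem : rotG ^ k * f ∈ baseFix 1 := fix_one_of_zero (by rw [mul_smul, hk])
      refine ⟨⟨⟨(rotG ^ k)⁻¹, inv_mem (rot_pow_mem k)⟩, ⟨_, hmem⟩⟩, Subtype.ext ?_⟩
      show (rotG ^ k)⁻¹ * (rotG ^ k * f) = f
      group
  rw [e, Nat.card_prod, card_scalars, card_baseFix.1]

theorem card_lines : Nat.card (fourRu ⧸ lineGrp) = 4060 := by
  have h := Subgroup.card_eq_card_quotient_mul_card_subgroup lineGrp
  rw [card_fourRu, card_lineGrp] at h
  omega

theorem exists_lineEquiv : ∃ e : fourRu ⧸ lineGrp ≃ Fin 4060, e ((1 : fourRu) : fourRu ⧸ lineGrp) = 0 := by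
  obtain ⟨e⟩ : Nonempty (fourRu ⧸ lineGrp ≃ Fin 4060) :=
    ⟨Nat.equivFinOfCardPos (by rw [card_lines]; norm_num) |>.trans (finCongr card_lines)⟩
  exact ⟨e.trans (Equiv.swap (e ((1 : fourRu) : fourRu ⧸ lineGrp)) 0), Equiv.swap_apply_left _ _⟩

/-- The lines numbered, the first one as `0`. -/
noncomputable def lineEquiv : fourRu ⧸ lineGrp ≃ Fin 4060 := exists_lineEquiv.choose

theorem lineEquiv_one : lineEquiv ((1 : fourRu) : fourRu ⧸ lineGrp) = 0 := exists_lineEquiv.choose_spec

/-- The action on lines. -/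
noncomputable def lineHom : fourRu →* Equiv.Perm (Fin 4060) :=
  lineEquiv.permCongrHom.toMonoidHom.comp (MulAction.toPermHom fourRu (fourRu ⧸ lineGrp))

theorem lineHom_apply (f : fourRu) (q : fourRu ⧸ lineGrp) : lineHom f (lineEquiv q) = lineEquiv (f • q) := by
  simp [lineHom, Equiv.permCongrHom, Equiv.permCongr_apply]

theorem lineHom_zero (f : fourRu) : lineHom f 0 = 0 ↔ f ∈ lineGrp := by
  rw [← lineEquiv_one, lineHom_apply, lineEquiv.injective.eq_iff, MulAction.Quotient.smul_coe,
    QuotientGroup.eq, smul_eq_mul, mul_one, mul_one, inv_mem_iff]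

theorem ker_lineHom : lineHom.ker = scalars := by
  have hle : scalars ≤ lineHom.ker := fun z hz => by
    rw [MonoidHom.mem_ker]
    refine Equiv.ext fun x => ?_
    obtain ⟨q, rfl⟩ := lineEquiv.surjective x
    obtain ⟨f, rfl⟩ := QuotientGroup.mk_surjective q
    rw [lineHom_apply, Equiv.Perm.one_apply, MulAction.Quotient.smul_coe, smul_eq_mul,
      ← Subgroup.mem_center_iff.1 (scalars_le hz) f, QuotientGroup.mk_mul_of_mem f (scalars_le_line hz)]
  rcases normal_of_ge hle with h | h
  · exact h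
  · exfalso
    have hall : ∀ f : fourRu, f ∈ lineGrp := fun f => by
      have h1 : lineHom f = 1 := by rw [← MonoidHom.mem_ker, h]; trivial
      rw [← lineHom_zero, h1, Equiv.Perm.one_apply]
    have := card_lineGrp
    rw [(Subgroup.eq_top_iff' lineGrp).2 hall, Nat.card_congr Subgroup.topEquiv.toEquiv, card_fourRu] at this
    norm_num at this

theorem rudvalis_perm : ∃ H : Subgroup (Equiv.Perm (Fin 4060)), Cfsg.IsRu H ∧
    MulAction.IsPretransitive H (Fin 4060) ∧
    Nat.card (MulAction.stabilizer H (0 : Fin 4060)) = 35942400 ∧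
    ∃ T : Subgroup (MulAction.stabilizer H (0 : Fin 4060)), Cfsg.IsTits T := by
  let H := lineHom.range
  have hk : Subgroup.center fourRu = lineHom.ker := by rw [ker_lineHom, center_eq]
  let e : Ru ≃* H := (QuotientGroup.quotientMulEquivOfEq hk).trans (QuotientGroup.quotientKerEquivRange lineHom)
  haveI : MulAction.IsPretransitive H (Fin 4060) := ⟨fun x y => by
    obtain ⟨p, rfl⟩ := lineEquiv.surjective x
    obtain ⟨q, rfl⟩ := lineEquiv.surjective y
    obtain ⟨f, hf⟩ := MulAction.exists_smul_eq fourRu p q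
    exact ⟨⟨lineHom f, f, rfl⟩, (lineHom_apply f p).trans (congrArg lineEquiv hf)⟩⟩
  have hsimple : IsSimpleGroup H := by
    haveI := simple_Ru
    haveI : Nontrivial H := e.symm.toEquiv.nontrivial
    exact IsSimpleGroup.isSimpleGroup_of_surjective e.toMonoidHom e.surjective
  let j : baseFix 1 →* MulAction.stabilizer H (0 : Fin 4060) :=
    { toFun := fun f => ⟨⟨lineHom f, f, rfl⟩, (lineHom_zero f).2 (baseFix_one_le f.2)⟩
      map_one' := Subtype.ext (Subtype.ext (map_one lineHom))
      map_mul' := fun a b => Subtype.ext (Subtype.ext (map_mul lineHom (a : fourRu) b)) }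
  have hinj : Function.Injective j := fun a b h => by
    have h' : lineHom a = lineHom b :=
      congrArg (fun x : MulAction.stabilizer H (0 : Fin 4060) => ((x : H) : Equiv.Perm (Fin 4060))) h
    have hm : (a : fourRu)⁻¹ * b ∈ scalars := by
      rw [← ker_lineHom, MonoidHom.mem_ker, map_mul, map_inv, h', inv_mul_cancel]
    refine Subtype.ext (inv_mul_eq_one.1 (eq_one_of_central_fix (scalars_le hm) ?_))
    rw [mul_smul, inv_smul_eq_iff]
    exact ((b.2 0 (by norm_num)).trans (a.2 0 (by norm_num)).symm)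
  have hsurj : Function.Surjective j := by
    rintro ⟨⟨_, f, rfl⟩, hs⟩
    obtain ⟨k, hk'⟩ := (lineHom_zero f).1 hs
    refine ⟨⟨rotG ^ k * f, fix_one_of_zero (by rw [mul_smul, hk'])⟩, Subtype.ext (Subtype.ext ?_)⟩
    show lineHom (rotG ^ k * f) = lineHom f
    rw [map_mul, show lineHom (rotG ^ k) = 1 by
      rw [← MonoidHom.mem_ker, ker_lineHom]; exact rot_pow_mem k, one_mul]
  refine ⟨H, ⟨hsimple, ?_⟩, inferInstance, ?_, ?_⟩
  · rw [← Nat.card_congr e.toEquiv, card_Ru]
  · rw [← Nat.card_congr (Equiv.ofBijective j ⟨hinj, hsurj⟩), card_baseFix.1]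
  · let S := titsGrp.subgroupOf (baseFix 1)
    let e1 : titsGrp ≃* S.map j :=
      (Subgroup.subgroupOfEquivOfLe titsGrp_le).symm.trans (Subgroup.equivMapOfInjective S j hinj)
    haveI := simple_titsGrp
    haveI : Nontrivial (S.map j) := e1.symm.toEquiv.nontrivial
    exact ⟨S.map j, IsSimpleGroup.isSimpleGroup_of_surjective e1.toMonoidHom e1.surjective,
      by rw [← Nat.card_congr e1.toEquiv, card_titsGrp]⟩

end CfsgLib.RuGroup
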