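import Cfsg.Agent.Lib.RuGroup.Checks

/-!
The predicates of the checks on the maps.
-/

set_option autoImplicit false

namespace CfsgLib.RuGroup

open CfsgLib.PresCert

/-- A column of sixteen bit lanes. -/
noncomputable def col (T c : Nat) : Nat := colW (nat_lit 896) m896 T c

/-- The same digit in every lane. -/
noncomputable def rep (v : Nat) : Nat := pkN (nat_lit 65536) (nat_lit 56) (fun _ => v)

/-- The value of a truth value. -/
noncomputable def pick (b : Bool) (x y : Nat) : Nat := Bool.rec y x b

/-- The expected column of four times the identity. -/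
noncomputable def idCol (c : Nat) : Nat :=
  pkN (nat_lit 65536) (nat_lit 56) (fun r =>
    pick (Nat.beq r c) (nat_lit 8) (pick (Nat.beq (Nat.add r (nat_lit 56)) c) (nat_lit 0) (nat_lit 4)))

/-- The table of four times the identity is right. -/
noncomputable def idOK (c : Nat) : Bool := Nat.beq (col idT c) (idCol c)

/-- A table agrees with its images, and negatives agree. -/
noncomputable def colOK (T C c : Nat) : Bool :=
  Bool.rec false
    (Bool.rec (Nat.beq (Nat.add (col T c) (col T (Nat.add c (nat_lit 56)))) (rep (nat_lit 8))) true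
      (Nat.ble (nat_lit 56) c))
    (Bool.rec false (Nat.beq (Nat.add (Nat.mul (nat_lit 4) (col T c)) (rep (nat_lit 48)))
        (app idT (el (img C c))))
      (Nat.blt (img C c) (nat_lit 16240)))

/-- A transposed table agrees with its table. -/
noncomputable def transOK (T TT c : Nat) : Bool :=
  Bool.rec false (Nat.beq (Nat.add (col TT c) (col TT (Nat.add c (nat_lit 56)))) (rep (nat_lit 8)))
    (Nat.beq (col TT c) (pkN (nat_lit 65536) (nat_lit 56) (fun k => lane (col T k) c)))

/-- The images of the frame are orthogonal. -/
noncomputable def orthOK (TT C j : Nat) : Bool :=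
  Nat.beq (app TT (el (img C j)))
    (pkN (nat_lit 65536) (nat_lit 56) (fun k => pick (Nat.beq k j) (nat_lit 80) (nat_lit 64)))

/-- Multiplication by `i` on signed unit vectors. -/
noncomputable def rotC (c : Nat) : Nat :=
  pick (Nat.beq (Nat.land c (nat_lit 1)) (nat_lit 0)) (Nat.add c (nat_lit 1))
    (Nat.mod (Nat.add c (nat_lit 55)) (nat_lit 112))

/-- A column commutes with multiplication by `i`. -/
noncomputable def rotOK (T j : Nat) : Bool :=
  (fun x y => allBin (nat_lit 56) (fun r => Nat.beq (lane y r)
      (pick (Nat.beq (Nat.land r (nat_lit 1)) (nat_lit 0))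
        (Nat.sub (nat_lit 8) (lane x (Nat.add r (nat_lit 1)))) (lane x (Nat.sub r (nat_lit 1)))))
    (nat_lit 6) (nat_lit 0)) (col T j) (col T (rotC j))

/-- A repeated multiplication by `i`. -/
noncomputable def rotPow (k : Nat) : Nat → Nat :=
  Nat.rec (motive := fun _ => Nat → Nat) (fun c => c) (fun _ ih c => ih (rotC c)) k

/-- A composite is the product of its word. -/
noncomputable def wordOK (Tu Cv Cs k c : Nat) : Bool :=
  Bool.rec false (Nat.beq (app Tu (el (img Cv (rotPow k c)))) (app idT (el (img Cs c))))
    (Nat.blt (rotPow k c) (nat_lit 112))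

/-- The base. -/
def baseL : List Nat := [0, 112, 144, 48, 7745]

/-- A member of a chain of powers. -/
noncomputable def chain (g b t : Nat) : Nat :=
  getP chainT (nat_lit 14) (nat_lit 16383)
    (Nat.add (Nat.mul (Nat.add (Nat.mul g (nat_lit 5)) b) (nat_lit 30)) t)

/-- The twenty ninth power of a map fixes the base. -/
noncomputable def powOK (g b : Nat) : Bool :=
  Bool.rec false
    (allBin (nat_lit 29) (fun t => Bool.rec false
        (sends (uT g) (chain g b t) (chain g b (Nat.add t (nat_lit 1))))
        (Nat.blt (chain g b (Nat.add t (nat_lit 1))) (nat_lit 16240)))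
      (nat_lit 5) (nat_lit 0))
    (Bool.rec false (Nat.beq (chain g b (nat_lit 29)) (baseL.getD b 0))
      (Nat.beq (chain g b (nat_lit 0)) (baseL.getD b 0)))

/-- A lane of eight bits. -/
noncomputable def lane8 (x r : Nat) : Nat :=
  Nat.land (Nat.shiftRight x (Nat.shiftLeft r (nat_lit 3))) (nat_lit 255)

/-- The vectors of the profile table. -/
noncomputable def profVec (r : Nat) : Nat :=
  pick (Nat.beq (Nat.land r (nat_lit 1)) (nat_lit 0)) (baseL.getD (r / 2) 0) (baseI.getD (r / 2) 0)

/-- Conjunction, kept folded. -/
noncomputable def band (a b : Bool) : Bool := Bool.rec false b a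

/-- A column of the profile table is right. -/
noncomputable def profColOK (c : Nat) : Bool :=
  band
    (Nat.beq (Nat.add (Nat.mul (nat_lit 4) (colW (nat_lit 80) m80 profT c))
        (pkN (nat_lit 256) (nat_lit 10) (fun _ => nat_lit 48)))
      (pkN (nat_lit 256) (nat_lit 10) (fun r => lane (app idT (el (profVec r))) c)))
    (Nat.beq (Nat.add (colW (nat_lit 80) m80 profT c) (colW (nat_lit 80) m80 profT (Nat.add c (nat_lit 56))))
      (pkN (nat_lit 256) (nat_lit 10) (fun _ => nat_lit 8)))

/-- The second vectors of the base are the multiples by `i` of the first. -/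
noncomputable def baseIOK (b : Nat) : Bool :=
  (fun x y => allBin (nat_lit 56) (fun r => Nat.beq (lane y r)
      (pick (Nat.beq (Nat.land r (nat_lit 1)) (nat_lit 0))
        (Nat.sub (nat_lit 128) (lane x (Nat.add r (nat_lit 1)))) (lane x (Nat.sub r (nat_lit 1)))))
    (nat_lit 6) (nat_lit 0)) (app idT (el (baseL.getD b 0))) (app idT (el (baseI.getD b 0)))

end CfsgLib.RuGroup
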