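import Cfsg.Agent.Lib.RuGroup.Lattice
import Cfsg.Agent.Lib.RuGroup.CheckWords

/-!
The chosen maps as linear maps of real coordinates.
-/

set_option autoImplicit false
set_option maxRecDepth 100000

namespace CfsgLib.RuGroup

open CfsgLib.PresCert CfsgLib.LocalEven.RuRootless

/-- Multiplication by `i` in real coordinates. -/
def rotX : X →+ X := opZ 0

theorem rotX_even {r : Fin 56} (h : (r : ℕ) % 2 = 0) (x : X) :
    rotX x r = -x ⟨(r : ℕ) + 1, by omega⟩ := by
  have e : ∀ r : Fin 56, (r : ℕ) % 2 = 0 → (opAt 0 r).1 = (r : ℕ) + 1 ∧ (opAt 0 r).2 = 3 := by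
    decide +kernel
  obtain ⟨e1, e2⟩ := e r h
  show (if (opAt 0 r).2 = 1 then x (Fin.ofNat 56 (opAt 0 r).1) else -x (Fin.ofNat 56 (opAt 0 r).1)) = _
  rw [e1, e2, if_neg (by norm_num : ¬ (3 = 1))]
  exact congrArg (fun a => -x a) (Fin.ext (Nat.mod_eq_of_lt (by omega)))

theorem rotX_odd {r : Fin 56} (h : (r : ℕ) % 2 = 1) (x : X) :
    rotX x r = x ⟨(r : ℕ) - 1, by omega⟩ := by
  have e : ∀ r : Fin 56, (r : ℕ) % 2 = 1 → (opAt 0 r).1 = (r : ℕ) - 1 ∧ (opAt 0 r).2 = 1 := by
    decide +kernel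
  obtain ⟨e1, e2⟩ := e r h
  show (if (opAt 0 r).2 = 1 then x (Fin.ofNat 56 (opAt 0 r).1) else -x (Fin.ofNat 56 (opAt 0 r).1)) = _
  rw [e1, e2, if_pos rfl]
  exact congrArg x (Fin.ext (Nat.mod_eq_of_lt (by omega)))

theorem rotC_lt : ∀ c : Fin 112, rotC c < 112 := by decide +kernel

theorem rotX_unitV : ∀ c : Fin 112, ∀ r : Fin 56, unitV (rotC c) r =
    if (r : ℕ) % 2 = 0 then -unitV c (Fin.ofNat 56 ((r : ℕ) + 1))
      else unitV c (Fin.ofNat 56 ((r : ℕ) - 1)) := by
  decide +kernel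

theorem unitV_rotC {c : ℕ} (hc : c < 112) : unitV (rotC c) = rotX (unitV c) := by
  funext r
  rw [rotX_unitV ⟨c, hc⟩ r]
  by_cases h : (r : ℕ) % 2 = 0
  · rw [if_pos h, rotX_even h]
    exact congrArg (fun a => -unitV c a) (Fin.ext (Nat.mod_eq_of_lt (by omega)))
  · rw [if_neg h, rotX_odd (by omega)]
    exact congrArg (unitV c) (Fin.ext (Nat.mod_eq_of_lt (by omega)))

theorem single_decomp (x : X) : x = ∑ j, x j • (Pi.single j (1 : ℤ) : X) := by
  funext r
  simp [Finset.sum_apply, Pi.single_apply]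

theorem addHom_ext {M : Type*} [AddCommGroup M] {f g : X →+ M}
    (h : ∀ j : Fin 56, f (Pi.single j 1) = g (Pi.single j 1)) : f = g := by
  refine AddMonoidHom.ext fun x => ?_
  rw [single_decomp x, map_sum, map_sum]
  simp only [map_zsmul, h]

theorem dot_rotX (x y : X) : dot (rotX x) (rotX y) = dot x y := by
  have key : ∀ j : Fin 56, ∃ k : Fin 56, ∃ s : ℤ, s * s = 1 ∧ ∀ x : X, rotX x j = s * x k ∧
      ((k : ℕ) = if (j : ℕ) % 2 = 0 then (j : ℕ) + 1 else (j : ℕ) - 1) := by
    intro j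
    by_cases h : (j : ℕ) % 2 = 0
    · exact ⟨⟨j + 1, by omega⟩, -1, by norm_num, fun x =>
        ⟨by rw [rotX_even h]; ring, by rw [if_pos h]⟩⟩
    · exact ⟨⟨j - 1, by omega⟩, 1, by norm_num, fun x =>
        ⟨by rw [rotX_odd (by omega)]; ring, by rw [if_neg h]⟩⟩
  choose k s hs hk using key
  rw [dot, dot]
  have hinj : Function.Injective k := fun a b e => by
    have h1 := (hk a x).2
    have h2 := (hk b x).2
    have e' : (k a : ℕ) = k b := by rw [e]
    rw [h1, h2] at e'
    apply Fin.ext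
    split_ifs at e' <;> omega
  refine Fintype.sum_bijective k ⟨hinj, Finite.surjective_of_injective hinj⟩ _ _ fun j => ?_
  rw [(hk j x).1, (hk j y).1]
  linear_combination (x (k j) * y (k j)) * hs j

/-! ### Tables -/

/-- The index of the image of a signed unit vector. -/
noncomputable def uImg (g c : ℕ) : ℕ := img (uCol g) c

/-- A chosen map, scaled by four. -/
noncomputable def U (g : ℕ) : X →+ X := lin fun j => sv (uImg g j)

/-- The index of the image of a signed unit vector under a composite. -/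
noncomputable def sImg (n c : ℕ) : ℕ := img (sCol n) c

/-- A composite, scaled by four. -/
noncomputable def S4 (n : ℕ) : X →+ X := lin fun j => sv (sImg n j)

theorem colOK_spec {T C c : ℕ} (h : colOK T C c = true) :
    (c < 56 → col T c + col T (c + 56) = rep 8) ∧ img C c < 16240 ∧
      4 * col T c + rep 48 = app idT (el (img C c)) := by
  have h' : ((Nat.blt (img C c) 16240 && Nat.beq (4 * col T c + rep 48) (app idT (el (img C c)))) &&
      (Nat.ble 56 c || Nat.beq (col T c + col T (c + 56)) (rep 8))) = true := by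
    rw [← h]
    unfold colOK
    change _ = (Bool.rec false (Bool.rec (Nat.beq (col T c + col T (c + 56)) (rep 8)) true (Nat.ble 56 c))
      (Bool.rec false (Nat.beq (4 * col T c + rep 48) (app idT (el (img C c)))) (Nat.blt (img C c) 16240)) : Bool)
    cases Nat.blt (img C c) 16240 <;> cases Nat.beq (4 * col T c + rep 48) (app idT (el (img C c))) <;>
      cases Nat.ble 56 c <;> simp
  simp only [Bool.and_eq_true, Bool.or_eq_true, Nat.beq_eq, Nat.blt_eq, Nat.ble_eq] at h'
  exact ⟨fun hc => h'.2.resolve_left (by omega), h'.1.1, h'.1.2⟩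

theorem col_lift {T : ℕ} {w : Fin 56 → X} (hw : ∀ j r, |w j r| ≤ 4)
    (hlo : ∀ j : Fin 56, col T j = pkN 65536 56 (fun r => (natX (w j) r + 4).toNat))
    (hsum : ∀ j : Fin 56, col T j + col T ((j : ℕ) + 56) = rep 8) :
    ColIs 896 m896 T 65536 56 (natX.comp (lin w)) := by
  have hb : ∀ j r, |natX (w j) r| ≤ 4 := fun j r => by
    by_cases hr : r < 56
    · rw [natX_lt _ hr]; exact hw j _
    · simp [natX, hr]
  intro c hc
  rcases lt_or_ge c 56 with h | h
  · have e : unitV c = Pi.single (⟨c, h⟩ : Fin 56) 1 := unitV_lo ⟨c, h⟩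
    rw [e, AddMonoidHom.comp_apply, lin_single, one_smul]
    exact ⟨hlo ⟨c, h⟩, fun r _ => hb _ r⟩
  · obtain ⟨j, rfl⟩ : ∃ j : Fin 56, c = (j : ℕ) + 56 := ⟨⟨c - 56, by omega⟩, by simp; omega⟩
    rw [unitV_hi, AddMonoidHom.comp_apply, map_neg, lin_single, one_smul, map_neg]
    refine ⟨?_, fun r _ => by rw [Pi.neg_apply, abs_neg]; exact hb j r⟩
    have h1 := hsum j
    rw [hlo j] at h1
    replace h1 : pkN 65536 56 (fun r => (natX (w j) r + 4).toNat) + col T ((j : ℕ) + 56) =
      pkN 65536 56 (fun _ => 8) := h1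
    have h2 : pkN 65536 56 (fun r => (natX (w j) r + 4).toNat) +
        pkN 65536 56 (fun r => (-natX (w j) r + 4).toNat) = pkN 65536 56 (fun _ => 8) := by
      rw [← pkN_add]
      refine pkN_congr _ _ _ _ fun r _ => ?_
      have := abs_le.1 (hb j r)
      omega
    show col T ((j : ℕ) + 56) = _
    simp only [Pi.neg_apply]
    omega

theorem colOK_lift {T C : ℕ} (h : ∀ c < 112, colOK T C c = true) :
    ColIs 896 m896 T 65536 56 (natX.comp (lin fun j => sv (img C (j : ℕ)))) ∧
      (∀ c < 112, img C c < 16240) := by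
  have hi : ∀ c < 112, img C c < 16240 := fun c hc => (colOK_spec (h c hc)).2.1
  refine ⟨col_lift (fun j r => sv_abs (hi j (by omega)) r) (fun j => ?_)
    fun j => (colOK_spec (h j (by omega))).1 j.2, hi⟩
  have h1 := (colOK_spec (h j (by omega))).2.2
  rw [(app_id (el_okCode (hi j (by omega)))).1] at h1
  have h2 : 4 * pkN 65536 56 (fun r => (natX (sv (img C j)) r + 4).toNat) + rep 48 =
      pkN 65536 56 (fun r => (4 * natX (vec (el (img C j))) r + 64).toNat) := by
    rw [← pkN_mul, rep, ← pkN_add]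
    refine pkN_congr _ _ _ _ fun r hr => ?_
    have := abs_le.1 (sv_abs (hi j (by omega)) ⟨r, hr⟩)
    rw [natX_lt _ hr, natX_lt _ hr]
    simp only [sv] at *
    omega
  omega

theorem colIs_U {g : ℕ} (hg : g < 8) : ColIs 896 m896 (uT g) 65536 56 (natX.comp (U g)) ∧
    ∀ c < 112, uImg g c < 16240 := by
  refine colOK_lift fun c hc => ?_
  exact allBin_spec _ _ _ _ (List.all_eq_true.1 u_col g (List.mem_range.2 hg)) c (Nat.zero_le c) hc
    (lt_of_lt_of_le hc (by decide))

theorem colIs_S {n : ℕ} (hn : n < 4) : ColIs 896 m896 (sT n) 65536 56 (natX.comp (S4 n)) ∧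
    ∀ c < 112, sImg n c < 16240 := by
  refine colOK_lift fun c hc => ?_
  exact allBin_spec _ _ _ _ (List.all_eq_true.1 s_col n (List.mem_range.2 hn)) c (Nat.zero_le c) hc
    (lt_of_lt_of_le hc (by decide))

theorem app_colIs {T : ℕ} {L : X →+ X} (h : ColIs 896 m896 T 65536 56 (natX.comp L)) {code : ℕ}
    (hc : okCode 16 code = true) :
    app T code = pkN 65536 56 (fun r => (natX (L (vec code)) r + 64).toNat) ∧
      ∀ r < 56, |natX (L (vec code)) r| ≤ 64 := by
  obtain ⟨e, b⟩ := sumCols_colIs h 16 code hc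
  exact ⟨e.trans (pkN_congr _ _ _ _ fun r _ => rfl), fun r hr => b r hr⟩

theorem sends_eq {T : ℕ} {L : X →+ X} (h : ColIs 896 m896 T 65536 56 (natX.comp L)) {ca cb : ℕ}
    (hca : okCode 16 ca = true) (hcb : okCode 16 cb = true) (he : app T ca = app idT cb) :
    L (vec ca) = 4 • vec cb := by
  obtain ⟨e1, b1⟩ := app_colIs h hca
  obtain ⟨e2, b2⟩ := app_id hcb
  rw [e1, e2] at he
  funext r
  have hd := pkN_inj (fun i hi => by have := abs_le.1 (b1 i hi); omega) (fun i hi => by
    have := abs_le.1 (b2 ⟨i, hi⟩); rw [natX_lt _ hi]; omega) he r r.2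
  have := abs_le.1 (b1 r r.2)
  have := abs_le.1 (b2 r)
  simp only [natX_fin] at *
  simp only [Pi.smul_apply, nsmul_eq_mul, Nat.cast_ofNat]
  omega

theorem sends_spec {T : ℕ} {L : X →+ X} (h : ColIs 896 m896 T 65536 56 (natX.comp L)) {a b : ℕ}
    (ha : a < 16240) (hb : b < 16240) (he : sends T a b = true) : L (sv a) = 4 • sv b :=
  sends_eq h (el_okCode ha) (el_okCode hb) (Nat.eq_of_beq_eq_true he)

/-! ### Orthogonality and commutation with the scalar -/

theorem dot_U {g : ℕ} (hg : g < 8) (x y : X) : dot (U g x) (U g y) = 16 * dot x y := by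
  obtain ⟨hcol, hi⟩ := colIs_U hg
  let w : Fin 56 → X := fun j => sv (uImg g j)
  let L' : X →+ X := lin fun c => fun k => w k c
  have hb : ∀ j r, |w j r| ≤ 4 := fun j r => sv_abs (hi j (by omega)) r
  have hT : ColIs 896 m896 (uTT g) 65536 56 (natX.comp L') := by
    have hok : ∀ c : Fin 56, col (uTT g) c + col (uTT g) ((c : ℕ) + 56) = rep 8 ∧
        col (uTT g) c = pkN 65536 56 (fun k => lane (col (uT g) k) c) := by
      intro c
      have h := allBin_spec _ _ _ _ (List.all_eq_true.1 u_trans g (List.mem_range.2 hg)) c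
        (Nat.zero_le _) c.2 (lt_of_lt_of_le c.2 (by decide))
      have h' : (Nat.beq (col (uTT g) c) (pkN 65536 56 (fun k => lane (col (uT g) k) c)) &&
          Nat.beq (col (uTT g) c + col (uTT g) ((c : ℕ) + 56)) (rep 8)) = true := by
        rw [← h]
        unfold transOK
        change _ = (Bool.rec false (Nat.beq (col (uTT g) c + col (uTT g) ((c : ℕ) + 56)) (rep 8))
          (Nat.beq (col (uTT g) c) (pkN 65536 56 (fun k => lane (col (uT g) k) c))) : Bool)
        cases Nat.beq (col (uTT g) c) (pkN 65536 56 (fun k => lane (col (uT g) k) c)) <;> simp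
      simp only [Bool.and_eq_true, Nat.beq_eq] at h'
      exact ⟨h'.2, h'.1⟩
    refine col_lift (fun c k => hb k c) (fun c => (hok c).2.trans (pkN_congr _ _ _ _ fun k hk => ?_))
      fun c => (hok c).1
    obtain ⟨e, -⟩ := hcol k (by omega)
    rw [show col (uT g) k = colW 896 m896 (uT g) k from rfl, e,
      show unitV k = Pi.single (⟨k, hk⟩ : Fin 56) 1 from unitV_lo ⟨k, hk⟩, AddMonoidHom.comp_apply, U,
      lin_single, one_smul, lane_pkN (fun r hr => by
        rw [natX_lt _ hr]; have := abs_le.1 (hb ⟨k, hk⟩ ⟨r, hr⟩); simp only [w] at this ⊢; omega) c.2,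
      natX_fin, natX_lt _ hk]
  have horth : ∀ j k : Fin 56, dot (w j) (w k) = if k = j then 16 else 0 := by
    intro j k
    have h := allBin_spec _ _ _ _ (List.all_eq_true.1 u_orth g (List.mem_range.2 hg)) j
      (Nat.zero_le _) j.2 (lt_of_lt_of_le j.2 (by decide))
    have h' : app (uTT g) (el (uImg g j)) =
        pkN 65536 56 (fun k => pick (Nat.beq k j) 80 64) := Nat.eq_of_beq_eq_true h
    obtain ⟨e, b⟩ := app_colIs hT (el_okCode (hi j (by omega)))
    rw [e] at h'
    have hd := pkN_inj (fun i hi => by have := abs_le.1 (b i hi); omega)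
      (fun i _ => by rw [pick_eq]; split <;> norm_num) h' k k.2
    have hb' := abs_le.1 (b k k.2)
    rw [natX_fin] at hd hb'
    have hval : L' (vec (el (uImg g j))) k = dot (w j) (w k) := by
      show (∑ c, vec (el (uImg g j)) c • fun k => w k c) k = _
      simp [Finset.sum_apply, dot, w, sv]
    rw [hval] at hd hb'
    rw [pick_eq] at hd
    by_cases e' : k = j
    · subst e'
      rw [if_pos (by simp)] at hd
      rw [if_pos rfl]; omega
    · rw [if_neg (by simpa [Fin.val_inj] using e')] at hd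
      rw [if_neg e']; omega
  have hexp : ∀ x y : X, dot (U g x) (U g y) = ∑ j, ∑ k, x k * y j * dot (w k) (w j) := by
    intro x y
    show dot (∑ j, x j • w j) (∑ k, y k • w k) = _
    simp only [dot, Finset.sum_apply, Pi.smul_apply, smul_eq_mul, Finset.sum_mul, Finset.mul_sum]
    rw [Finset.sum_comm]
    refine Finset.sum_congr rfl fun j _ => ?_
    rw [Finset.sum_comm]
    exact Finset.sum_congr rfl fun k _ => Finset.sum_congr rfl fun r _ => by ring
  rw [hexp, dot, Finset.mul_sum]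
  refine Finset.sum_congr rfl fun j _ => ?_
  simp_rw [horth, mul_ite, mul_zero]
  rw [Finset.sum_ite_eq Finset.univ j, if_pos (Finset.mem_univ _)]
  ring

theorem U_rot {g : ℕ} (hg : g < 8) (x : X) : U g (rotX x) = rotX (U g x) := by
  obtain ⟨hcol, hi⟩ := colIs_U hg
  suffices h : (U g).comp rotX = rotX.comp (U g) from DFunLike.congr_fun h x
  refine addHom_ext fun j => funext fun r => ?_
  have h := allBin_spec _ _ _ _ (List.all_eq_true.1 u_rot g (List.mem_range.2 hg)) j
    (Nat.zero_le _) j.2 (lt_of_lt_of_le j.2 (by decide))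
  unfold rotOK at h
  have hr := allBin_spec _ _ _ _ h r (Nat.zero_le _) r.2 (lt_of_lt_of_le r.2 (by decide))
  rw [Nat.beq_eq] at hr
  have hlane : ∀ c < 112, ∀ r : Fin 56,
      ((lane (col (uT g) c) r : ℕ) : ℤ) = U g (unitV c) r + 4 ∧ |U g (unitV c) r| ≤ 4 := by
    intro c hc r
    obtain ⟨e, b⟩ := hcol c hc
    have hb := b r r.2
    rw [show col (uT g) c = colW 896 m896 (uT g) c from rfl, e,
      lane_pkN (fun i hi => by have := abs_le.1 (b i hi); omega) r.2]
    simp only [AddMonoidHom.comp_apply, natX_fin] at hb ⊢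
    have := abs_le.1 hb
    exact ⟨by omega, hb⟩
  have hj := hlane j (by omega)
  have hjr := hlane (rotC j) (rotC_lt ⟨j, by omega⟩) r
  rw [unitV_rotC (by omega : (j : ℕ) < 112), unitV_lo] at hjr
  rw [unitV_lo] at hj
  rw [AddMonoidHom.comp_apply, AddMonoidHom.comp_apply]
  have hr' : (lane (col (uT g) (rotC j)) r : ℕ) =
      if (r : ℕ) % 2 = 0 then 8 - lane (col (uT g) j) ((r : ℕ) + 1) else lane (col (uT g) j) ((r : ℕ) - 1) := by
    rw [hr, pick_eq]
    congr 1
    rw [eq_iff_iff, Nat.beq_eq, show Nat.land r 1 = (r : ℕ) % 2 from Nat.and_one_is_mod _]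
  by_cases he : (r : ℕ) % 2 = 0
  · rw [if_pos he] at hr'
    rw [rotX_even he]
    obtain ⟨h1, h2⟩ := hj ⟨(r : ℕ) + 1, by omega⟩
    simp only at h1
    have := abs_le.1 h2
    omega
  · rw [if_neg he] at hr'
    rw [rotX_odd (by omega)]
    obtain ⟨h1, -⟩ := hj ⟨(r : ℕ) - 1, by omega⟩
    simp only at h1
    omega

/-! ### Preservation of the lattice -/

theorem mod16_comb {T : ℤ} {V Z S : ℤ} (h1 : S % 16 = (4 * (V + T)) % 16) (h2 : (4 : ℤ) ∣ V - Z) :
    (16 : ℤ) ∣ (S - 4 * T) - 4 * Z := by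
  omega

theorem U_frame_mem {g : ℕ} (hg : g < 8) (j : Fin 56) : sv (uImg g j) ∈ lat := by
  have h := allBin_spec _ _ _ _ (List.all_eq_true.1 frame_img g (List.mem_range.2 hg)) j
    (Nat.zero_le _) j.2 (lt_of_lt_of_le j.2 (by decide))
  unfold frameImgOK at h
  obtain ⟨F, h1, h2, h3⟩ := combPk_spec _ _ rowW_packs ((uFrame g).getD j 0)
  rw [row_wide.1] at h2
  refine mem_lat_of_comb ((uFrame g).getD j 0) fun r => ?_
  have hr := allBin_spec _ _ _ _ h r (Nat.zero_le _) r.2 (lt_of_lt_of_le r.2 (by decide))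
  rw [Nat.beq_eq, h1, lane_pkN (fun i hi => by have := h2 i hi; omega) r.2] at hr
  have e15 : ∀ a : ℕ, Nat.land a 15 = a % 16 := fun a => by
    show a &&& 15 = _
    rw [show (15 : ℕ) = 2 ^ 4 - 1 by norm_num, Nat.and_two_pow_sub_one_eq_mod]
  rw [e15, e15] at hr
  have hl := lane_app_id (el_okCode ((colIs_U hg).2 j (by omega))) r
  have h4 := h3 r
  have hr' : lane (app idT (el (img (uCol g) j))) r % 16 = 4 * F r % 16 := hr
  simp only [sv, uImg] at *
  omega

theorem U_row {g : ℕ} (hg : g < 8) {r : ℕ} (hr : r < 42) :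
    ∃ z ∈ lat, U g (CfsgLib.LocalEven.RuRootless.toZ (rows.getD r [])) = 4 • z := by
  obtain ⟨hcol, hi⟩ := colIs_U hg
  have h := allBin_spec _ _ _ _ (List.all_eq_true.1 row_img g (List.mem_range.2 hg)) r
    (Nat.zero_le _) hr (lt_of_lt_of_le hr (by decide))
  unfold rowImgOK at h
  obtain ⟨F, h1, h2, h3⟩ := combPk_spec _ _ rowW_packs ((uRow g).getD r 0)
  rw [row_wide.1] at h2
  let R : ℕ → ℕ := fun j => (rows.getD r []).getD j 0
  let D : ℕ → ℕ → ℕ := fun j q => (natX (U g (unitV j)) q + 4).toNat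
  have himg : ∀ n ≤ 56, Nat.rec (motive := fun _ => ℕ) 0
      (fun j acc => Nat.add acc (Nat.mul (lane (rowW.getD r 0) j) (col (uT g) j))) n =
        pkN 65536 56 (fun q => ∑ j ∈ Finset.range n, R j * D j q) := by
    intro n
    induction n with
    | zero => intro _; simp [pkN_zero]
    | succ n ih =>
      intro hn
      show _ + lane (rowW.getD r 0) n * col (uT g) n = _
      rw [ih (by omega), rowW_eq hr, lane_pkN (fun i _ => by have := row_entry_lt r i; omega) (by omega),
        show col (uT g) n = colW 896 m896 (uT g) n from rfl, (hcol n (by omega)).1, ← pkN_mul, ← pkN_add]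
      exact pkN_congr _ _ _ _ fun q _ => by rw [Finset.sum_range_succ]; rfl
  have htot : ∀ n ≤ 56, Nat.rec (motive := fun _ => ℕ) 0
      (fun j acc => Nat.add acc (lane (rowW.getD r 0) j)) n = ∑ j ∈ Finset.range n, R j := by
    intro n
    induction n with
    | zero => intro _; rfl
    | succ n ih =>
      intro hn
      show _ + lane (rowW.getD r 0) n = _
      rw [ih (by omega), rowW_eq hr, lane_pkN (fun i _ => by have := row_entry_lt r i; omega) (by omega),
        Finset.sum_range_succ]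
  have hb : ∀ q < 56, ∀ j < 56, |natX (U g (unitV j)) q| ≤ 4 := fun q hq j hj =>
    (hcol j (by omega)).2 q hq
  have hS : ∀ q < 56, ∑ j ∈ Finset.range 56, R j * D j q < 65536 := by
    intro q hq
    refine lt_of_le_of_lt (Finset.sum_le_sum (g := fun _ => 3 * 8) fun j hj => ?_) (by simp)
    refine Nat.mul_le_mul (by have := row_entry_lt r j; simp only [R]; omega) ?_
    have := abs_le.1 (hb q hq j (Finset.mem_range.1 hj))
    simp only [D]; omega
  have hkey : ∀ q : Fin 56, (16 : ℤ) ∣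
      U g (CfsgLib.LocalEven.RuRootless.toZ (rows.getD r [])) q - 4 * combZ (rows.map CfsgLib.LocalEven.RuRootless.toZ) ((uRow g).getD r 0) q := by
    intro q
    have hq := allBin_spec _ _ _ _ h q (Nat.zero_le _) q.2 (lt_of_lt_of_le q.2 (by decide))
    have e1 : rowImg (uT g) (rowW.getD r 0) = pkN 65536 56 (fun q => ∑ j ∈ Finset.range 56, R j * D j q) :=
      himg 56 le_rfl
    have e2 : rowTot (rowW.getD r 0) = ∑ j ∈ Finset.range 56, R j := htot 56 le_rfl
    rw [e1, e2, h1, Nat.beq_eq, lane_pkN hS q.2,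
      lane_pkN (fun i hi => by have := h2 i hi; omega) q.2] at hq
    have e15 : ∀ a : ℕ, Nat.land a 15 = a % 16 := fun a => by
      show a &&& 15 = _
      rw [show (15 : ℕ) = 2 ^ 4 - 1 by norm_num, Nat.and_two_pow_sub_one_eq_mod]
    rw [e15, e15] at hq
    have hq' : ((∑ j ∈ Finset.range 56, R j * D j q : ℕ) : ℤ) % 16 =
        (4 * ((F q : ℤ) + ((∑ j ∈ Finset.range 56, R j : ℕ) : ℤ))) % 16 := by
      have : (∑ j ∈ Finset.range 56, R j * D j q) % 16 = (4 * (F q + ∑ j ∈ Finset.range 56, R j)) % 16 := hq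
      omega
    have hU : U g (CfsgLib.LocalEven.RuRootless.toZ (rows.getD r [])) q = ((∑ j ∈ Finset.range 56, R j * D j q : ℕ) : ℤ) -
        4 * ((∑ j ∈ Finset.range 56, R j : ℕ) : ℤ) := by
      conv_lhs => rw [single_decomp (CfsgLib.LocalEven.RuRootless.toZ (rows.getD r [])), map_sum, Finset.sum_apply]
      rw [Finset.sum_range, Finset.sum_range]
      push_cast
      rw [Finset.mul_sum, ← Finset.sum_sub_distrib]
      refine Finset.sum_congr rfl fun j _ => ?_
      have := abs_le.1 (hb q q.2 j j.2)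
      simp only [D, natX_fin, R] at this ⊢
      rw [map_zsmul, Pi.smul_apply, smul_eq_mul, ← unitV_lo, Int.toNat_of_nonneg (by omega)]
      simp only [CfsgLib.LocalEven.RuRootless.toZ]
      ring
    rw [hU]
    exact mod16_comb hq' (h3 q)
  choose y hy using hkey
  refine ⟨combZ (rows.map CfsgLib.LocalEven.RuRootless.toZ) ((uRow g).getD r 0) + 4 • y, ?_, funext fun q => ?_⟩
  · exact add_mem (combZ_mem _ _ _ fun a ha => by
      obtain ⟨R', hR', rfl⟩ := List.mem_map.1 ha
      exact AddSubgroup.subset_closure (Or.inl ⟨R', hR', rfl⟩))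
      (AddSubgroup.subset_closure (Or.inr ⟨y, rfl⟩))
  · have := hy q
    simp only [Pi.add_apply, Pi.smul_apply, nsmul_eq_mul, Nat.cast_ofNat, Pi.mul_apply, Pi.ofNat_apply]
    omega

theorem U_lat {g : ℕ} (hg : g < 8) {x : X} (hx : x ∈ lat) : ∃ z ∈ lat, U g x = 4 • z := by
  refine AddSubgroup.closure_induction (p := fun x _ => ∃ z ∈ lat, U g x = 4 • z) ?_ ?_ ?_ ?_ hx
  · rintro _ (⟨R, hR, rfl⟩ | ⟨y, rfl⟩)
    · obtain ⟨r, hr, rfl⟩ := List.mem_iff_getElem.1 hR
      rw [← List.getD_eq_getElem rows [] hr]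
      exact U_row hg (by rw [rowW_packs.row_len_42] at hr; exact hr)
    · refine ⟨U g y, ?_, map_nsmul _ _ _⟩
      show (∑ j, y j • sv (uImg g j)) ∈ lat
      exact sum_mem fun j _ => zsmul_mem (U_frame_mem hg j) _
  · exact ⟨0, zero_mem _, by simp⟩
  · rintro a b _ _ ⟨za, ha, ea⟩ ⟨zb, hb, eb⟩
    exact ⟨za + zb, add_mem ha hb, by rw [map_add, ea, eb, nsmul_add]⟩
  · rintro a _ ⟨za, ha, ea⟩
    exact ⟨-za, neg_mem ha, by rw [map_neg, ea, neg_nsmul]⟩

end CfsgLib.RuGroup
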