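import Cfsg.Agent.Lib.RuGroup.OutCent
import Cfsg.Prelude.Def_KGroupFacts

/-!
Every automorphism of the Rudvalis group is inner.

Up to an inner automorphism it sends the element `x` of order 29 to `x` or its square, fixes the
element of order 7, so sends the involution `p` into the centraliser of the latter; two relations
between `x` and `p` leave one case, and `x` and `p` generate.
-/

set_option autoImplicit false
set_option maxRecDepth 100000

namespace CfsgLib.RuGroup

open CfsgLib.PresCert CfsgLib.LocalEven.RuRootless Cfsg.Spor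

attribute [local irreducible] colW app el idT profT classBits vecT lane pkN sv vec profOf singleP
  zT rotT zCol covX covZ certX certZ fixTX fixTZ1 fixTZ2 orbX orbIX orbZ orbIZ leftX leftZ
  oZ oT oP

/-- The quotient map. -/
noncomputable def prj : fourRu →* Ru := QuotientGroup.mk' (Subgroup.center fourRu)

theorem prj_surj : Function.Surjective prj := QuotientGroup.mk'_surjective _

theorem prj_one_iff {f : fourRu} : prj f = 1 ↔ f ∈ Subgroup.center fourRu := QuotientGroup.eq_one_iff f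

theorem prj_rot : prj rotG = 1 := prj_one_iff.2 (scalars_le (Subgroup.mem_zpowers _))

/-- The image of the element of order 29. -/
noncomputable def xR : Ru := prj xG
/-- The image of the element of order 7. -/
noncomputable def zR : Ru := prj zG
/-- The image of the inverting involution. -/
noncomputable def tR : Ru := prj tG
/-- The image of the commuting involution. -/
noncomputable def pR : Ru := prj pG

theorem uWord_rot (k : ℕ) : prj (uWord (List.replicate k 16)) = 1 := by
  rw [uWord_replicate, uLet_rot, map_pow, prj_rot, one_pow]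

theorem scal_of {w : List ℕ} {lw : List (List ℕ)} {m : ℕ} (hm : m < 4)
    (h : (uTraces w lw && decide (uEnds lw = uEnds (tr_rot.getD m []))) = true) : prj (uWord w) = 1 := by
  simp only [Bool.and_eq_true, decide_eq_true_eq] at h
  rw [uWord_eq h.1 (List.all_eq_true.1 rot_traces m (List.mem_range.2 hm)) h.2, uWord_rot]

theorem nscal_of {w : List ℕ} {lw : List (List ℕ)}
    (h : (uTraces w lw && (List.range 4).all (fun k => !(decide (uEnds lw = uEnds (tr_rot.getD k []))))) = true) :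
    prj (uWord w) ≠ 1 := by
  simp only [Bool.and_eq_true, List.all_eq_true, Bool.not_eq_true', decide_eq_false_iff_not] at h
  intro e
  rw [prj_one_iff, center_eq, scalars, ← mem_powers_iff_mem_zpowers, Submonoid.mem_powers_iff] at e
  obtain ⟨k, hk⟩ := e
  have hk4 : rotG ^ (k % 4) = rotG ^ k := by
    conv_rhs => rw [← Nat.div_add_mod k 4, pow_add, pow_mul, rotG_pow_four, one_pow, one_mul]
  have hlt : k % 4 < 4 := Nat.mod_lt _ (by norm_num)
  refine uWord_ne h.1 (List.all_eq_true.1 rot_traces _ (List.mem_range.2 hlt))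
    (h.2 _ (List.mem_range.2 hlt)) ?_
  rw [uWord_replicate, uLet_rot, hk4, hk]

theorem uWord_xWord (i : ℕ) : uWord (xWord i) = xG ^ i := by
  have e : xG ^ (i % 29) = xG ^ i := by
    conv_rhs => rw [← Nat.div_add_mod i 29, pow_add, pow_mul, xG_pow, one_pow, one_mul]
  unfold xWord
  split_ifs with h
  · rw [uWord_replicate, uLet_zero, e]
  · rw [uWord_replicate, uLet_eight, inv_pow, ← e]
    refine inv_eq_of_mul_eq_one_left ?_
    rw [← pow_add, show i % 29 + (29 - i % 29) = 29 by omega, xG_pow]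

theorem relA_eq (j : ℕ) (s : List ℕ) : prj (uWord (relA j s)) = (xR ^ j * prj (uWord s)) ^ 29 := by
  rw [relA, uWord_rep, map_pow, uWord_append, map_mul, uWord_xWord, map_pow]; rfl

theorem relB_eq (j : ℕ) (s : List ℕ) :
    prj (uWord (relB j s)) = (xR ^ j * prj (uWord s) * xR ^ (5 * j) * prj (uWord s)) ^ 5 := by
  rw [relB, uWord_rep, map_pow, uWord_append, uWord_append, uWord_append, map_mul, map_mul, map_mul,
    uWord_xWord, uWord_xWord, map_pow, map_pow]
  rfl

theorem xR_order : orderOf xR = 29 := by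
  haveI : Fact (Nat.Prime 29) := ⟨by norm_num⟩
  refine orderOf_eq_prime (by rw [xR, ← map_pow, xG_pow, map_one]) fun e => ?_
  have hc := prj_one_iff.1 e
  rw [center_eq, scalars, Subgroup.mem_zpowers_iff] at hc
  obtain ⟨k, hk⟩ := hc
  have h4 : xG ^ 4 = 1 := by
    rw [← hk, ← zpow_natCast, ← zpow_mul, mul_comm, zpow_mul, zpow_natCast, rotG_pow_four, one_zpow]
  have h1 : xG = 1 := by
    have := pow_gcd_eq_one.2 ⟨xG_pow, h4⟩
    rwa [show Nat.gcd 29 4 = 1 by norm_num, pow_one] at this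
  have hz := relA_eq 1 oP
  rw [show xR = 1 from e, one_pow, one_mul, scal_of (m := 1) (by norm_num) scal_a] at hz
  have hp2 : prj (uWord oP) ^ 2 = 1 := by
    rw [pow_two, ← map_mul, ← uWord_append]; exact scal_of (m := 0) (by norm_num) scal_p2
  have := pow_gcd_eq_one.2 ⟨hz.symm, hp2⟩
  rw [show Nat.gcd 29 2 = 1 by norm_num, pow_one] at this
  exact nscal_of nscal_p1 this

theorem conj_z (k : ℕ) : zR * xR ^ k * zR⁻¹ = xR ^ (16 * k) := by
  have h : zR * xR = xR ^ 16 * zR := by
    have := congrArg prj (rel_of rel_zx)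
    rw [uWord_append, uWord_append, uWord_single, uLet_zero, uWord_xWord, map_mul, map_mul, map_pow] at this
    exact this
  rw [← conj_pow, h, mul_inv_cancel_right, pow_mul]

theorem conj_t (k : ℕ) : tR * xR ^ k * tR⁻¹ = xR ^ (28 * k) := by
  have h : tR * xR = xR ^ 28 * tR := by
    have := congrArg prj (rel_of rel_tx)
    rw [uWord_append, uWord_append, uWord_single, uLet_zero, uWord_xWord, map_mul, map_mul, map_pow] at this
    exact this
  rw [← conj_pow, h, mul_inv_cancel_right, pow_mul]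

theorem xR_mod (k : ℕ) : xR ^ (k % 29) = xR ^ k := by
  conv_lhs => rw [← xR_order]
  exact pow_mod_orderOf _ _

theorem sq_one {w : List ℕ} {lw : List (List ℕ)} {m : ℕ} (hm : m < 4)
    (h : (uTraces (w ++ w) lw && decide (uEnds lw = uEnds (tr_rot.getD m []))) = true) :
    prj (uWord w) ^ 2 = 1 := by
  rw [pow_two, ← map_mul, ← uWord_append]; exact scal_of hm h

theorem cent_xR {g : Ru} (h : g * xR = xR * g) : ∃ i : ℕ, g = xR ^ i := by
  obtain ⟨f, rfl⟩ := prj_surj g
  have hc : f * xG * f⁻¹ * xG⁻¹ ∈ Subgroup.center fourRu := by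
    rw [← prj_one_iff, map_mul, map_mul, map_mul, map_inv, map_inv]
    show prj f * xR * (prj f)⁻¹ * xR⁻¹ = 1
    rw [h, mul_inv_cancel_right, mul_inv_cancel]
  obtain ⟨i, m, e⟩ := cent_x (comm_lift (n := 29) (by norm_num) xG_pow hc)
  exact ⟨i, by rw [e, map_mul, map_pow, map_pow, prj_rot, one_pow, mul_one]; rfl⟩

theorem cent_zR {g : Ru} (h : g * zR = zR * g) :
    ∃ i : ℕ, g = zR ^ i ∨ g = zR ^ i * tR ∨ g = zR ^ i * pR ∨ g = zR ^ i * (tR * pR) := by
  obtain ⟨f, rfl⟩ := prj_surj g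
  have hc : f * zG * f⁻¹ * zG⁻¹ ∈ Subgroup.center fourRu := by
    rw [← prj_one_iff, map_mul, map_mul, map_mul, map_inv, map_inv]
    show prj f * zR * (prj f)⁻¹ * zR⁻¹ = 1
    rw [h, mul_inv_cancel_right, mul_inv_cancel]
  obtain ⟨i, m, s, hs, e⟩ := cent_z (comm_lift (n := 7) (by norm_num) zG_pow hc)
  refine ⟨i, ?_⟩
  have e2 : prj f = zR ^ i * prj (centEl s) := by
    rw [e, map_mul, map_mul, map_pow, map_pow, prj_rot, one_pow, mul_one]; rfl
  rcases centEl_cases hs with e' | e' | e' | e' <;> rw [e'] at e2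
  · exact Or.inl (by rw [e2, map_one, mul_one])
  · exact Or.inr (Or.inl e2)
  · exact Or.inr (Or.inr (Or.inl e2))
  · exact Or.inr (Or.inr (Or.inr (by rw [e2, map_mul]; rfl)))

theorem zR_inv_cases {g : Ru} (h : g * zR = zR * g) (h2 : g ^ 2 = 1) (h1 : g ≠ 1) :
    g = tR ∨ g = pR ∨ g = tR * pR := by
  have htz : Commute zR tR := by
    show zR * tR = tR * zR
    rw [zR, tR, ← map_mul, ← map_mul, zG_tG]
  have hpz : Commute zR pR := by
    show zR * pR = pR * zR
    rw [zR, pR, ← map_mul, ← map_mul, zG_pG]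
  have hz7 : zR ^ 7 = 1 := by rw [zR, ← map_pow, zG_pow, map_one]
  have key : ∀ (i : ℕ) (s : Ru), Commute zR s → s ^ 2 = 1 → (zR ^ i * s) ^ 2 = 1 → zR ^ i = 1 := by
    intro i s hc hs hq
    rw [(Commute.pow_left hc i).mul_pow, hs, mul_one] at hq
    have h7 : (zR ^ i) ^ 7 = 1 := by rw [← pow_mul, mul_comm, pow_mul, hz7, one_pow]
    have := pow_gcd_eq_one.2 ⟨hq, h7⟩
    rwa [show Nat.gcd 2 7 = 1 by norm_num, pow_one] at this
  have ht : tR ^ 2 = 1 := sq_one (m := 0) (by norm_num) scal_t2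
  have hp : pR ^ 2 = 1 := sq_one (m := 0) (by norm_num) scal_p2
  have hq : (tR * pR) ^ 2 = 1 := by
    have := sq_one (w := oT ++ oP) (m := 2) (by norm_num) scal_q2
    rwa [uWord_append, map_mul] at this
  obtain ⟨i, e | e | e | e⟩ := cent_zR h
  · exfalso
    have := key i 1 (Commute.one_right _) (one_pow 2) (by rw [mul_one, ← e, h2])
    exact h1 (e.trans this)
  · exact Or.inl (by rw [e, key i _ htz ht (e ▸ h2), one_mul])
  · exact Or.inr (Or.inl (by rw [e, key i _ hpz hp (e ▸ h2), one_mul]))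
  · exact Or.inr (Or.inr (by rw [e, key i _ (htz.mul_right hpz) hq (e ▸ h2), one_mul]))

/-- An automorphism fixing both generators is trivial. -/
theorem eq_one_of_gens (ψ : MulAut Ru) (hx : ψ xR = xR) (hp : ψ pR = pR) : ψ = 1 := by
  let F : Subgroup fourRu := (ψ.toMonoidHom.comp prj).eqLocus prj
  have hxF : xG ∈ F := hx
  have hrot : rotG ∈ F := by
    show ψ (prj rotG) = prj rotG
    rw [prj_rot, map_one]
  have hpF : pG ∈ F := hp
  have hsyl : ∀ s : List ℕ, uWord (sylWord s) ∈ F := by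
    intro s
    induction s with
    | nil => exact one_mem _
    | cons a s ih =>
      have e : sylWord (a :: s) = xWord a ++ oP ++ sylWord s := rfl
      rw [e, uWord_append, uWord_append, uWord_xWord]
      exact mul_mem (mul_mem (pow_mem hxF a) hpF) ih
  have hu : ∀ g : Fin 8, uG g ∈ F := by
    intro g
    cases g using Fin.cases with
    | zero => exact hxF
    | succ g =>
      have h := List.all_eq_true.1 gen_words g (List.mem_range.2 g.2)
      simp only [Bool.and_eq_true, decide_eq_true_eq] at h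
      have e := uWord_eq h.1.1 h.1.2 h.2
      have hg : uLet ((g : ℕ) + 1) = uG g.succ := by
        rw [uLet, dif_pos (by omega)]
        exact congrArg uG (Fin.ext rfl)
      rw [uWord_single, hg, uWord_append, uWord_replicate, uLet_rot] at e
      rw [← e]
      exact mul_mem (hsyl _) (pow_mem hrot _)
  refine MulEquiv.ext fun q => ?_
  obtain ⟨f, rfl⟩ := prj_surj q
  have hle : genGrp ≤ F := by
    refine (Subgroup.closure_le _).2 ?_
    rintro _ (⟨g, rfl⟩ | rfl)
    · exact hu g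
    · exact hrot
  exact hle (mem_genGrp f)

theorem exists_conj_power (φ : MulAut Ru) : ∃ c : Ru, ∃ j : ℕ, j < 29 ∧ c * φ xR * c⁻¹ = xR ^ j := by
  haveI : Fact (Nat.Prime 29) := ⟨by norm_num⟩
  have hord : ∀ q : Ru, orderOf q = 29 → ∃ P : Sylow 29 Ru, (P : Subgroup Ru) = Subgroup.zpowers q := by
    intro q hq
    have hcard : Nat.card (Subgroup.zpowers q) = 29 := by rw [Nat.card_zpowers, hq]
    obtain ⟨P, hP⟩ := (IsPGroup.of_card (p := 29) (n := 1) (by rw [hcard, pow_one])).exists_le_sylow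
    refine ⟨P, (Subgroup.eq_of_le_of_card_ge hP ?_).symm⟩
    obtain ⟨n, hn⟩ := P.2.exists_card_eq
    have hn' : Nat.card (P : Subgroup Ru) = 29 ^ n := hn
    rw [hcard, hn']
    rcases (show n ≤ 1 ∨ 2 ≤ n by omega) with h | h
    · exact (Nat.pow_le_pow_right (by norm_num) h).trans (by norm_num)
    · exfalso
      have h1 : 29 ^ 2 ∣ Nat.card Ru :=
        (pow_dvd_pow 29 h).trans (hn' ▸ Subgroup.card_subgroup_dvd_card (P : Subgroup Ru))
      rw [card_Ru] at h1
      norm_num at h1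
  obtain ⟨P, hP⟩ := hord xR xR_order
  obtain ⟨Q, hQ⟩ := hord (φ xR) (by rw [MulEquiv.orderOf_eq, xR_order])
  obtain ⟨c, hc⟩ := MulAction.exists_smul_eq Ru Q P
  have h1 : c * φ xR * c⁻¹ ∈ (P : Subgroup Ru) := by
    rw [← hc, Sylow.coe_subgroup_smul, hQ]
    exact ⟨φ xR, Subgroup.mem_zpowers _, rfl⟩
  rw [hP, ← mem_powers_iff_mem_zpowers, Submonoid.mem_powers_iff] at h1
  obtain ⟨j, hj⟩ := h1
  exact ⟨c, j % 29, Nat.mod_lt _ (by norm_num), by rw [xR_mod, hj]⟩

theorem reduce_exp : ∀ j : Fin 29, (j : ℕ) ≠ 0 →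
    ∃ k : Fin 14, ((13 : ℕ) ^ (k : ℕ) * (j : ℕ)) % 29 = 1 ∨ ((13 : ℕ) ^ (k : ℕ) * (j : ℕ)) % 29 = 2 := by
  decide +kernel

theorem inner_all (φ : MulAut Ru) : φ ∈ Cfsg.Inn Ru := by
  obtain ⟨c, j, hj, hcj⟩ := exists_conj_power φ
  have hj0 : j ≠ 0 := fun e => by
    rw [e, pow_zero] at hcj
    have : φ xR = 1 := by
      have := congrArg (fun q => c⁻¹ * q * c) hcj
      simpa [mul_assoc] using this
    have := congrArg orderOf this
    rw [MulEquiv.orderOf_eq, xR_order, orderOf_one] at this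
    norm_num at this
  obtain ⟨k, hk⟩ := reduce_exp ⟨j, hj⟩ hj0
  let n : Ru := (tR * zR) ^ (k : ℕ)
  have hn : ∀ (e m : ℕ), (tR * zR) ^ e * xR ^ m * ((tR * zR) ^ e)⁻¹ = xR ^ (13 ^ e * m) := by
    intro e
    induction e with
    | zero => intro m; simp
    | succ e ih =>
      intro m
      have e1 : ∀ a b : Ru, tR * zR * a * b * (tR * zR * a)⁻¹ =
          tR * (zR * (a * b * a⁻¹) * zR⁻¹) * tR⁻¹ := fun a b => by group
      rw [pow_succ', e1, ih, conj_z, conj_t, ← xR_mod, ← xR_mod (13 ^ (e + 1) * m)]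
      congr 1
      rw [pow_succ, show 28 * (16 * (13 ^ e * m)) = 448 * (13 ^ e * m) by ring,
        show 13 ^ e * 13 * m = 13 * (13 ^ e * m) by ring]
      generalize 13 ^ e * m = q
      omega
  let ψ₁ : MulAut Ru := MulAut.conj (n * c) * φ
  obtain ⟨j', hj', hx1⟩ : ∃ j', (j' = 1 ∨ j' = 2) ∧ ψ₁ xR = xR ^ j' := by
    refine ⟨(13 ^ (k : ℕ) * j) % 29, hk, ?_⟩
    rw [xR_mod, ← hn, ← hcj]
    show n * c * φ xR * (n * c)⁻¹ = _
    simp only [n]
    group
  have hz1 : ∃ i : ℕ, ψ₁ zR = zR * xR ^ i := by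
    have h : ψ₁ zR * xR ^ j' * (ψ₁ zR)⁻¹ = zR * xR ^ j' * zR⁻¹ := by
      rw [← hx1, ← map_inv, ← map_mul, ← map_mul, show zR * xR * zR⁻¹ = xR ^ 16 from by
        have := conj_z 1; rwa [pow_one, mul_one] at this, map_pow, hx1, conj_z, ← pow_mul, mul_comm]
    have hc : (zR⁻¹ * ψ₁ zR) * xR ^ j' = xR ^ j' * (zR⁻¹ * ψ₁ zR) := by
      have := congrArg (fun q => zR⁻¹ * q * ψ₁ zR) h
      simpa [mul_assoc] using this
    have hc' : (zR⁻¹ * ψ₁ zR) * xR = xR * (zR⁻¹ * ψ₁ zR) := by
      rcases hj' with rfl | rfl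
      · simpa using hc
      · have h15 := (Commute.pow_right hc 15).eq
        rwa [← pow_mul, ← xR_mod (2 * 15), show 2 * 15 % 29 = 1 by norm_num, pow_one] at h15
    obtain ⟨i, hi⟩ := cent_xR hc'
    exact ⟨i, by rw [← hi, mul_inv_cancel_left]⟩
  obtain ⟨i, hz1⟩ := hz1
  let ψ : MulAut Ru := MulAut.conj (xR ^ (3 * i)) * ψ₁
  have hx : ψ xR = xR ^ j' := by
    show xR ^ (3 * i) * ψ₁ xR * (xR ^ (3 * i))⁻¹ = _
    rw [hx1, ← pow_add, add_comm, pow_add, mul_inv_cancel_right]
  have hz : ψ zR = zR := by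
    show xR ^ (3 * i) * ψ₁ zR * (xR ^ (3 * i))⁻¹ = _
    rw [hz1]
    have h3 : xR ^ (3 * i) * zR = zR * xR ^ (60 * i) := by
      have := conj_z (60 * i)
      rw [← xR_mod (16 * (60 * i)), show 16 * (60 * i) % 29 = 3 * i % 29 by omega, xR_mod] at this
      rw [← this, inv_mul_cancel_right]
    rw [← mul_assoc, h3, mul_assoc zR, ← pow_add, mul_assoc]
    refine mul_eq_left.2 (mul_inv_eq_one.2 ?_)
    rw [← xR_mod, show (60 * i + i) % 29 = 3 * i % 29 by omega, xR_mod]
  have hzp : zR * pR = pR * zR := by rw [zR, pR, ← map_mul, ← map_mul, zG_pG]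
  have hs : ψ pR * zR = zR * ψ pR := by
    conv_lhs => rw [← hz, ← map_mul, ← hzp, map_mul, hz]
  have hs2 : ψ pR ^ 2 = 1 := by
    rw [← map_pow, show pR ^ 2 = 1 from sq_one (m := 0) (by norm_num) scal_p2, map_one]
  have hs1 : ψ pR ≠ 1 := fun e => nscal_of nscal_p1 (by
    have : pR = 1 := ψ.injective (e.trans (map_one ψ).symm)
    exact this)
  have hA : (xR * pR) ^ 29 = 1 := by
    have := scal_of (m := 1) (by norm_num) scal_a
    rwa [relA_eq, pow_one] at this
  have hB : (xR * pR * xR ^ 5 * pR) ^ 5 = 1 := by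
    have := scal_of (m := 0) (by norm_num) scal_b
    rwa [relB_eq, pow_one, mul_one] at this
  have hA' : (xR ^ j' * ψ pR) ^ 29 = 1 := by rw [← hx, ← map_mul, ← map_pow, hA, map_one]
  have hB' : (xR ^ j' * ψ pR * xR ^ (5 * j') * ψ pR) ^ 5 = 1 := by
    rw [mul_comm 5 j', pow_mul xR j' 5, ← hx, ← map_pow ψ xR 5, ← map_mul, ← map_mul, ← map_mul,
      ← map_pow, hB, map_one]
  have hq : prj (uWord (oT ++ oP)) = tR * pR := by rw [uWord_append, map_mul]; rfl
  have hψ : ψ = 1 := by
    rcases zR_inv_cases hs hs2 hs1 with e | e | e <;> rcases hj' with rfl | rfl <;> rw [e] at hA' hB'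
    · exact absurd hA' (by have := nscal_of nscal_c; rwa [relA_eq] at this)
    · exact absurd hA' (by have := nscal_of nscal_d; rwa [relA_eq] at this)
    · exact eq_one_of_gens ψ (by rw [hx, pow_one]) e
    · exact absurd hA' (by have := nscal_of nscal_f; rwa [relA_eq] at this)
    · exact absurd hA' (by have := nscal_of nscal_e; rwa [relA_eq, hq] at this)
    · exact absurd hB' (by have := nscal_of nscal_g; rwa [relB_eq, hq] at this)
  have e1 : MulAut.conj (xR ^ (3 * i) * (n * c)) * φ = 1 := by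
    rw [map_mul, mul_assoc]; exact hψ
  exact ⟨(xR ^ (3 * i) * (n * c))⁻¹, by rw [map_inv, inv_eq_of_mul_eq_one_right e1]⟩

theorem card_out : Nat.card (Cfsg.Out Ru) = 1 := by
  refine Nat.card_eq_one_iff_unique.2 ⟨⟨fun a b => ?_⟩, ⟨1⟩⟩
  obtain ⟨φ, rfl⟩ := QuotientGroup.mk_surjective a
  obtain ⟨χ, rfl⟩ := QuotientGroup.mk_surjective b
  exact QuotientGroup.eq.2 (inner_all _)

end CfsgLib.RuGroup
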