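import Cfsg.Agent.Lib.RuGroup.MapChecks
import Cfsg.Agent.Lib.RuGroup.DataOut

/-!
The predicates of the checks for the automorphisms.

Letters `n < 8` stand for the maps, `n + 8` for their inverses and `16` for the scalar.
-/

set_option autoImplicit false

namespace CfsgLib.RuGroup

open CfsgLib.PresCert

/-- The first entry, or a default. -/
noncomputable def headD (l : List Nat) (x : Nat) : Nat :=
  List.rec (motive := fun _ => Nat) x (fun z _ _ => z) l

/-- One letter of a trace. -/
noncomputable def uLetterOK (a x y : Nat) : Bool :=
  Bool.rec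
    (Bool.rec
      (Bool.rec false (sends rotT x y) (Nat.beq a (nat_lit 16)))
      (sends (uT (Nat.sub a (nat_lit 8))) y x) (Nat.blt a (nat_lit 16)))
    (sends (uT a) x y) (Nat.blt a (nat_lit 8))

/-- A trace follows a word; its head is the image. -/
noncomputable def uTraceOK : List Nat → List Nat → Nat → Bool :=
  fun w => List.rec (motive := fun _ => List Nat → Nat → Bool)
    (fun l _ => List.rec (motive := fun _ => Bool) true (fun _ _ _ => false) l)
    (fun a _ ih l x => List.rec (motive := fun _ => Bool) false
      (fun y ys _ => Bool.rec false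
        (Bool.rec false (uLetterOK a (headD ys x) y) (Nat.blt y (nat_lit 16240)))
        (ih ys x)) l) w

/-- The traces of a word on the base. -/
noncomputable def uTraces (w : List Nat) (ls : List (List Nat)) : Bool :=
  uTraceOK w (ls.getD 0 []) (nat_lit 0) && uTraceOK w (ls.getD 1 []) (nat_lit 112) &&
    uTraceOK w (ls.getD 2 []) (nat_lit 144) && uTraceOK w (ls.getD 3 []) (nat_lit 48) &&
    uTraceOK w (ls.getD 4 []) (nat_lit 7745)

/-- The images of the base. -/
noncomputable def uEnds (ls : List (List Nat)) : List Nat :=
  [headD (ls.getD 0 []) (nat_lit 0), headD (ls.getD 1 []) (nat_lit 112), headD (ls.getD 2 []) (nat_lit 144),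
    headD (ls.getD 3 []) (nat_lit 48), headD (ls.getD 4 []) (nat_lit 7745)]

/-- A power of the first map as a word. -/
def xWord (i : Nat) : List Nat :=
  if i % 29 ≤ 14 then List.replicate (i % 29) 0 else List.replicate (29 - i % 29) 8

/-- A product of syllables as a word. -/
def sylWord (s : List Nat) : List Nat := s.flatMap fun i => xWord i ++ oP

/-- The first relation in a power of the first map and an involution. -/
def relA (j : Nat) (s : List Nat) : List Nat := (List.replicate 29 (xWord j ++ s)).flatten

/-- The second relation. -/
def relB (j : Nat) (s : List Nat) : List Nat :=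
  (List.replicate 5 (xWord j ++ s ++ xWord (5 * j) ++ s)).flatten

/-- A column of four times the scalar. -/
noncomputable def rotColOK (c : Nat) : Bool := Nat.beq (col rotT c) (col idT (rotC c))

/-- The index of a signed unit vector, times four, as a short vector. -/
noncomputable def frameIdx (c : Nat) : Nat :=
  Bool.rec (Nat.mul (nat_lit 2) c) (Nat.add (Nat.mul (nat_lit 2) (Nat.sub c (nat_lit 56))) (nat_lit 1))
    (Nat.ble (nat_lit 56) c)

/-- A column of the element of order 7 agrees with its word. -/
noncomputable def zUnitOK (c : Nat) : Bool :=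
  uTraceOK oZ (zUnit.getD c []) (frameIdx c) && Nat.beq (headD (zUnit.getD c []) (frameIdx c)) (img zCol c)

/-- An entry of a table of orbits follows from an earlier one. -/
noncomputable def covOK (T R : Nat) (t : BTree) (i : Nat) : Bool :=
  Bool.rec
    (Bool.rec false (sends T (child t (parent t i)) (child t i)) (Nat.blt (parent t i) i))
    true (Nat.blt i R)

/-- A term of a scalar product. -/
noncomputable def dotTerm (L c : Nat) : Nat :=
  pick (Nat.ble (nat_lit 56) c) (Nat.sub (nat_lit 128) (lane L (Nat.sub c (nat_lit 56)))) (lane L c)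

/-- A scalar product of two short vectors, times four and shifted. -/
noncomputable def dotK (a b : Nat) : Nat :=
  (fun L => Nat.rec (motive := fun _ => Nat → Nat) (fun _ => nat_lit 0)
    (fun _ ih code => Nat.add (dotTerm L (Nat.land code (nat_lit 127))) (ih (Nat.shiftRight code (nat_lit 7))))
    (nat_lit 16) (el a)) (app idT (el b))

/-- Certificate of a representative. -/
noncomputable def certAt (t : BTree) (i : Nat) : Nat := getP t (nat_lit 96) (2 ^ 96 - 1) i

/-- An entry of the path of a certificate. -/
noncomputable def certPt (c k : Nat) : Nat :=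
  Nat.land (Nat.shiftRight c (Nat.add (nat_lit 8) (Nat.mul k (nat_lit 14)))) (nat_lit 16383)

/-- The path of a certificate is a piece of an orbit. -/
noncomputable def pathPts (T c r : Nat) : Nat → Bool :=
  fun n => Nat.rec (motive := fun _ => Bool) true
    (fun k ih => Bool.rec false
      (Bool.rec false
        (sends T (Nat.rec (motive := fun _ => Nat) r (fun j _ => certPt c j) k) (certPt c k))
        (Nat.blt (certPt c k) (nat_lit 16240)))
      ih) n

/-- A representative is either excluded by a scalar product or is listed. -/
noncomputable def repOK (T : Nat) (o oI : List Nat) (t tc : BTree) (left : List Nat) (j : Nat) : Bool :=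
  (fun r c =>
    Bool.rec (memN r left)
      ((fun i => Nat.blt (nat_lit 0) i && Nat.blt i o.length && pathPts T c r i &&
        Bool.rec
          (!(Nat.beq (dotK (certPt c (Nat.pred i)) r) (dotK (o.getD i 0) (o.getD 0 0))))
          (sends rotT (certPt c (Nat.pred i)) (certPt c i) && Nat.blt (certPt c i) (nat_lit 16240) &&
            !(Nat.beq (dotK (certPt c i) r) (dotK (oI.getD i 0) (o.getD 0 0))))
          (Nat.beq (Nat.land (Nat.shiftRight c (nat_lit 1)) (nat_lit 1)) (nat_lit 1)))
        (Nat.land (Nat.shiftRight c (nat_lit 2)) (nat_lit 63)))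
      (Nat.beq (Nat.land c (nat_lit 1)) (nat_lit 1))) (child t j) (certAt tc j)

/-- A listed orbit with its rotation. -/
noncomputable def orbOK (T : Nat) (o oI : List Nat) (i : Nat) : Bool :=
  Nat.blt (o.getD i 0) (nat_lit 16240) && Nat.blt (oI.getD i 0) (nat_lit 16240) &&
    sends rotT (o.getD i 0) (oI.getD i 0) &&
    (Nat.beq (Nat.add i 1) o.length || sends T (o.getD i 0) (o.getD (Nat.add i 1) 0))

/-- The word of the four classes of elements commuting with the element of order 7. -/
def centWord : Nat → List Nat
  | 1 => oT
  | 2 => oP
  | 3 => oT ++ oP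
  | _ => []

/-- The word of a listed representative. -/
def leftWord (h : List Nat) (e : Nat × Nat × Nat × Nat × List Nat) : List Nat :=
  (List.replicate e.2.1 h).flatten ++ List.replicate e.2.2.1 16 ++ centWord e.2.2.2.1

/-- A listed representative is the image of the base vector. -/
noncomputable def leftOK (h : List Nat) (v0 n : Nat) (e : Nat × Nat × Nat × Nat × List Nat) : Bool :=
  uTraceOK (leftWord h e) e.2.2.2.2 v0 && Nat.beq (headD e.2.2.2.2 v0) e.1 &&
    Nat.blt e.2.1 n && Nat.blt e.2.2.1 4 && Nat.blt e.2.2.2.1 4

/-- A column of a profile table of fourteen vectors. -/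
noncomputable def fixColOK (P : Nat) (V : List Nat) (c : Nat) : Bool :=
  Nat.beq (Nat.add (Nat.mul (nat_lit 4) (colW (nat_lit 112) (2 ^ 112 - 1) P c))
      (pkN (nat_lit 256) (nat_lit 14) (fun _ => nat_lit 48)))
    (pkN (nat_lit 256) (nat_lit 14) (fun r => lane (app idT (el (V.getD r 0))) c)) &&
  Nat.beq (Nat.add (colW (nat_lit 112) (2 ^ 112 - 1) P c)
      (colW (nat_lit 112) (2 ^ 112 - 1) P (Nat.add c (nat_lit 56))))
    (pkN (nat_lit 256) (nat_lit 14) (fun _ => nat_lit 8))

/-- The profile against fourteen vectors. -/
noncomputable def fixProf (P i : Nat) : Nat := sumCols (nat_lit 112) (2 ^ 112 - 1) P (nat_lit 16) (el i)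

/-- The second vector of each pair is the first times the scalar. -/
noncomputable def fixPairOK (V : List Nat) (k : Nat) : Bool :=
  Nat.blt (V.getD (2 * k) 0) (nat_lit 16240) && Nat.blt (V.getD (2 * k + 1) 0) (nat_lit 16240) &&
    sends rotT (V.getD (2 * k) 0) (V.getD (2 * k + 1) 0)

/-- No other short vector has the profile of a target. -/
noncomputable def uniqOK (Ps tg : List Nat) (P i : Nat) : Bool :=
  (fun p => Bool.rec true (memN i tg) (memN p Ps)) (fixProf P i)

/-- The first members of the pairs. -/
def fixHeads (V : List Nat) : List Nat := (List.range 7).map fun k => V.getD (2 * k) 0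

end CfsgLib.RuGroup
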