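import Cfsg.Agent.Lib.RuGroup.Simple
import Cfsg.Agent.Lib.RuGroup.OutChecks
import Cfsg.Agent.Lib.RuGroup.CheckOutCovX
import Cfsg.Agent.Lib.RuGroup.CheckOutCovZ
import Cfsg.Agent.Lib.RuGroup.CheckOutSetX
import Cfsg.Agent.Lib.RuGroup.CheckOutSetZ
import Cfsg.Agent.Lib.RuGroup.CheckOutMaps
import Cfsg.Agent.Lib.RuGroup.CheckOutUniq
import Cfsg.Agent.Lib.RuGroup.CheckOutRel

/-!
Words in the chosen maps and the centralisers of an element of order 29 and of one of order 7.
-/

set_option autoImplicit false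
set_option maxRecDepth 100000

namespace CfsgLib.RuGroup

open CfsgLib.PresCert CfsgLib.LocalEven.RuRootless Cfsg.Spor

attribute [local irreducible] colW app el idT profT classBits vecT lane pkN sv vec profOf singleP
  zT rotT zCol covX covZ certX certZ fixTX fixTZ1 fixTZ2

/-! ### Letters, words and traces -/

/-- A letter as an automorphism. -/
noncomputable def uLet (n : ℕ) : fourRu :=
  if h : n < 8 then uG ⟨n, h⟩ else if h' : n < 16 then (uG ⟨n - 8, by omega⟩)⁻¹ else
    if n = 16 then rotG else 1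

/-- A word as an automorphism. -/
noncomputable def uWord (w : List ℕ) : fourRu := (w.map uLet).prod

theorem uWord_append (u v : List ℕ) : uWord (u ++ v) = uWord u * uWord v := by
  simp [uWord]

theorem uWord_single (a : ℕ) : uWord [a] = uLet a := by simp [uWord]

theorem uWord_nil : uWord [] = 1 := rfl

theorem uWord_rep : ∀ (w : List ℕ) (k : ℕ), uWord (List.replicate k w).flatten = uWord w ^ k
  | w, 0 => by simp [uWord]
  | w, k + 1 => by
    rw [List.replicate_succ, List.flatten_cons, uWord_append, uWord_rep w k, pow_succ']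

theorem uWord_replicate (a k : ℕ) : uWord (List.replicate k a) = uLet a ^ k := by
  simp [uWord]

theorem uLet_rot : uLet 16 = rotG := by simp [uLet]

/-- A number as a point. -/
def op (x : ℕ) : Fin 16240 := Fin.ofNat 16240 x

theorem op_mk {x : ℕ} (h : x < 16240) : op x = ⟨x, h⟩ := Fin.ext (Nat.mod_eq_of_lt h)

theorem op_val (i : Fin 16240) : op i = i := op_mk i.2

theorem ptIdx_inj {a b : ℕ} (ha : a < 16240) (hb : b < 16240) (h : op a = op b) : a = b := by
  rw [op_mk ha, op_mk hb] at h
  exact Fin.mk.inj h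

theorem colIs_rot : ColIs 896 m896 rotT 65536 56 (natX.comp ((4 : ℕ) • rotX)) := fun c hc => by
  have h := allBin_spec _ _ _ _ rot_col c (Nat.zero_le _) hc (by omega)
  rw [rotColOK, Nat.beq_eq] at h
  have hr := rotC_lt ⟨c, hc⟩
  obtain ⟨e, b⟩ := colIs_id (rotC c) hr
  have hval : ∀ r, (4 • natX : X →+ ℕ → ℤ) (unitV (rotC c)) r =
      natX.comp ((4 : ℕ) • rotX) (unitV c) r := fun r => by
    rw [unitV_rotC hc, AddMonoidHom.smul_apply, AddMonoidHom.comp_apply, AddMonoidHom.smul_apply, map_nsmul]
  refine ⟨(h.trans e).trans (pkN_congr _ _ _ _ fun r _ => by rw [hval]), fun r hr' => ?_⟩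
  rw [← hval]; exact b r hr'

theorem rot_smul_op {a b : ℕ} (ha : a < 16240) (hb : b < 16240) (h : sends rotT a b = true) :
    rotG • op a = op b := by
  rw [op_mk ha, op_mk hb]
  refine rotG_smul_eq (four_inj ?_)
  have := sends_spec colIs_rot ha hb h
  rwa [AddMonoidHom.smul_apply] at this

theorem uG_smul_op (g : Fin 8) {a b : ℕ} (ha : a < 16240) (hb : b < 16240)
    (h : sends (uT g) a b = true) : uG g • op a = op b := by
  rw [op_mk ha, op_mk hb]
  exact uG_smul g h

theorem headD_cons (y : ℕ) (ys : List ℕ) (x : ℕ) : headD (y :: ys) x = y := rfl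

theorem uLetterOK_spec {a x y : ℕ} (hx : x < 16240) (hy : y < 16240) (h : uLetterOK a x y = true) :
    uLet a • op x = op y := by
  unfold uLetterOK at h
  unfold uLet
  by_cases h4 : a < 8
  · rw [show Nat.blt a 8 = true by simpa using h4] at h
    rw [dif_pos h4]
    exact uG_smul_op ⟨a, h4⟩ hx hy h
  · rw [show Nat.blt a 8 = false by simpa [Bool.eq_false_iff] using h4] at h
    rw [dif_neg h4]
    by_cases h8 : a < 16
    · rw [show Nat.blt a 16 = true by simpa using h8] at h
      rw [dif_pos h8, inv_smul_eq_iff]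
      exact (uG_smul_op ⟨a - 8, by omega⟩ hy hx h).symm
    · rw [show Nat.blt a 16 = false by simpa [Bool.eq_false_iff] using h8] at h
      rw [dif_neg h8]
      cases he : Nat.beq a 16
      · simp [he] at h
      · simp only [he] at h
        rw [if_pos (Nat.eq_of_beq_eq_true he)]
        exact rot_smul_op hx hy h

theorem uTraceOK_spec : ∀ (w l : List ℕ) (x : ℕ), x < 16240 → uTraceOK w l x = true →
    headD l x < 16240 ∧ uWord w • op x = op (headD l x)
  | [], [], x, hx, _ => ⟨hx, one_smul _ _⟩
  | [], _ :: _, x, _, h => absurd h (by simp [uTraceOK])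
  | a :: w, [], x, _, h => absurd h (by simp [uTraceOK])
  | a :: w, y :: ys, x, hx, h => by
    change (Bool.rec false (Bool.rec false (uLetterOK a (headD ys x) y) (Nat.blt y 16240))
      (uTraceOK w ys x) : Bool) = true at h
    cases hr : uTraceOK w ys x
    · simp [hr] at h
    · obtain ⟨hlt, he⟩ := uTraceOK_spec w ys x hx hr
      simp only [hr] at h
      cases hb : Nat.blt y 16240
      · simp [hb] at h
      · simp only [hb] at h
        have hy : y < 16240 := by simpa using hb
        refine ⟨hy, ?_⟩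
        rw [uWord, List.map_cons, List.prod_cons, mul_smul, ← uWord, he]
        exact uLetterOK_spec hlt hy h

theorem uTraces_spec {w : List ℕ} {ls : List (List ℕ)} (h : uTraces w ls = true) (b : Fin 5) :
    (uEnds ls).getD b 0 < 16240 ∧ uWord w • basePt b = op ((uEnds ls).getD b 0) := by
  simp only [uTraces, Bool.and_eq_true] at h
  obtain ⟨⟨⟨⟨h0, h1⟩, h2⟩, h3⟩, h4⟩ := h
  fin_cases b
  · exact uTraceOK_spec _ _ 0 (by norm_num) h0
  · exact uTraceOK_spec _ _ 112 (by norm_num) h1
  · exact uTraceOK_spec _ _ 144 (by norm_num) h2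
  · exact uTraceOK_spec _ _ 48 (by norm_num) h3
  · exact uTraceOK_spec _ _ 7745 (by norm_num) h4

theorem eq_of_base {f g : fourRu} (h : ∀ b, f • basePt b = g • basePt b) : f = g :=
  (inv_mul_eq_one.1 (eq_one_of_fix (f := g⁻¹ * f) fun b => by rw [mul_smul, h b, inv_smul_smul])).symm

theorem uWord_eq {u v : List ℕ} {lu lv : List (List ℕ)} (hu : uTraces u lu = true)
    (hv : uTraces v lv = true) (he : uEnds lu = uEnds lv) : uWord u = uWord v :=
  eq_of_base fun b => by rw [(uTraces_spec hu b).2, (uTraces_spec hv b).2, he]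

theorem uWord_ne {u v : List ℕ} {lu lv : List (List ℕ)} (hu : uTraces u lu = true)
    (hv : uTraces v lv = true) (he : uEnds lu ≠ uEnds lv) : uWord u ≠ uWord v := fun e => he (by
  have key : ∀ b : Fin 5, (uEnds lu).getD b 0 = (uEnds lv).getD b 0 := fun b => by
    obtain ⟨a1, a2⟩ := uTraces_spec hu b
    obtain ⟨b1, b2⟩ := uTraces_spec hv b
    rw [e, b2] at a2
    exact (ptIdx_inj b1 a1 a2).symm
  have k0 := key 0; have k1 := key 1; have k2 := key 2; have k3 := key 3; have k4 := key 4
  simp only [uEnds, List.cons.injEq, and_true]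
  exact ⟨k0, k1, k2, k3, k4⟩)

/-! ### The element of order 7 -/

/-- The element of order 7. -/
noncomputable def zG : fourRu := uWord oZ

theorem sv_frameIdx (j : Fin 56) :
    frameIdx j < 16240 ∧ sv (frameIdx j) = Pi.single j (4 : ℤ) := by
  have e : frameIdx j = 2 * (j : ℕ) := by
    unfold frameIdx
    rw [show Nat.ble 56 (j : ℕ) = false by simpa [Bool.eq_false_iff] using j.2]
    rfl
  rw [e]
  refine ⟨by omega, ?_⟩
  rw [sv_frame (by omega)]
  congr 1
  · exact Fin.ext (by simp only; omega)
  · simp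

theorem colIs_z : ∃ L : X →+ X, ColIs 896 m896 zT 65536 56 (natX.comp L) ∧
    ∀ x : lat, L (x : X) = (4 : ℕ) • (endoOf zG x : X) := by
  have hc : ∀ c < 112, colOK zT zCol c = true ∧ zUnitOK c = true := fun c hc => by
    have h := allBin_spec _ _ _ _ z_col c (Nat.zero_le _) hc (by omega)
    simpa [Bool.and_eq_true] using h
  obtain ⟨hcol, hi⟩ := colOK_lift fun c h => (hc c h).1
  refine ⟨_, hcol, fun x => ?_⟩
  have hunit : ∀ j : Fin 56, (endoOf zG ⟨_, frame_lat j⟩ : X) = sv (img zCol (j : ℕ)) := by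
    intro j
    obtain ⟨hlt, hsv⟩ := sv_frameIdx j
    have h := (hc j (by omega)).2
    simp only [zUnitOK, Bool.and_eq_true, Nat.beq_eq] at h
    obtain ⟨-, he⟩ := uTraceOK_spec _ _ _ hlt h.1
    rw [h.2, op_mk hlt, op_mk (hi j (by omega))] at he
    have := congrArg Subtype.val (smul_spec (uWord oZ) ⟨_, hlt⟩)
    rw [he] at this
    have e : (⟨_, frame_lat j⟩ : lat) = pv ⟨_, hlt⟩ := Subtype.ext hsv.symm
    rw [zG, e]
    exact this
  have e4 : (4 : ℕ) • x = ∑ j, (x : X) j • (⟨_, frame_lat j⟩ : lat) := by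
    refine Subtype.ext ?_
    rw [AddSubmonoidClass.coe_nsmul, AddSubmonoidClass.coe_finset_sum]
    simp only [AddSubgroupClass.coe_zsmul]
    funext r
    simp [Finset.sum_apply, Pi.single_apply, mul_comm]
  have h := congrArg (fun y => ((endoOf zG y : lat) : X)) e4
  simp only [map_nsmul, map_sum, map_zsmul, AddSubmonoidClass.coe_nsmul, AddSubmonoidClass.coe_finset_sum,
    AddSubgroupClass.coe_zsmul, hunit] at h
  rw [h]
  rfl

theorem zG_smul_op {a b : ℕ} (ha : a < 16240) (hb : b < 16240) (h : sends zT a b = true) :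
    zG • op a = op b := by
  obtain ⟨L, hL, hLs⟩ := colIs_z
  rw [op_mk ha, op_mk hb]
  refine pv_inj ((smul_spec _ _).symm.trans (Subtype.ext (four_inj ?_)))
  rw [← hLs]
  exact sends_spec hL ha hb h

/-! ### Scalar products -/

theorem dotTerm_spec {b c : ℕ} (hb : b < 16240) (hc : c < 112) :
    (dotTerm (app idT (el b)) c : ℤ) = 4 * dot (unitV c) (sv b) + 64 := by
  unfold dotTerm pick
  rcases lt_or_ge c 56 with h | h
  · rw [show Nat.ble 56 c = false by simpa [Bool.eq_false_iff] using h]
    rw [show unitV c = Pi.single (⟨c, h⟩ : Fin 56) 1 from unitV_lo ⟨c, h⟩, dot_comm, dot_single, mul_one]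
    simp only [sv]
    exact lane_app_id (el_okCode hb) ⟨c, h⟩
  · rw [show Nat.ble 56 c = true by simpa using h]
    obtain ⟨j, rfl⟩ : ∃ j : Fin 56, c = (j : ℕ) + 56 := ⟨⟨c - 56, by omega⟩, by simp; omega⟩
    rw [unitV_hi, dot_comm, show -(Pi.single j (1 : ℤ) : X) = Pi.single j (-1) by rw [Pi.single_neg],
      dot_single]
    have hl := lane_app_id (el_okCode hb) j
    have hb4 := abs_le.1 (sv_abs hb j)
    show ((128 - lane (app idT (el b)) ((j : ℕ) + 56 - 56) : ℕ) : ℤ) = _
    rw [Nat.add_sub_cancel]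
    simp only [sv] at *
    omega

theorem dotK_spec {a b : ℕ} (ha : a < 16240) (hb : b < 16240) :
    (dotK a b : ℤ) = 4 * dot (sv a) (sv b) + 1024 := by
  let S : ℕ → ℕ → ℕ := fun n code => Nat.rec (motive := fun _ => ℕ → ℕ) (fun _ => 0)
    (fun _ ih code => Nat.add (dotTerm (app idT (el b)) (Nat.land code 127)) (ih (Nat.shiftRight code 7)))
    n code
  have key : ∀ n code, okCode n code = true →
      (S n code : ℤ) = 4 * dot (∑ k ∈ Finset.range n, unitV (fld code k)) (sv b) + 64 * n := by
    intro n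
    induction n with
    | zero => intro code _; simp [S, dot]
    | succ n ih =>
      intro code hok
      have hf := okCode_spec (n + 1) code hok
      have hrest : okCode n (code >>> 7) = true := by
        change (Bool.rec false (okCode n (code >>> 7)) (Nat.blt (code &&& 127) 112) : Bool) = true at hok
        cases hbb : Nat.blt (code &&& 127) 112 <;> simp_all
      have hs : ∑ k ∈ Finset.range (n + 1), unitV (fld code k) =
          unitV (fld code 0) + ∑ k ∈ Finset.range n, unitV (fld (code >>> 7) k) := by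
        rw [Finset.sum_range_succ', add_comm]
        simp only [fld_succ]
      show ((dotTerm (app idT (el b)) (code &&& 127) + S n (code >>> 7) : ℕ) : ℤ) = _
      rw [Nat.cast_add, ih _ hrest, ← fld_zero, dotTerm_spec hb (hf 0 (by omega)), hs, dot_add_left]
      push_cast
      ring
  have := key 16 (el a) (el_okCode ha)
  rw [show dotK a b = S 16 (el a) from rfl, this]
  unfold sv vec
  norm_num

/-! ### Short vectors determined by profiles -/

/-- The scalar products with the vectors of a list. -/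
noncomputable def fixHom (V : List ℕ) : X →+ (ℕ → ℤ) where
  toFun x r := dot x (sv (V.getD r 0))
  map_zero' := by funext r; simp [dot]
  map_add' x y := by funext r; exact dot_add_left x y _

theorem colIs_fix {P : ℕ} {V : List ℕ} (h : allBin 56 (fixColOK P V) 6 0 = true)
    (hV : ∀ r < 14, V.getD r 0 < 16240) : ColIs 112 (2 ^ 112 - 1) P 256 14 (fixHom V) := by
  have hh : ∀ c : Fin 56, 4 * colW 112 (2 ^ 112 - 1) P c + pkN 256 14 (fun _ => 48) =
        pkN 256 14 (fun r => lane (app idT (el (V.getD r 0))) c) ∧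
      colW 112 (2 ^ 112 - 1) P c + colW 112 (2 ^ 112 - 1) P ((c : ℕ) + 56) = pkN 256 14 (fun _ => 8) := by
    intro c
    have := allBin_spec _ _ _ _ h c (Nat.zero_le _) c.2 (by omega)
    simpa [fixColOK, Bool.and_eq_true] using this
  have hok : ∀ c : Fin 56,
      colW 112 (2 ^ 112 - 1) P c = pkN 256 14 (fun r => (sv (V.getD r 0) c + 4).toNat) := by
    intro c
    have h1 := (hh c).1
    have h2 : 4 * pkN 256 14 (fun r => (sv (V.getD r 0) c + 4).toNat) + pkN 256 14 (fun _ => 48) =
        pkN 256 14 (fun r => lane (app idT (el (V.getD r 0))) c) := by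
      rw [← pkN_mul, ← pkN_add]
      refine pkN_congr _ _ _ _ fun r hr => ?_
      have h1 := lane_app_id (el_okCode (hV r hr)) c
      have := abs_le.1 (sv_abs (hV r hr) c)
      simp only [sv] at *
      omega
    omega
  intro c hc
  rcases lt_or_ge c 56 with h' | h'
  · rw [show unitV c = Pi.single (⟨c, h'⟩ : Fin 56) 1 from unitV_lo ⟨c, h'⟩]
    refine ⟨(hok ⟨c, h'⟩).trans (pkN_congr _ _ _ _ fun r _ => ?_), fun r hr => ?_⟩
    · show _ = (dot (Pi.single _ 1) _ + 4).toNat
      rw [dot_comm, dot_single, mul_one]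
    · show |dot (Pi.single _ 1) _| ≤ 4
      rw [dot_comm, dot_single, mul_one]
      exact sv_abs (hV r hr) _
  · obtain ⟨j, rfl⟩ : ∃ j : Fin 56, c = (j : ℕ) + 56 := ⟨⟨c - 56, by omega⟩, by simp; omega⟩
    have h1 := hok j
    have h3 := (hh j).2
    rw [unitV_hi, map_neg]
    have hv : ∀ r, fixHom V (Pi.single j 1) r = sv (V.getD r 0) j := fun r => by
      show dot (Pi.single j 1) _ = _
      rw [dot_comm, dot_single, mul_one]
    refine ⟨?_, fun r hr => ?_⟩
    · have h2 : pkN 256 14 (fun r => (sv (V.getD r 0) j + 4).toNat) +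
          pkN 256 14 (fun r => ((-fixHom V (Pi.single j 1)) r + 4).toNat) = pkN 256 14 (fun _ => 8) := by
        rw [← pkN_add]
        refine pkN_congr _ _ _ _ fun r hr => ?_
        have := abs_le.1 (sv_abs (hV r hr) j)
        rw [Pi.neg_apply, hv]
        omega
      omega
    · rw [Pi.neg_apply, abs_neg, hv]
      exact sv_abs (hV r hr) _

theorem smul_dot (f : fourRu) (a b : Fin 16240) :
    dot (sv (f • a : Fin 16240)) (sv (f • b : Fin 16240)) = dot (sv a) (sv b) := by
  have h := (endoOf_isEndo f).pres (pv a) (pv b)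
  rw [smul_spec, smul_spec] at h
  exact h

theorem smul_rot (f : fourRu) (v : Fin 16240) : f • rotG • v = rotG • f • v := by
  have := rot_pow_smul_comm 1 f v
  rwa [pow_one] at this

/-- An automorphism fixing the vectors of a profile fixes the targets it determines. -/
theorem fix_targets {P : ℕ} {V Ps tg : List ℕ} (hc : allBin 56 (fixColOK P V) 6 0 = true)
    (hp : (List.range 7).all (fixPairOK V) = true)
    (ht : (decide (tg.map (fixProf P) = Ps) && decide Ps.Nodup && tg.all (fun v => Nat.blt v 16240)) = true)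
    (hu0 : allBin 8192 (uniqOK Ps tg P) 13 0 = true) (hu1 : allBin 16240 (uniqOK Ps tg P) 13 8192 = true)
    {f : fourRu} (hf : ∀ a ∈ fixHeads V, f • op a = op a) : ∀ v ∈ tg, f • op v = op v := by
  simp only [Bool.and_eq_true, decide_eq_true_eq, List.all_eq_true, Nat.blt_eq] at ht
  obtain ⟨⟨hmap, hnd⟩, htlt⟩ := ht
  have hpair : ∀ k < 7, V.getD (2 * k) 0 < 16240 ∧ V.getD (2 * k + 1) 0 < 16240 ∧
      sends rotT (V.getD (2 * k) 0) (V.getD (2 * k + 1) 0) = true := fun k hk => by
    have := List.all_eq_true.1 hp k (List.mem_range.2 hk)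
    simpa [fixPairOK, Bool.and_eq_true, and_assoc] using this
  have hV : ∀ r < 14, V.getD r 0 < 16240 := fun r hr => by
    obtain ⟨a, b, -⟩ := hpair (r / 2) (by omega)
    rcases (show r = 2 * (r / 2) ∨ r = 2 * (r / 2) + 1 by omega) with e | e <;> rw [e] <;> assumption
  have hfix : ∀ r < 14, f • op (V.getD r 0) = op (V.getD r 0) := fun r hr => by
    obtain ⟨a, b, hs⟩ := hpair (r / 2) (by omega)
    have h0 : f • op (V.getD (2 * (r / 2)) 0) = op (V.getD (2 * (r / 2)) 0) :=
      hf _ (List.mem_map.2 ⟨r / 2, List.mem_range.2 (by omega), rfl⟩)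
    rcases (show r = 2 * (r / 2) ∨ r = 2 * (r / 2) + 1 by omega) with e | e <;> rw [e]
    · exact h0
    · rw [← rot_smul_op a b hs, smul_rot, h0]
  intro v hv
  have hvlt := htlt v hv
  have hprof : fixProf P (f • op v : Fin 16240) = fixProf P v := by
    obtain ⟨e1, b1⟩ := sumCols_colIs (colIs_fix hc hV) 16 _ (el_okCode (f • op v).2)
    obtain ⟨e2, b2⟩ := sumCols_colIs (colIs_fix hc hV) 16 _ (el_okCode hvlt)
    refine e1.trans ((pkN_congr _ _ _ _ fun r hr => ?_).trans e2.symm)
    have hs : ∀ i : ℕ, (∑ k ∈ Finset.range 16, unitV (fld (el i) k)) = sv i := fun i => by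
      unfold sv vec; rfl
    rw [hs, hs]
    show (dot (sv (f • op v : Fin 16240)) (sv (V.getD r 0)) + _).toNat =
      (dot (sv v) (sv (V.getD r 0)) + _).toNat
    have h := smul_dot f (op v) (op (V.getD r 0))
    rw [hfix r hr] at h
    rw [op_mk (hV r hr), op_mk hvlt] at h
    rw [op_mk hvlt]
    simp only at h ⊢
    rw [h]
  have hok : uniqOK Ps tg P (f • op v : Fin 16240) = true := by
    rcases lt_or_ge ((f • op v : Fin 16240) : ℕ) 8192 with h | h
    · exact allBin_spec _ _ _ _ hu0 _ (Nat.zero_le _) h (by omega)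
    · exact allBin_spec _ _ _ _ hu1 _ h (f • op v).2 (by have := (f • op v).2; omega)
  unfold uniqOK at hok
  simp only [hprof] at hok
  have hmem : fixProf P v ∈ Ps := hmap ▸ List.mem_map_of_mem (f := fixProf P) hv
  rw [(memN_iff _ _).2 hmem] at hok
  have hin : ((f • op v : Fin 16240) : ℕ) ∈ tg := (memN_iff _ _).1 hok
  have hnd' : (tg.map (fixProf P)).Nodup := hmap.symm ▸ hnd
  have := List.inj_on_of_nodup_map hnd' hin hv hprof
  exact Fin.ext (by rw [this, op_mk hvlt])

/-! ### Orbits -/

theorem orbit_step {T : ℕ} {g : fourRu} (hg : ∀ a b, a < 16240 → b < 16240 → sends T a b = true →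
    g • op a = op b) {o oI : List ℕ} {n : ℕ} (hn : o.length = n)
    (h : (List.range n).all (orbOK T o oI) = true) : ∀ i < n,
    o.getD i 0 < 16240 ∧ oI.getD i 0 < 16240 ∧ g ^ i • op (o.getD 0 0) = op (o.getD i 0) ∧
      rotG • op (o.getD i 0) = op (oI.getD i 0) := by
  have hb : ∀ i < n, (o.getD i 0 < 16240 ∧ oI.getD i 0 < 16240 ∧
      sends rotT (o.getD i 0) (oI.getD i 0) = true) ∧
      (i + 1 < n → sends T (o.getD i 0) (o.getD (i + 1) 0) = true) := fun i hi => by
    have := List.all_eq_true.1 h i (List.mem_range.2 hi)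
    simp only [orbOK, Bool.and_eq_true, Bool.or_eq_true, Nat.blt_eq, Nat.beq_eq] at this
    exact ⟨⟨this.1.1.1, this.1.1.2, this.1.2⟩, fun hlt => this.2.resolve_left (by
      show ¬ i + 1 = o.length
      omega)⟩
  intro i
  induction i with
  | zero =>
    intro hi
    obtain ⟨⟨a, b, c⟩, -⟩ := hb 0 hi
    exact ⟨a, b, by rw [pow_zero, one_smul], rot_smul_op a b c⟩
  | succ i ih =>
    intro hi
    obtain ⟨a, -, e, -⟩ := ih (by omega)
    obtain ⟨⟨a', b', c'⟩, -⟩ := hb (i + 1) hi
    refine ⟨a', b', ?_, rot_smul_op a' b' c'⟩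
    rw [pow_succ', mul_smul, e, hg _ _ a a' ((hb i (by omega)).2 hi)]

theorem cover_reach {T R d : ℕ} {t : BTree} {g : fourRu}
    (hg : ∀ a b, a < 16240 → b < 16240 → sends T a b = true → g • op a = op b)
    (h0 : allBin 8192 (covOK T R t) d 0 = true) (h1 : allBin 16240 (covOK T R t) d 8192 = true)
    (hd : 16240 ≤ 8192 + 2 ^ d ∧ 8192 ≤ 2 ^ d)
    (hfull : Nat.beq (treeSet t 16240 14) (2 ^ 16240 - 1) = true) (hR : R ≤ 16240) (v : Fin 16240) :
    ∃ j < R, child t j < 16240 ∧ ∃ i : ℕ, v = g ^ i • op (child t j) := by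
  have hbit : ∀ v < 16240, (treeSet t 16240 14).testBit v = true := fun v hv => by
    rw [Nat.eq_of_beq_eq_true hfull, Nat.testBit_two_pow_sub_one]; simpa using hv
  have hlt : ∀ i < 16240, child t i < 16240 := by
    intro i hi
    by_contra hc
    have hb : (treeSet t 16240 14).testBit (child t i) = true := by
      rw [treeSet, testBit_orBin]
      exact ⟨i, Nat.zero_le _, hi, by omega, (testBit_bit1 _ _).2 rfl⟩
    rw [Nat.eq_of_beq_eq_true hfull, Nat.testBit_two_pow_sub_one] at hb
    simp at hb
    exact hc hb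
  have key : ∀ k, k < 16240 → ∃ j < R, ∃ i : ℕ, op (child t k) = g ^ i • op (child t j) := by
    intro k
    induction k using Nat.strong_induction_on with
    | _ k ih =>
      intro hk
      rcases lt_or_ge k R with h | h
      · exact ⟨k, h, 0, by rw [pow_zero, one_smul]⟩
      · have hc : covOK T R t k = true := by
          rcases lt_or_ge k 8192 with h' | h'
          · exact allBin_spec _ _ _ _ h0 k (Nat.zero_le _) h' (by omega)
          · exact allBin_spec _ _ _ _ h1 k h' hk (by omega)
        unfold covOK at hc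
        rw [show Nat.blt k R = false by simpa [Bool.eq_false_iff] using h] at hc
        cases hp : Nat.blt (parent t k) k
        · simp [hp] at hc
        · simp only [hp] at hc
          have hpk : parent t k < k := by simpa using hp
          obtain ⟨j, hj, i, e⟩ := ih _ hpk (by omega)
          refine ⟨j, hj, i + 1, ?_⟩
          rw [pow_succ', mul_smul, ← e, hg _ _ (hlt _ (by omega)) (hlt _ hk) hc]
  have hb := hbit v v.2
  rw [treeSet, testBit_orBin] at hb
  obtain ⟨k, -, hk, -, he⟩ := hb
  obtain ⟨j, hj, i, e⟩ := key k hk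
  refine ⟨j, hj, hlt j (by omega), i, ?_⟩
  rw [← e, (testBit_bit1 _ _).1 he, op_val]

theorem pathPts_spec {T : ℕ} {g : fourRu}
    (hg : ∀ a b, a < 16240 → b < 16240 → sends T a b = true → g • op a = op b)
    {c r : ℕ} (hr : r < 16240) : ∀ n, pathPts T c r n = true → ∀ k < n,
      certPt c k < 16240 ∧ g ^ (k + 1) • op r = op (certPt c k)
  | 0, _, k, hk => absurd hk (Nat.not_lt_zero _)
  | n + 1, h, k, hk => by
    change (Bool.rec false (Bool.rec false
      (sends T (Nat.rec (motive := fun _ => Nat) r (fun j _ => certPt c j) n) (certPt c n))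
      (Nat.blt (certPt c n) 16240)) (pathPts T c r n) : Bool) = true at h
    cases hp : pathPts T c r n
    · simp [hp] at h
    · simp only [hp] at h
      cases hb : Nat.blt (certPt c n) 16240
      · simp [hb] at h
      · simp only [hb] at h
        have ih := pathPts_spec hg hr n hp
        rcases Nat.lt_succ_iff_lt_or_eq.1 hk with hk' | rfl
        · exact ih k hk'
        · have hlt : certPt c k < 16240 := by simpa using hb
          refine ⟨hlt, ?_⟩
          cases k with
          | zero => rw [zero_add, pow_one]; exact hg _ _ hr hlt h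
          | succ k =>
            obtain ⟨a, e⟩ := ih k (by omega)
            rw [pow_succ', mul_smul, e, hg _ _ a hlt h]

theorem rep_spec {T : ℕ} {g f : fourRu}
    (hg : ∀ a b, a < 16240 → b < 16240 → sends T a b = true → g • op a = op b) (hfg : f * g = g * f)
    {o oI : List ℕ} {n : ℕ} (hn : o.length = n) (ho : (List.range n).all (orbOK T o oI) = true)
    {t tc : BTree} {left : List ℕ} {j : ℕ} (hj : child t j < 16240)
    (h : repOK T o oI t tc left j = true) (hf : f • op (o.getD 0 0) = op (child t j)) :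
    child t j ∈ left := by
  unfold repOK at h
  simp only at h
  cases hflag : Nat.beq (Nat.land (certAt tc j) 1) 1
  · simp only [hflag] at h
    exact (memN_iff _ _).1 h
  · exfalso
    simp only [hflag, Bool.and_eq_true, Nat.blt_eq] at h
    generalize hi : Nat.land (Nat.shiftRight (certAt tc j) 2) 63 = i at h
    generalize certAt tc j = c at h
    obtain ⟨⟨⟨hi0, hin⟩, hpath⟩, htest⟩ := h
    obtain ⟨m, rfl⟩ : ∃ m, i = m + 1 := ⟨i - 1, by omega⟩
    obtain ⟨hp, hpe⟩ := pathPts_spec hg hj _ hpath m (by omega)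
    obtain ⟨ho0, -, -, -⟩ := orbit_step hg hn ho 0 (by omega)
    obtain ⟨hoi, hoI, hoe, hoIe⟩ := orbit_step hg hn ho (m + 1) (by omega)
    have hcomm : f * g ^ (m + 1) = g ^ (m + 1) * f := (Commute.pow_right hfg (m + 1)).eq
    have e1 : f • op (o.getD (m + 1) 0) = op (certPt c m) := by
      rw [← hoe, ← mul_smul, hcomm, mul_smul, hf, hpe]
    have val : ∀ a b a' b', a < 16240 → b < 16240 → a' < 16240 → b' < 16240 →
        f • op a = op a' → f • op b = op b' → dotK a' b' = dotK a b := by
      intro a b a' b' ha hb ha' hb' ea eb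
      have := smul_dot f (op a) (op b)
      rw [ea, eb] at this
      simp only [op_mk ha, op_mk hb, op_mk ha', op_mk hb'] at this
      have := dotK_spec ha hb
      have := dotK_spec ha' hb'
      omega
    cases him : Nat.beq (Nat.land (Nat.shiftRight c 1) 1) 1
    · simp only [him, Nat.pred_succ, Bool.not_eq_true'] at htest
      rw [val _ _ _ _ hoi ho0 hp hj e1 hf] at htest
      simp at htest
    · simp only [him, Nat.pred_succ, Bool.not_eq_true', Bool.and_eq_true, Nat.blt_eq] at htest
      obtain ⟨⟨hs, hlt⟩, hne⟩ := htest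
      have e2 : f • op (oI.getD (m + 1) 0) = op (certPt c (m + 1)) := by
        rw [← hoIe, smul_rot, e1, rot_smul_op hp hlt hs]
      rw [val _ _ _ _ hoI ho0 hlt hj e2 hf] at hne
      simp at hne

end CfsgLib.RuGroup
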