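import Cfsg.Agent.Lib.RuGroup.OutAct

/-!
The centralisers of the element of order 29 and of the element of order 7.
-/

set_option autoImplicit false
set_option maxRecDepth 100000

namespace CfsgLib.RuGroup

open CfsgLib.PresCert CfsgLib.LocalEven.RuRootless Cfsg.Spor

attribute [local irreducible] colW app el idT profT classBits vecT lane pkN sv vec profOf singleP
  zT rotT zCol covX covZ certX certZ fixTX fixTZ1 fixTZ2 orbX orbIX orbZ orbIZ leftX leftZ

/-- The element of order 29. -/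
noncomputable def xG : fourRu := uG 0

theorem xG_smul_op {a b : ℕ} (ha : a < 16240) (hb : b < 16240) (h : sends (uT 0) a b = true) :
    xG • op a = op b := uG_smul_op 0 ha hb h

theorem uLet_zero : uLet 0 = xG := by simp [uLet, xG]

theorem uLet_eight : uLet 8 = xG⁻¹ := by simp [uLet, xG]

/-- The involution inverting the element of order 29. -/
noncomputable def tG : fourRu := uWord oT

/-- The involution centralising the element of order 7. -/
noncomputable def pG : fourRu := uWord oP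

theorem fix_chain_facts : fixHeads fixVX = fixPosX.map (fun i => orbX.getD i 0) ∧ fixHeads fixVZ1 = orbZ ∧
    fixHeads fixVZ2 = fixAZ1 ∧ fixAX = [0, 112, 144, 48, 7745] ∧ fixAZ2 = [0, 112, 144, 48, 7745] ∧
    (∀ i ∈ fixPosX, i < 29) ∧ orbX.length = 29 ∧ orbZ.length = 7 ∧ orbX.getD 0 0 = 0 ∧ orbZ.getD 0 0 = 119 := by
  have h := fix_chain
  simp only [Bool.and_eq_true, decide_eq_true_eq, List.all_eq_true, Nat.blt_eq, Nat.beq_eq] at h
  obtain ⟨⟨⟨⟨⟨⟨⟨⟨⟨h1, h2⟩, h3⟩, h4⟩, h5⟩, h6⟩, h7⟩, h8⟩, h9⟩, h10⟩ := h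
  refine ⟨h1, h2, h3, h4, h5, h6, h7, h8, ?_, h10⟩
  rw [List.getD_eq_getElem _ _ (by omega)] at h9 ⊢
  exact h9

theorem one_of_fix_base {f : fourRu} (h : ∀ v ∈ [0, 112, 144, 48, 7745], f • op v = op v) : f = 1 := by
  refine eq_one_of_fix fun b => ?_
  have := h (basePt b) (by fin_cases b <;> simp [basePt])
  rwa [op_val] at this

theorem fix_pow {f g : fourRu} (hc : f * g = g * f) {v : Fin 16240} (h : f • v = v) (i : ℕ) :
    f • g ^ i • v = g ^ i • v := by
  rw [← mul_smul, (Commute.pow_right hc i).eq, mul_smul, h]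

theorem one_of_commX {f : fourRu} (hc : f * xG = xG * f) (h : f • op 0 = op 0) : f = 1 := by
  obtain ⟨e1, -, -, e4, -, e6, e7, -, e9, -⟩ := fix_chain_facts
  have horb : ∀ i < 29, f • op (orbX.getD i 0) = op (orbX.getD i 0) := fun i hi => by
    obtain ⟨-, -, e, -⟩ := orbit_step (fun a b => xG_smul_op) e7 orbX_ok i hi
    rw [← e, e9]
    exact fix_pow hc h i
  refine one_of_fix_base (e4 ▸ fix_targets fixX_col fixX_pairs fixX_targets fixX_uniq0 fixX_uniq1 ?_)
  intro a ha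
  rw [e1, List.mem_map] at ha
  obtain ⟨i, hi, rfl⟩ := ha
  exact horb i (e6 i hi)

theorem one_of_commZ {f : fourRu} (hc : f * zG = zG * f) (h : f • op 119 = op 119) : f = 1 := by
  obtain ⟨-, e2, e3, -, e5, -, -, e8, -, e10⟩ := fix_chain_facts
  have horb : ∀ a ∈ orbZ, f • op a = op a := fun a ha => by
    obtain ⟨i, hi, rfl⟩ := List.mem_iff_getElem.1 ha
    obtain ⟨-, -, e, -⟩ := orbit_step (fun a b => zG_smul_op) e8 orbZ_ok i (e8 ▸ hi)
    rw [List.getD_eq_getElem _ _ hi] at e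
    rw [← e, e10]
    exact fix_pow hc h i
  refine one_of_fix_base (e5 ▸ fix_targets fixZ2_col fixZ2_pairs fixZ2_targets fixZ2_uniq0 fixZ2_uniq1 ?_)
  rw [e3]
  exact fix_targets fixZ1_col fixZ1_pairs fixZ1_targets fixZ1_uniq0 fixZ1_uniq1 (e2.symm ▸ horb)

theorem rel_of {u v : List ℕ} {lu lv : List (List ℕ)}
    (h : (uTraces u lu && uTraces v lv && decide (uEnds lu = uEnds lv)) = true) : uWord u = uWord v := by
  simp only [Bool.and_eq_true, decide_eq_true_eq] at h
  exact uWord_eq h.1.1 h.1.2 h.2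

theorem zG_tG : zG * tG = tG * zG := by
  rw [zG, tG, ← uWord_append, ← uWord_append]; exact rel_of rel_zt

theorem zG_pG : zG * pG = pG * zG := by
  rw [zG, pG, ← uWord_append, ← uWord_append]; exact rel_of rel_zp

/-- Representatives of the classes of the centraliser of the element of order 7. -/
noncomputable def centEl (s : ℕ) : fourRu := uWord (centWord s)

theorem centEl_cases {s : ℕ} (hs : s < 4) :
    centEl s = 1 ∨ centEl s = tG ∨ centEl s = pG ∨ centEl s = tG * pG := by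
  interval_cases s
  · exact Or.inl uWord_nil
  · exact Or.inr (Or.inl rfl)
  · exact Or.inr (Or.inr (Or.inl rfl))
  · exact Or.inr (Or.inr (Or.inr (uWord_append oT oP)))

theorem centEl_comm {s : ℕ} (hs : s < 4) : centEl s * zG = zG * centEl s := by
  rcases centEl_cases hs with e | e | e | e <;> rw [e]
  · simp
  · exact zG_tG.symm
  · exact zG_pG.symm
  · rw [mul_assoc, ← zG_pG, ← mul_assoc, ← zG_tG, mul_assoc]

theorem leftWord_eq (h : List ℕ) (e : ℕ × ℕ × ℕ × ℕ × List ℕ) :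
    uWord (leftWord h e) = uWord h ^ e.2.1 * rotG ^ e.2.2.1 * centEl e.2.2.2.1 := by
  rw [leftWord, uWord_append, uWord_append, uWord_rep, uWord_replicate, uLet_rot]
  rfl

theorem rot_comm (f : fourRu) (m : ℕ) : f * rotG ^ m = rotG ^ m * f :=
  (Commute.pow_right (rotG_central f) m).eq

theorem cent_x {f : fourRu} (hc : f * xG = xG * f) : ∃ i m : ℕ, f = xG ^ i * rotG ^ m := by
  obtain ⟨-, -, -, -, -, -, e7, -, e9, -⟩ := fix_chain_facts
  obtain ⟨j, hj, hlt, i, he⟩ := cover_reach (g := xG) (fun a b => xG_smul_op) covX_part0 covX_part1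
    (by norm_num) covX_full (by norm_num) (f • op 0)
  let f' : fourRu := (xG ^ i)⁻¹ * f
  have hc' : f' * xG = xG * f' := (Commute.mul_left ((Commute.self_pow xG i).symm.inv_left) hc).eq
  have hf' : f' • op 0 = op (child covX j) := by rw [mul_smul, he, inv_smul_smul]
  have hmem := rep_spec (fun a b => xG_smul_op) hc' e7 orbX_ok hlt
    (allBin_spec _ _ _ _ repX_ok j (Nat.zero_le _) hj (by omega)) (by rw [e9]; exact hf')
  obtain ⟨e, he1, he2⟩ := List.mem_map.1 hmem
  have hok := List.all_eq_true.1 leftX_ok e he1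
  simp only [leftOK, Bool.and_eq_true, Nat.beq_eq, Nat.blt_eq] at hok
  obtain ⟨⟨⟨⟨⟨htr, hend⟩, -⟩, -⟩, -⟩, hs0⟩ := hok
  obtain ⟨-, hte⟩ := uTraceOK_spec _ _ 0 (by norm_num) htr
  rw [hend, he2, leftWord_eq, hs0, uWord_single, uLet_zero, show centEl 0 = 1 from uWord_nil, mul_one] at hte
  have hcc : ((xG ^ e.2.1 * rotG ^ e.2.2.1)⁻¹ * f') * xG = xG * ((xG ^ e.2.1 * rotG ^ e.2.2.1)⁻¹ * f') :=
    (Commute.mul_left ((Commute.mul_left (Commute.self_pow xG _).symm (rot_comm xG _).symm).inv_left) hc').eq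
  have h1 := one_of_commX hcc (by rw [mul_smul, hf', ← hte, inv_smul_smul])
  refine ⟨i + e.2.1, e.2.2.1, ?_⟩
  rw [inv_mul_eq_one] at h1
  rw [pow_add, mul_assoc, h1, mul_inv_cancel_left]

theorem cent_z {f : fourRu} (hc : f * zG = zG * f) :
    ∃ i m s : ℕ, s < 4 ∧ f = zG ^ i * rotG ^ m * centEl s := by
  obtain ⟨-, -, -, -, -, -, -, e8, -, e10⟩ := fix_chain_facts
  obtain ⟨j, hj, hlt, i, he⟩ := cover_reach (g := zG) (fun a b => zG_smul_op) covZ_part0 covZ_part1
    (by norm_num) covZ_full (by norm_num) (f • op 119)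
  let f' : fourRu := (zG ^ i)⁻¹ * f
  have hc' : f' * zG = zG * f' := (Commute.mul_left ((Commute.self_pow zG i).symm.inv_left) hc).eq
  have hf' : f' • op 119 = op (child covZ j) := by rw [mul_smul, he, inv_smul_smul]
  have hmem := rep_spec (fun a b => zG_smul_op) hc' e8 orbZ_ok hlt
    (allBin_spec _ _ _ _ repZ_ok j (Nat.zero_le _) hj (by omega)) (by rw [e10]; exact hf')
  obtain ⟨e, he1, he2⟩ := List.mem_map.1 hmem
  have hok := List.all_eq_true.1 leftZ_ok e he1
  simp only [leftOK, Bool.and_eq_true, Nat.beq_eq, Nat.blt_eq] at hok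
  obtain ⟨⟨⟨⟨htr, hend⟩, -⟩, -⟩, hs⟩ := hok
  obtain ⟨-, hte⟩ := uTraceOK_spec _ _ 119 (by norm_num) htr
  rw [hend, he2, leftWord_eq, show uWord oZ = zG from rfl] at hte
  have hcs : Commute (zG ^ e.2.1 * rotG ^ e.2.2.1 * centEl e.2.2.2.1) zG :=
    Commute.mul_left (Commute.mul_left (Commute.self_pow zG _).symm (rot_comm zG _).symm) (centEl_comm hs)
  have hcc : ((zG ^ e.2.1 * rotG ^ e.2.2.1 * centEl e.2.2.2.1)⁻¹ * f') * zG =
      zG * ((zG ^ e.2.1 * rotG ^ e.2.2.1 * centEl e.2.2.2.1)⁻¹ * f') :=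
    (Commute.mul_left hcs.inv_left hc').eq
  have h1 := one_of_commZ hcc (by rw [mul_smul, hf', ← hte, inv_smul_smul])
  refine ⟨i + e.2.1, e.2.2.1, e.2.2.2.1, hs, ?_⟩
  rw [inv_mul_eq_one] at h1
  rw [pow_add, mul_assoc (zG ^ i), mul_assoc (zG ^ i), h1, mul_inv_cancel_left]

theorem zG_pow : zG ^ 7 = 1 := by
  have := rel_of rel_z7
  rwa [uWord_rep, uWord_nil] at this

theorem xG_pow : xG ^ 29 = 1 := uG_pow 0

/-- An element commuting with `g` modulo the scalars commutes with it, if the order of `g` is odd. -/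
theorem comm_lift {f g : fourRu} {n : ℕ} (hn : Nat.Coprime n 4) (hg : g ^ n = 1)
    (h : f * g * f⁻¹ * g⁻¹ ∈ Subgroup.center fourRu) : f * g = g * f := by
  have hc4 : (f * g * f⁻¹ * g⁻¹) ^ 4 = 1 := by
    have h4 := h
    rw [center_eq, scalars, Subgroup.mem_zpowers_iff] at h4
    obtain ⟨k, hk⟩ := h4
    rw [← hk, ← zpow_natCast, ← zpow_mul, mul_comm, zpow_mul, zpow_natCast, rotG_pow_four, one_zpow]
  generalize hcd : f * g * f⁻¹ * g⁻¹ = c at h hc4
  have hconj : f * g * f⁻¹ = c * g := by rw [← hcd]; group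
  have hcn : c ^ n = 1 := by
    have h1 : (f * g * f⁻¹) ^ n = 1 := by rw [conj_pow, hg]; group
    rw [hconj, (Commute.mul_pow (Subgroup.mem_center_iff.1 h g).symm n), hg, mul_one] at h1
    exact h1
  have := pow_gcd_eq_one.2 ⟨hcn, hc4⟩
  rw [Nat.Coprime.gcd_eq_one hn, pow_one] at this
  rw [this, one_mul] at hconj
  exact mul_inv_eq_iff_eq_mul.1 hconj

end CfsgLib.RuGroup
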