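import Cfsg.Agent.Lib.RuGroup.Code

/-!
Packed digits, columns and bit sets.
-/

set_option autoImplicit false

namespace CfsgLib.RuGroup

open CfsgLib.PresCert

/-! ### Digits -/

theorem pkN_succ (B n : ℕ) (f : ℕ → ℕ) :
    pkN B (n + 1) f = f 0 + B * pkN B n (fun i => f (i + 1)) := rfl

theorem pkN_congr (B : ℕ) : ∀ n (f g : ℕ → ℕ), (∀ i < n, f i = g i) → pkN B n f = pkN B n g
  | 0, _, _, _ => rfl
  | n + 1, f, g, h => by
    rw [pkN_succ, pkN_succ, h 0 (by omega), pkN_congr B n _ _ fun i hi => h (i + 1) (by omega)]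

theorem pkN_add (B : ℕ) : ∀ n (f g : ℕ → ℕ), pkN B n (fun i => f i + g i) = pkN B n f + pkN B n g
  | 0, _, _ => rfl
  | n + 1, f, g => by rw [pkN_succ, pkN_succ, pkN_succ, pkN_add B n]; ring

theorem pkN_mul (B c : ℕ) : ∀ n (f : ℕ → ℕ), pkN B n (fun i => c * f i) = c * pkN B n f
  | 0, _ => by simp [pkN]
  | n + 1, f => by rw [pkN_succ, pkN_succ, pkN_mul B c n]; ring

theorem pkN_zero (B : ℕ) : ∀ n, pkN B n (fun _ => 0) = 0
  | 0 => rfl
  | n + 1 => by rw [pkN_succ, pkN_zero B n]; simp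

theorem pkN_lt (B : ℕ) : ∀ n (f : ℕ → ℕ), (∀ i < n, f i < B) → pkN B n f < B ^ n
  | 0, _, _ => by simp [pkN]
  | n + 1, f, h => by
    have h0 := h 0 (by omega)
    have h1 : B * (pkN B n (fun i => f (i + 1)) + 1) ≤ B * B ^ n :=
      Nat.mul_le_mul_left B (pkN_lt B n (fun i => f (i + 1)) fun i hi => h (i + 1) (by omega))
    rw [pkN_succ, pow_succ']
    rw [mul_add, mul_one] at h1
    omega

theorem pkN_digit (B : ℕ) : ∀ n (f : ℕ → ℕ), (∀ i < n, f i < B) →
    ∀ i < n, pkN B n f / B ^ i % B = f i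
  | 0, _, _, i, hi => by omega
  | n + 1, f, h, 0, _ => by
    rw [pkN_succ, pow_zero, Nat.div_one, Nat.add_mul_mod_self_left, Nat.mod_eq_of_lt (h 0 (by omega))]
  | n + 1, f, h, i + 1, hi => by
    have hB : 0 < B := by have := h 0 (by omega); omega
    rw [pkN_succ, pow_succ', ← Nat.div_div_eq_div_mul, Nat.add_mul_div_left _ _ hB,
      Nat.div_eq_of_lt (h 0 (by omega)), zero_add,
      pkN_digit B n _ (fun j hj => h (j + 1) (by omega)) i (by omega)]

theorem pkN_inj {B n : ℕ} {f g : ℕ → ℕ} (hf : ∀ i < n, f i < B) (hg : ∀ i < n, g i < B)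
    (e : pkN B n f = pkN B n g) : ∀ i < n, f i = g i := fun i hi => by
  rw [← pkN_digit B n f hf i hi, e, pkN_digit B n g hg i hi]

theorem pkN_mod (B : ℕ) : ∀ m n (f : ℕ → ℕ), m ≤ n → (∀ i < n, f i < B) →
    pkN B n f % B ^ m = pkN B m f
  | 0, _, _, _, _ => by simp [Nat.mod_one, pkN]
  | m + 1, 0, _, h, _ => by omega
  | m + 1, n + 1, f, h, hf => by
    rw [pkN_succ, pkN_succ, pow_succ', Nat.mod_mul, Nat.add_mul_mod_self_left,
      Nat.mod_eq_of_lt (hf 0 (by omega))]
    have hB : 0 < B := by have := hf 0 (by omega); omega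
    rw [Nat.add_mul_div_left _ _ hB, Nat.div_eq_of_lt (hf 0 (by omega)), zero_add,
      pkN_mod B m n _ (by omega) fun i hi => hf (i + 1) (by omega)]

theorem lane_eq (x r : ℕ) : lane x r = x / 65536 ^ r % 65536 := by
  show (x >>> (r <<< 4)) &&& 65535 = _
  rw [show (65535 : ℕ) = 2 ^ 16 - 1 by norm_num, Nat.and_two_pow_sub_one_eq_mod,
    Nat.shiftRight_eq_div_pow, Nat.shiftLeft_eq, show r * 2 ^ 4 = 16 * r by ring, pow_mul]
  norm_num

theorem lane_pkN {n : ℕ} {f : ℕ → ℕ} (h : ∀ i < n, f i < 65536) {r : ℕ} (hr : r < n) :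
    lane (pkN 65536 n f) r = f r := by
  rw [lane_eq, pkN_digit _ _ _ h r hr]

/-! ### Codes -/

/-- A field of a code. -/
def fld (code k : ℕ) : ℕ := (code >>> (7 * k)) &&& 127

theorem fld_succ (code k : ℕ) : fld code (k + 1) = fld (code >>> 7) k := by
  rw [fld, fld, show 7 * (k + 1) = 7 + 7 * k by ring, Nat.shiftRight_add]

theorem fld_zero (code : ℕ) : fld code 0 = code &&& 127 := by simp [fld]

theorem sumCols_succ (w mask T n code : ℕ) :
    sumCols w mask T (n + 1) code =
      colW w mask T (code &&& 127) + sumCols w mask T n (code >>> 7) := rfl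

theorem sumCols_eq (w mask T : ℕ) : ∀ n code,
    sumCols w mask T n code = ∑ k ∈ Finset.range n, colW w mask T (fld code k)
  | 0, _ => by simp [sumCols]
  | n + 1, code => by
    rw [sumCols_succ, sumCols_eq w mask T n, Finset.sum_range_succ', add_comm]
    congr 1
    · exact Finset.sum_congr rfl fun k _ => by rw [fld_succ]

theorem okCode_spec : ∀ n code, okCode n code = true → ∀ k < n, fld code k < 112
  | 0, _, _, k, hk => by omega
  | n + 1, code, h, k, hk => by
    change (Bool.rec false (okCode n (code >>> 7)) (Nat.blt (code &&& 127) 112) : Bool) = true at h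
    cases hb : Nat.blt (code &&& 127) 112 with
    | false => simp [hb] at h
    | true =>
      simp only [hb] at h
      cases k with
      | zero => rw [fld_zero]; simpa using hb
      | succ k => rw [fld_succ]; exact okCode_spec n _ h k (by omega)

/-! ### Sets of bits -/

theorem testBit_bit1 (i v : ℕ) : (bit1 i).testBit v = true ↔ i = v := by
  show (1 <<< i).testBit v = true ↔ _
  rw [Nat.one_shiftLeft, Nat.testBit_two_pow]
  simp

theorem orBin_zero (n : ℕ) (f : ℕ → ℕ) (l : ℕ) :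
    orBin n f 0 l = if n ≤ l then 0 else f l := by
  change (Bool.rec (f l) 0 (Nat.ble n l) : ℕ) = _
  by_cases h : n ≤ l
  · rw [Nat.ble_eq_true_of_le h, if_pos h]
  · rw [Bool.eq_false_iff.2 fun hb => h (Nat.le_of_ble_eq_true hb), if_neg h]
    try rfl

theorem orBin_succ (n : ℕ) (f : ℕ → ℕ) (k l : ℕ) :
    orBin n f (k + 1) l = if n ≤ l then 0 else orBin n f k l ||| orBin n f k (l + 2 ^ k) := by
  have e : Nat.shiftLeft 1 k = 2 ^ k := by simp [Nat.shiftLeft_eq]
  change (Bool.rec (Nat.lor (orBin n f k l) (orBin n f k (l + Nat.shiftLeft 1 k))) 0 (Nat.ble n l) : ℕ) = _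
  rw [e]
  by_cases h : n ≤ l
  · rw [Nat.ble_eq_true_of_le h, if_pos h]
  · rw [Bool.eq_false_iff.2 fun hb => h (Nat.le_of_ble_eq_true hb), if_neg h]
    try rfl

theorem sumBin_zero (n : ℕ) (f : ℕ → ℕ) (l : ℕ) :
    sumBin n f 0 l = if n ≤ l then 0 else f l := by
  change (Bool.rec (f l) 0 (Nat.ble n l) : ℕ) = _
  by_cases h : n ≤ l
  · rw [Nat.ble_eq_true_of_le h, if_pos h]
  · rw [Bool.eq_false_iff.2 fun hb => h (Nat.le_of_ble_eq_true hb), if_neg h]
    try rfl

theorem sumBin_succ (n : ℕ) (f : ℕ → ℕ) (k l : ℕ) :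
    sumBin n f (k + 1) l = if n ≤ l then 0 else sumBin n f k l + sumBin n f k (l + 2 ^ k) := by
  have e : Nat.shiftLeft 1 k = 2 ^ k := by simp [Nat.shiftLeft_eq]
  change (Bool.rec (Nat.add (sumBin n f k l) (sumBin n f k (l + Nat.shiftLeft 1 k))) 0 (Nat.ble n l) : ℕ) = _
  rw [e]
  by_cases h : n ≤ l
  · rw [Nat.ble_eq_true_of_le h, if_pos h]
  · rw [Bool.eq_false_iff.2 fun hb => h (Nat.le_of_ble_eq_true hb), if_neg h]
    try rfl

theorem testBit_orBin (n : ℕ) (f : ℕ → ℕ) : ∀ d l v,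
    (orBin n f d l).testBit v = true ↔ ∃ i, l ≤ i ∧ i < n ∧ i < l + 2 ^ d ∧ (f i).testBit v = true
  | 0, l, v => by
    rw [orBin_zero]
    by_cases h : n ≤ l
    · simp only [if_pos h, Nat.zero_testBit, Bool.false_eq_true, false_iff]
      rintro ⟨i, h1, h2, -, -⟩; omega
    · rw [if_neg h]
      exact ⟨fun e => ⟨l, le_rfl, by omega, by simp, e⟩,
        fun ⟨i, h1, _, h3, e⟩ => by rwa [show l = i by omega]⟩
  | d + 1, l, v => by
    rw [orBin_succ]
    by_cases h : n ≤ l
    · simp only [if_pos h, Nat.zero_testBit, Bool.false_eq_true, false_iff]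
      rintro ⟨i, h1, h2, -, -⟩; omega
    · rw [if_neg h, Nat.testBit_or, Bool.or_eq_true, testBit_orBin n f d, testBit_orBin n f d, pow_succ]
      constructor
      · rintro (⟨i, a, b, c, e⟩ | ⟨i, a, b, c, e⟩) <;> exact ⟨i, by omega, b, by omega, e⟩
      · rintro ⟨i, a, b, c, e⟩
        rcases lt_or_ge i (l + 2 ^ d) with hi | hi
        · exact Or.inl ⟨i, a, b, hi, e⟩
        · exact Or.inr ⟨i, hi, b, by omega, e⟩

theorem or_le_add' (a b : ℕ) : a ||| b ≤ a + b := by
  induction a using Nat.binaryRec generalizing b with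
  | zero => simp
  | bit x a ih =>
    induction b using Nat.binaryRec with
    | zero => simp
    | bit y b _ =>
      rw [Nat.lor_bit]
      have := ih b
      cases x <;> cases y <;> simp [Nat.bit_val] <;> omega

theorem orBin_le_sumBin (n : ℕ) (f : ℕ → ℕ) : ∀ d l, orBin n f d l ≤ sumBin n f d l
  | 0, l => by rw [orBin_zero, sumBin_zero]
  | d + 1, l => by
    rw [orBin_succ, sumBin_succ]
    split
    · exact le_rfl
    · exact le_trans (or_le_add' _ _)
        (Nat.add_le_add (orBin_le_sumBin n f d l) (orBin_le_sumBin n f d (l + 2 ^ d)))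

theorem and_eq_zero_of_or_eq_add (a b : ℕ) (h : a ||| b = a + b) : a &&& b = 0 := by
  induction a using Nat.binaryRec generalizing b with
  | zero => simp
  | bit x a ih =>
    induction b using Nat.binaryRec with
    | zero => simp
    | bit y b _ =>
      rw [Nat.lor_bit] at h
      rw [Nat.land_bit]
      have hle := or_le_add' a b
      cases x <;> cases y <;> simp [Nat.bit_val] at h <;>
        first
          | omega
          | (rw [ih b (by omega)]; simp [Nat.bit_val])

/-- An exact count shows that the bits are distinct. -/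
theorem bits_injOn (n : ℕ) (g : ℕ → ℕ) : ∀ d l,
    orBin n (fun i => bit1 (g i)) d l = sumBin n (fun i => bit1 (g i)) d l →
    ∀ i j, l ≤ i → i < n → i < l + 2 ^ d → l ≤ j → j < n → j < l + 2 ^ d → g i = g j → i = j
  | 0, l, _, i, j, _, _, _, _, _, _, _ => by omega
  | d + 1, l, e, i, j, a, b, c, a', b', c', eg => by
    rw [orBin_succ, sumBin_succ, if_neg (by omega : ¬ n ≤ l), if_neg (by omega : ¬ n ≤ l)] at e
    have l1 := orBin_le_sumBin n (fun i => bit1 (g i)) d l
    have l2 := orBin_le_sumBin n (fun i => bit1 (g i)) d (l + 2 ^ d)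
    have l3 := or_le_add' (orBin n (fun i => bit1 (g i)) d l) (orBin n (fun i => bit1 (g i)) d (l + 2 ^ d))
    have e1 : orBin n (fun i => bit1 (g i)) d l = sumBin n (fun i => bit1 (g i)) d l := by omega
    have e2 : orBin n (fun i => bit1 (g i)) d (l + 2 ^ d) =
        sumBin n (fun i => bit1 (g i)) d (l + 2 ^ d) := by omega
    have e3 := and_eq_zero_of_or_eq_add (orBin n (fun i => bit1 (g i)) d l)
      (orBin n (fun i => bit1 (g i)) d (l + 2 ^ d)) (by omega)
    have disj : ∀ i j, l ≤ i → i < n → i < l + 2 ^ d → l + 2 ^ d ≤ j → j < n →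
        j < l + 2 ^ d + 2 ^ d → g i ≠ g j := by
      intro i j a b c a' b' c' eg
      have h1 : (orBin n (fun i => bit1 (g i)) d l).testBit (g i) = true :=
        (testBit_orBin _ _ _ _ _).2 ⟨i, a, b, c, (testBit_bit1 _ _).2 rfl⟩
      have h2 : (orBin n (fun i => bit1 (g i)) d (l + 2 ^ d)).testBit (g i) = true :=
        (testBit_orBin _ _ _ _ _).2 ⟨j, a', b', c', (testBit_bit1 _ _).2 eg.symm⟩
      have h3 := congrArg (fun x : ℕ => x.testBit (g i)) e3
      simp [h1, h2] at h3
    rw [pow_succ] at c c'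
    rcases lt_or_ge i (l + 2 ^ d) with hi | hi <;> rcases lt_or_ge j (l + 2 ^ d) with hj | hj
    · exact bits_injOn n g d l e1 i j a b hi a' b' hj eg
    · exact absurd eg (disj i j a b hi hj b' (by omega))
    · exact absurd eg.symm (disj j i a' b' hj hi b (by omega))
    · exact bits_injOn n g d _ e2 i j hi b (by omega) hj b' (by omega) eg

end CfsgLib.RuGroup
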