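import Cfsg.Agent.Lib.RuGroup.Shapes

/-!
Truth tables, counters, and the parity word of a lattice vector of norm sixteen.
-/

set_option autoImplicit false
set_option maxRecDepth 100000

namespace CfsgLib.RuGroup

open CfsgLib.PresCert CfsgLib.LocalEven.RuRootless

/-- The number with the given bits. -/
def maskOf (f : ℕ → Bool) : ℕ → ℕ
  | 0 => 0
  | n + 1 => maskOf f n + (if f n then 2 ^ n else 0)

theorem maskOf_lt (f : ℕ → Bool) : ∀ n, maskOf f n < 2 ^ n
  | 0 => by simp [maskOf]
  | n + 1 => by
    have := maskOf_lt f n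
    rw [maskOf, pow_succ]
    split <;> omega

theorem testBit_maskOf (f : ℕ → Bool) : ∀ n k, k < n → (maskOf f n).testBit k = f k
  | 0, k, h => by omega
  | n + 1, k, h => by
    have hlt := maskOf_lt f n
    rw [maskOf]
    rcases lt_or_eq_of_le (Nat.lt_succ_iff.1 h) with hk | rfl
    · rw [← testBit_maskOf f n k hk]
      split
      · rw [add_comm, Nat.testBit_two_pow_add_gt hk]
      · rw [add_zero]
    · cases hf : f k with
      | true => rw [if_pos rfl, add_comm, Nat.testBit_two_pow_add_eq, Nat.testBit_lt_two_pow hlt]; rfl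
      | false => simp [Nat.testBit_lt_two_pow hlt]

/-! ### Truth tables -/

/-- The parity of the common bits. -/
def parF (bit : ℕ → Bool) : ℕ → ℕ → Bool
  | 0, _ => false
  | k + 1, m => xor (parF bit k m) (bit k && m.testBit k)

theorem parF_congr (bit : ℕ → Bool) : ∀ k m m', (∀ i < k, m.testBit i = m'.testBit i) →
    parF bit k m = parF bit k m'
  | 0, _, _, _ => rfl
  | k + 1, m, m', h => by
    rw [parF, parF, parF_congr bit k m m' fun i hi => h i (by omega), h k (by omega)]

theorem testBit_ones (d m : ℕ) : (ones d).testBit m = decide (m < 2 ^ d) := by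
  show (((1 : ℕ) <<< ((1 : ℕ) <<< d)) - 1).testBit m = _
  rw [Nat.one_shiftLeft, Nat.one_shiftLeft, Nat.testBit_two_pow_sub_one]

theorem ttab_succ (c : ℕ) (bit : ℕ → Bool) (k : ℕ) :
    ttab c bit (k + 1) = ttab c bit k |||
      ((if bit k then ttab c bit k ^^^ ones k else ttab c bit k) <<< (2 ^ k)) := by
  change Nat.lor (ttab c bit k) (Nat.shiftLeft (Bool.rec (ttab c bit k)
    (Nat.xor (ttab c bit k) (ones k)) (bit k)) (Nat.shiftLeft 1 k)) = _
  rw [show Nat.shiftLeft 1 k = 2 ^ k by simp [Nat.shiftLeft_eq]]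
  cases bit k <;> rfl

theorem testBit_ttab {c : ℕ} (hc : c < 2) (bit : ℕ → Bool) : ∀ d, ttab c bit d < 2 ^ 2 ^ d ∧
    ∀ m < 2 ^ d, (ttab c bit d).testBit m = xor (decide (c = 1)) (parF bit d m)
  | 0 => by
    refine ⟨by simpa [ttab] using hc, fun m hm => ?_⟩
    obtain rfl : m = 0 := by simpa using hm
    interval_cases c <;> simp [ttab, parF]
  | k + 1 => by
    obtain ⟨h1, h2⟩ := testBit_ttab hc bit k
    have hhi : ∀ m, 2 ^ k ≤ m → (ttab c bit k).testBit m = false := fun m hm =>
      Nat.testBit_lt_two_pow (lt_of_lt_of_le h1 (Nat.pow_le_pow_right (by norm_num) hm))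
    have hout : ∀ m, 2 ^ k ≤ m →
        (if bit k then ttab c bit k ^^^ ones k else ttab c bit k).testBit m = false := fun m hm => by
      cases bit k <;> simp [Nat.testBit_xor, hhi m hm, testBit_ones, hm]
    refine ⟨?_, fun m hm => ?_⟩
    · refine Nat.lt_pow_two_of_testBit _ fun m hm => ?_
      rw [pow_succ] at hm
      rw [ttab_succ, Nat.testBit_or, Nat.testBit_shiftLeft, hhi m (by omega),
        hout (m - 2 ^ k) (by omega)]
      simp
    · rw [ttab_succ, Nat.testBit_or, Nat.testBit_shiftLeft, parF]
      rw [pow_succ] at hm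
      by_cases hk : 2 ^ k ≤ m
      · have hbit : m.testBit k = true := by
          rw [Nat.testBit_eq_decide_div_mod_eq, decide_eq_true_eq,
            show m / 2 ^ k = 1 from Nat.div_eq_of_lt_le (by omega) (by omega)]
        have hpar : parF bit k (m - 2 ^ k) = parF bit k m := parF_congr bit k _ _ fun i hi => by
          conv_rhs => rw [show m = 2 ^ k + (m - 2 ^ k) by omega]
          rw [Nat.testBit_two_pow_add_gt hi]
        rw [hhi m hk, hbit]
        cases hb : bit k <;>
          simp [hk, Nat.testBit_xor, testBit_ones, h2 (m - 2 ^ k) (by omega), hpar,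
            (show m - 2 ^ k < 2 ^ k by omega)]
      · rw [Nat.testBit_lt_two_pow (by omega : m < 2 ^ k), h2 m (by omega)]
        simp [hk]

theorem cw_append (G : List ℕ) : ∀ l a, cw G (l ++ [a]) = cw G l ^^^ G.getD a 0
  | [], a => by simp [cw]
  | b :: l, a => by
    show G.getD b 0 ^^^ cw G (l ++ [a]) = (G.getD b 0 ^^^ cw G l) ^^^ G.getD a 0
    rw [cw_append G l a, Nat.xor_assoc]

theorem cw_parF (G : List ℕ) (j m : ℕ) : ∀ n,
    (cw G ((List.range n).filter fun k => m.testBit k)).testBit j =
      parF (fun k => (G.getD k 0).testBit j) n m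
  | 0 => by simp [cw, parF]
  | n + 1 => by
    rw [List.range_succ, List.filter_append, parF, ← cw_parF G j m n]
    cases h : m.testBit n
    · simp [h]
    · simp [h, cw_append, Nat.testBit_xor]

theorem testBit_colTab (j : ℕ) {m : ℕ} (hm : m < 2 ^ 19) :
    (colTab j).testBit m =
      (cw word1 ((List.range 19).filter fun k => m.testBit k)).testBit j := by
  rw [cw_parF]
  have h := (testBit_ttab (c := 0) (by norm_num) (fun k => (word1.getD k 0).testBit j) 19).2 m hm
  rw [show colTab j = ttab 0 (fun k => (word1.getD k 0).testBit j) 19 from rfl, h]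
  simp

/-! ### Counters -/

/-- The value of a counter at a position. -/
def planeVal (m : ℕ) : List ℕ → ℕ
  | [] => 0
  | p :: ps => (p.testBit m).toNat + 2 * planeVal m ps

theorem addPlane_val (m : ℕ) : ∀ ps c,
    planeVal m (addPlane ps c) = planeVal m ps + (c.testBit m).toNat
  | [], c => by simp [addPlane, planeVal]
  | p :: ps, c => by
    show planeVal m ((p ^^^ c) :: addPlane ps (p &&& c)) = _
    rw [planeVal, planeVal, addPlane_val m ps, Nat.testBit_xor, Nat.testBit_and]
    cases p.testBit m <;> cases c.testBit m <;> simp <;> omega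

theorem planeVal_take (m : ℕ) : ∀ k ps, planeVal m (List.take k ps) = planeVal m ps % 2 ^ k
  | 0, ps => by simp [planeVal, Nat.mod_one]
  | k + 1, [] => by simp [planeVal]
  | k + 1, p :: ps => by
    have hb : (p.testBit m).toNat < 2 := by cases p.testBit m <;> decide
    rw [List.take_succ_cons, planeVal, planeVal, planeVal_take m k ps, pow_succ', Nat.mod_mul,
      Nat.add_mul_mod_self_left, Nat.mod_eq_of_lt hb, Nat.add_mul_div_left _ _ (by norm_num : 0 < 2),
      Nat.div_eq_of_lt hb, zero_add]

theorem testBit_planeVal (m : ℕ) : ∀ ps i, (planeVal m ps).testBit i = (ps.getD i 0).testBit m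
  | [], i => by simp [planeVal]
  | p :: ps, 0 => by
    rw [planeVal, Nat.testBit_zero, List.getD_cons_zero]
    cases p.testBit m <;> simp
  | p :: ps, i + 1 => by
    rw [planeVal, Nat.testBit_succ, List.getD_cons_succ, ← testBit_planeVal m ps i]
    congr 1
    cases p.testBit m <;> simp <;> omega

theorem planeVal_planes (col : ℕ → ℕ) (m : ℕ) : ∀ n, n < 64 →
    planeVal m (planes col n) = ((Finset.range n).filter fun k => (col k).testBit m).card
  | 0, _ => by simp [planes, List.replicate, planeVal]
  | n + 1, h => by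
    show planeVal m ((addPlane (planes col n) (col n)).take 6) = _
    rw [planeVal_take, addPlane_val, planeVal_planes col m n (by omega)]
    have hle : ((Finset.range n).filter fun k => (col k).testBit m).card ≤ n :=
      (Finset.card_filter_le _ _).trans (by simp)
    rw [Nat.mod_eq_of_lt (by cases (col n).testBit m <;> simp <;> omega), Finset.range_add_one,
      Finset.filter_insert]
    cases hb : (col n).testBit m <;> simp [hb]

/-! ### The parity word -/

/-- The message of the parity of a vector. -/
def msgOf (x : X) : ℕ :=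
  maskOf (fun k => decide (x (Fin.ofNat 56 (info1.getD k 0)) % 2 = 1)) 19

theorem msgOf_word {x : X} (hx : x ∈ lat) (j : Fin 56) :
    x j % 2 = 1 ↔ (cw word1 ((List.range 19).filter fun k => (msgOf x).testBit k)).testBit j = true := by
  rw [show ((List.range 19).filter fun k => (msgOf x).testBit k) =
      (List.range 19).filter fun k => decide (x (Fin.ofNat 56 (info1.getD k 0)) % 2 = 1) from
    List.filter_congr fun k hk => testBit_maskOf _ 19 k (List.mem_range.1 hk),
    ← parity_sum word1 j (fun k => x (Fin.ofNat 56 (info1.getD k 0))) (List.range 19)]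
  have h1 := rel_even rel_ok.1 hx j
  rw [relZ] at h1
  omega

/-- The odd coordinates. -/
def oddSet (x : X) : Finset (Fin 56) := Finset.univ.filter fun j => x j % 2 = 1

theorem msgOf_count {x : X} (hx : x ∈ lat) :
    planeVal (msgOf x) (planes colTab 56) = (oddSet x).card := by
  rw [planeVal_planes colTab _ 56 (by norm_num)]
  refine (Finset.card_bij (fun (j : Fin 56) _ => (j : ℕ)) (fun j hj => ?_) (fun a _ b _ e => Fin.ext e)
    fun k hk => ?_).symm
  · rw [Finset.mem_filter, Finset.mem_range, testBit_colTab _ (show msgOf x < 2 ^ 19 from maskOf_lt _ _), ← msgOf_word hx]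
    exact ⟨j.2, (Finset.mem_filter.1 hj).2⟩
  · rw [Finset.mem_filter, Finset.mem_range] at hk
    refine ⟨⟨k, hk.1⟩, Finset.mem_filter.2 ⟨Finset.mem_univ _, ?_⟩, rfl⟩
    rw [msgOf_word hx, ← testBit_colTab _ (show msgOf x < 2 ^ 19 from maskOf_lt _ _)]
    exact hk.2

theorem msgOf_cases {x : X} (hx : x ∈ lat) (hle : (oddSet x).card ≤ 16) :
    ((oddSet x).card = 16 ∧ ∃ i < 1701, wMsg i = msgOf x) ∨
      ((oddSet x).card < 16 ∧ ∃ u ∈ (0 :: (List.range 7).map fun b => 255 <<< (8 * b)),
        ∀ j : Fin 56, x j % 2 = 1 ↔ u.testBit j = true) := by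
  have hw := weight_sets
  simp only [Bool.and_eq_true, Nat.beq_eq] at hw
  have hm : msgOf x < 2 ^ 19 := maskOf_lt _ _
  have hb : ∀ i, ((planes colTab 56).getD i 0).testBit (msgOf x) = ((oddSet x).card).testBit i := fun i => by
    rw [← testBit_planeVal, msgOf_count hx]
  rcases lt_or_eq_of_le hle with h | h
  · refine Or.inr ⟨h, ?_⟩
    have e : (weightSets (planes colTab 56)).2.testBit (msgOf x) = true := by
      show (ones 19 ^^^ (((planes colTab 56).getD 5 0) ||| ((planes colTab 56).getD 4 0))).testBit _ = true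
      rw [Nat.testBit_xor, Nat.testBit_or, hb, hb, testBit_ones,
        Nat.testBit_lt_two_pow (lt_of_lt_of_le h (by norm_num : (16 : ℕ) ≤ 2 ^ 5)),
        Nat.testBit_lt_two_pow (lt_of_lt_of_le h (by norm_num : (16 : ℕ) ≤ 2 ^ 4))]
      simp [show msgOf x < 524288 from hm]
    rw [hw.2] at e
    obtain ⟨m, hm', he⟩ : ∃ m ∈ [0, 1088, 8448, 16437, 34818, 65672, 135680, 262144], m = msgOf x := by
      revert e
      generalize ([0, 1088, 8448, 16437, 34818, 65672, 135680, 262144] : List ℕ) = l
      induction l with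
      | nil => simp
      | cons a t ih =>
        rw [List.foldr_cons]
        show ((bit1 a) ||| _).testBit _ = true → _
        rw [Nat.testBit_or, Bool.or_eq_true, testBit_bit1]
        rintro (e | e)
        · exact ⟨a, List.mem_cons_self, e⟩
        · obtain ⟨m, hm', he⟩ := ih e
          exact ⟨m, List.mem_cons_of_mem _ hm', he⟩
    have hl := List.all_eq_true.1 low_words m hm'
    simp only [List.any_eq_true, Nat.beq_eq] at hl
    obtain ⟨u, hu, hue⟩ := hl
    refine ⟨u, hu, fun j => ?_⟩
    rw [msgOf_word hx, ← he, ← hue, Nat.testBit_mod_two_pow]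
    simp [j.2]
  · refine Or.inl ⟨h, ?_⟩
    have e : (weightSets (planes colTab 56)).1.testBit (msgOf x) = true := by
      show ((ones 19 ^^^ (((planes colTab 56).getD 5 0) ||| ((((planes colTab 56).getD 3 0) |||
        ((planes colTab 56).getD 2 0)) ||| (((planes colTab 56).getD 1 0) |||
        ((planes colTab 56).getD 0 0))))) &&& ((planes colTab 56).getD 4 0)).testBit _ = true
      simp only [Nat.testBit_and, Nat.testBit_xor, Nat.testBit_or, hb, h, testBit_ones]
      simp [show msgOf x < 524288 from hm, Nat.testBit_eq_decide_div_mod_eq]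
    rw [hw.1, testBit_orBin] at e
    obtain ⟨i, -, hi, -, hie⟩ := e
    exact ⟨i, hi, (testBit_bit1 _ _).1 hie⟩

end CfsgLib.RuGroup
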