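import Cfsg.Agent.Lib.RuGroup.Parity
import Cfsg.Agent.Lib.RuGroup.CheckWordsA
import Cfsg.Agent.Lib.RuGroup.CheckWordsB

/-!
The list of vectors of norm sixteen of the lattice is complete.
-/

set_option autoImplicit false
set_option maxRecDepth 100000

namespace CfsgLib.RuGroup

open CfsgLib.PresCert CfsgLib.LocalEven.RuRootless

/-! ### Rows -/

theorem rows_mem {r : ℕ} (hr : r < 42) : rows.getD r [] ∈ rows := by
  rw [List.getD_eq_getElem _ _ (by rw [row_pack.2.2]; exact hr)]
  exact List.getElem_mem _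

theorem rowAt_row {r : ℕ} (hr : r < 42) (j : Fin 56) :
    ((rowAt (rowP.getD r 0) j : ℕ) : ℤ) = toZ (rows.getD r []) j := by
  have h := row_pack.2.1
  simp only [List.all_eq_true, List.mem_range, Nat.beq_eq] at h
  rw [h r hr j j.2]
  rfl

theorem dot_row_dvd {x : X} (hx : x ∈ lat) {r : ℕ} (hr : r < 42) :
    4 ∣ dot x (toZ (rows.getD r [])) :=
  dot_dvd hx (AddSubgroup.subset_closure (Or.inl ⟨_, rows_mem hr, rfl⟩))

theorem rowSum_eq (R : ℕ) : ∀ n s, rowSum R n s = ∑ k ∈ Finset.range n, rowAt R (fld s k)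
  | 0, _ => by simp [rowSum]
  | n + 1, s => by
    change rowAt R (s &&& 127) + rowSum R n (s >>> 7) = _
    rw [Finset.sum_range_succ', rowSum_eq R n, fld_zero, add_comm]
    congr 1
    exact Finset.sum_congr rfl fun k _ => by rw [fld_succ]

theorem testBit_rowForm (R m : ℕ) : ∀ (vs : List ℕ) (s : ℕ) (f : ℕ → Bool),
    (∀ k < vs.length, (vs.getD k 0).testBit m = f k) →
      ((rowForm R vs s).testBit m = true ↔ (∑ k ∈ Finset.range vs.length,
        if f k = true ∧ rowAt R (fld s k) % 2 = 1 then 1 else 0) % 2 = 1)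
  | [], s, f, _ => by simp [rowForm]
  | v :: vs, s, f, h => by
    have hv := h 0 (by simp)
    rw [List.getD_cons_zero] at hv
    have ih := testBit_rowForm R m vs (s >>> 7) (fun k => f (k + 1)) fun k hk => by
      have := h (k + 1) (by simp; omega)
      rwa [List.getD_cons_succ] at this
    change ((Bool.rec (rowForm R vs (s >>> 7)) (Nat.xor v (rowForm R vs (s >>> 7)))
      (Nat.beq (rowAt R (s &&& 127) &&& 1) 1) : ℕ)).testBit m = true ↔ _
    rw [List.length_cons, Finset.sum_range_succ']
    simp only [fld_succ, fld_zero, Nat.and_one_is_mod]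
    by_cases ho : rowAt R (s &&& 127) % 2 = 1
    · rw [show Nat.beq (rowAt R (s &&& 127) % 2) 1 = true by simpa using ho]
      show (v ^^^ rowForm R vs (s >>> 7)).testBit m = true ↔ _
      rw [Nat.testBit_xor, hv]
      cases hf : f 0
      · simp only [Bool.false_xor, Bool.false_eq_true, false_and, if_false, add_zero]
        exact ih
      · simp only [Bool.true_xor, ho, and_self, if_true, Bool.not_eq_true', ← Bool.not_eq_true, ih]
        omega
    · rw [show Nat.beq (rowAt R (s &&& 127) % 2) 1 = false by simpa [Bool.eq_false_iff] using ho]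
      simp only [ho, and_false, if_false, add_zero]
      exact ih

theorem parF_delta (k m : ℕ) : ∀ n, parF (fun i => Nat.beq i k) n m = (decide (k < n) && m.testBit k)
  | 0 => by simp [parF]
  | n + 1 => by
    rw [parF, parF_delta k m n]
    by_cases h : n = k
    · subst h; simp
    · rw [show Nat.beq n k = false by simpa [Bool.eq_false_iff] using h]
      simp only [Bool.false_and, Bool.xor_false]
      congr 1
      simp; omega

theorem testBit_varL {k m : ℕ} (hk : k < 16) (hm : m < 2 ^ 16) :
    (varL.getD k 0).testBit m = m.testBit k := by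
  have h := var_ok.2
  simp only [List.all_eq_true, List.mem_range, Nat.beq_eq] at h
  rw [h k hk, (testBit_ttab (c := 0) (by norm_num) _ 16).2 m hm, parF_delta]
  simp [hk]

theorem testBit_allowed (sup m : ℕ) (hm : m < 2 ^ 16) : ∀ (l : List ℕ) (sel : ℕ),
    (∀ r < l.length, sel.testBit r = true → (rowAllow (l.getD r 0) sup).testBit m = true) →
      (List.rec (motive := fun _ => Nat → Nat) (fun _ => ones 16)
        (fun R _ ih s =>
          (fun t => Bool.rec t (Nat.land (rowAllow R sup) t) (Nat.beq (Nat.land s 1) 1))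
            (ih (Nat.shiftRight s 1))) l sel).testBit m = true
  | [], sel, _ => by
    show (ones 16).testBit m = true
    rw [testBit_ones]; exact decide_eq_true hm
  | R :: l, sel, h => by
    have ih := testBit_allowed sup m hm l (sel >>> 1) fun r hr hb => by
      have := h (r + 1) (by simp; omega) (by rwa [Nat.testBit_shiftRight, add_comm] at hb)
      rwa [List.getD_cons_succ] at this
    dsimp only
    cases hb : Nat.beq (Nat.land sel 1) 1 with
    | false => exact ih
    | true =>
      show ((rowAllow R sup) &&& _).testBit m = true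
      rw [Nat.testBit_and, Bool.and_eq_true]
      refine ⟨?_, ih⟩
      have h1 : sel % 2 = 1 := by rw [← Nat.and_one_is_mod]; exact Nat.eq_of_beq_eq_true hb
      have := h 0 (by simp) (by rw [Nat.testBit_zero]; simpa using h1)
      rwa [List.getD_cons_zero] at this

/-! ### Words of weight sixteen -/

theorem wordRecOK_spec {i : ℕ} (h : wordRecOK i = true) :
    supBits 16 0 (wSup i) = (cw word1 ((List.range 19).filter fun k => Nat.testBit (wMsg i) k)) &&& 72057594037927935 ∧
    wCount i ≤ 32 ∧ wStart i + wCount i ≤ 16240 ∧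
    allBin (wStart i + wCount i) (fun k => Nat.beq (coords 16 (el k)) (wSup i)) 5 (wStart i) = true ∧
    allowed (wSel i) (wSup i) =
      orBin (wStart i + wCount i) (fun k => bit1 (signs 16 (el k))) 5 (wStart i) := by
  have h' : (Nat.beq (supBits 16 0 (wSup i))
      (Nat.land (cw word1 ((List.range 19).filter fun k => Nat.testBit (wMsg i) k)) 72057594037927935) &&
      ((Nat.ble (wCount i) 32 && Nat.ble (wStart i + wCount i) 16240) &&
        allBin (wStart i + wCount i) (fun k => Nat.beq (coords 16 (el k)) (wSup i)) 5 (wStart i)) &&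
      Nat.beq (allowed (wSel i) (wSup i))
        (orBin (wStart i + wCount i) (fun k => bit1 (signs 16 (el k))) 5 (wStart i))) = true := by
    rw [← h]
    unfold wordRecOK
    rw [show Nat.ble 0 i = true from Nat.ble_eq_true_of_le (Nat.zero_le i)]
    change _ = (Bool.rec false (Bool.rec false
      (Nat.beq (allowed (wSel i) (wSup i))
        (orBin (wStart i + wCount i) (fun k => bit1 (signs 16 (el k))) 5 (wStart i)))
      (Bool.rec false (allBin (wStart i + wCount i) (fun k => Nat.beq (coords 16 (el k)) (wSup i)) 5 (wStart i))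
        (Bool.rec false (Nat.ble (wStart i + wCount i) 16240) (Nat.ble (wCount i) 32))))
      (Nat.beq (supBits 16 0 (wSup i))
        (Nat.land (cw word1 ((List.range 19).filter fun k => Nat.testBit (wMsg i) k)) 72057594037927935)) : Bool)
    generalize Nat.beq (supBits 16 0 (wSup i)) _ = a
    generalize Nat.ble (wCount i) 32 = b
    generalize Nat.ble (wStart i + wCount i) 16240 = c
    generalize allBin (wStart i + wCount i) _ 5 (wStart i) = d
    generalize Nat.beq (allowed (wSel i) (wSup i)) _ = e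
    cases a <;> cases b <;> cases c <;> cases d <;> cases e <;> rfl
  simp only [Bool.and_eq_true, Nat.beq_eq, Nat.ble_eq] at h'
  exact ⟨h'.1.1, h'.1.2.1.1, h'.1.2.1.2, h'.1.2.2, h'.2⟩

theorem wordRec {i : ℕ} (hi : i < 1701) : wordRecOK i = true := by
  rcases lt_or_ge i 448 with h | h
  · exact allBin_spec _ _ _ _ word_part0 i (by omega) h (by omega)
  rcases lt_or_ge i 896 with h' | h'
  · exact allBin_spec _ _ _ _ word_part1 i h h' (by omega)
  rcases lt_or_ge i 1344 with h'' | h''
  · exact allBin_spec _ _ _ _ word_part2 i h' h'' (by omega)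
  · exact allBin_spec _ _ _ _ word_part3 i h'' hi (by omega)

theorem sq_le_one {a : ℤ} (h : a * a ≤ 1) : a = -1 ∨ a = 0 ∨ a = 1 := by
  have h1 : -1 ≤ a := by nlinarith
  have h2 : a ≤ 1 := by nlinarith
  omega

theorem exists_sixteen {x : X} (hx : x ∈ lat) (hn : dot x x = 16) (ho : (oddSet x).card = 16)
    {i : ℕ} (hi : i < 1701) (hmsg : wMsg i = msgOf x) : ∃ k < 16240, sv k = x := by
  classical
  obtain ⟨hs, hcnt, hend, hco, hall⟩ := wordRecOK_spec (wordRec hi)
  have hlt : supBits 16 0 (wSup i) < 72057594037927936 := by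
    rw [hs]; exact Nat.lt_of_le_of_lt Nat.and_le_right (by norm_num)
  obtain ⟨hs1, hs2, hs3⟩ := supBits_spec 16 0 _ hlt
  let e : Fin 16 → Fin 56 := fun k => ⟨fld (wSup i) k, (hs1 k k.2).2⟩
  have einj : Function.Injective e := fun a b h => by
    have h' : fld (wSup i) a = fld (wSup i) b := congrArg Fin.val h
    rcases lt_trichotomy (a : ℕ) b with hab | hab | hab
    · exact absurd h' (ne_of_lt (hs2 a b hab b.2))
    · exact Fin.ext hab
    · exact absurd h'.symm (ne_of_lt (hs2 b a hab a.2))
  have hodd : ∀ j : Fin 56, x j % 2 = 1 ↔ j ∈ Finset.univ.image e := fun j => by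
    rw [msgOf_word hx, ← hmsg]
    have h2 : ∀ w : ℕ, (w &&& 72057594037927935).testBit j = w.testBit j := fun w => by
      rw [show (72057594037927935 : ℕ) = 2 ^ 56 - 1 by norm_num, Nat.testBit_and,
        Nat.testBit_two_pow_sub_one]
      simp [j.2]
    rw [← h2, ← hs, hs3, Finset.mem_image]
    exact ⟨fun ⟨k, hk, e'⟩ => ⟨⟨k, hk⟩, Finset.mem_univ _, Fin.ext e'⟩,
      fun ⟨k, _, e'⟩ => ⟨k, k.2, by rw [← e']⟩⟩
  have hS : oddSet x = Finset.univ.image e := Finset.ext fun j => by
    rw [oddSet, Finset.mem_filter, hodd]; simp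
  have hsplit := Finset.sum_add_sum_compl (oddSet x) fun j => x j * x j
  rw [show ∑ j, x j * x j = 16 from hn] at hsplit
  have hge : ∀ j ∈ oddSet x, 1 ≤ x j * x j := fun j hj => by
    have : x j ≠ 0 := fun h => by simp [oddSet, h] at hj
    have := mul_self_pos.2 this
    omega
  have h16 : (16 : ℤ) ≤ ∑ j ∈ oddSet x, x j * x j := by
    have := Finset.sum_le_sum (s := oddSet x) (f := fun _ => (1 : ℤ)) hge
    simpa [ho] using this
  have hc0 : (0 : ℤ) ≤ ∑ j ∈ (oddSet x)ᶜ, x j * x j := Finset.sum_nonneg fun j _ => mul_self_nonneg _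
  have hout : ∀ j, j ∉ oddSet x → x j = 0 := fun j hj =>
    mul_self_eq_zero.1 ((Finset.sum_eq_zero_iff_of_nonneg fun k _ => mul_self_nonneg (x k)).1
      (by omega) j (Finset.mem_compl.2 hj))
  have hin : ∀ j ∈ oddSet x, x j = 1 ∨ x j = -1 := fun j hj => by
    have h1 : ∑ k ∈ oddSet x, (x k * x k - 1) = 0 := by
      rw [Finset.sum_sub_distrib]; simp [ho]; omega
    have := (Finset.sum_eq_zero_iff_of_nonneg fun k hk => sub_nonneg.2 (hge k hk)).1 h1 j hj
    exact mul_self_eq_one_iff.1 (by omega)
  have hpm : ∀ k, x (e k) = 1 ∨ x (e k) = -1 := fun k =>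
    hin _ (by rw [hS]; exact Finset.mem_image_of_mem _ (Finset.mem_univ k))
  let s := maskOf (fun k => if h : k < 16 then decide (x (e ⟨k, h⟩) = -1) else false) 16
  have hsbit : ∀ k : Fin 16, (s.testBit k = true ↔ x (e k) = -1) := fun k => by
    simp only [s]
    rw [testBit_maskOf _ _ _ k.2]
    simp
  have hok : (allowed (wSel i) (wSup i)).testBit s = true := by
    refine testBit_allowed _ s (maskOf_lt _ _) rowP (wSel i) fun r hr _ => ?_
    rw [row_pack.1] at hr
    have hd := dot_row_dvd hx hr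
    have hsum : dot x (toZ (rows.getD r [])) =
        ∑ k : Fin 16, x (e k) * (rowAt (rowP.getD r 0) (fld (wSup i) k) : ℤ) := by
      rw [dot, ← Finset.sum_subset (Finset.subset_univ (oddSet x))
        (fun j _ hj => by rw [hout j hj, zero_mul]), hS, Finset.sum_image fun a _ b _ h => einj h]
      refine Finset.sum_congr rfl fun k _ => ?_
      rw [← rowAt_row hr (e k)]
    have hR := rowSum_eq (rowP.getD r 0) 16 (wSup i)
    have hlin : dot x (toZ (rows.getD r [])) = (rowSum (rowP.getD r 0) 16 (wSup i) : ℤ) -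
        2 * ((∑ k ∈ Finset.range 16, if s.testBit k = true then rowAt (rowP.getD r 0) (fld (wSup i) k) else 0 : ℕ) : ℤ) := by
      rw [hsum, hR, Finset.sum_range, Finset.sum_range]
      push_cast
      rw [Finset.mul_sum, ← Finset.sum_sub_distrib]
      refine Finset.sum_congr rfl fun k _ => ?_
      by_cases hk : x (e k) = -1
      · rw [hk, if_pos ((hsbit k).2 hk)]; ring
      · rw [(hpm k).resolve_right hk, if_neg (fun h => hk ((hsbit k).1 h))]; ring
    have hpar := testBit_rowForm (rowP.getD r 0) s varL (wSup i) (fun k => s.testBit k)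
      fun k hk => testBit_varL (by rw [var_ok.1] at hk; exact hk) (maskOf_lt _ _)
    rw [var_ok.1] at hpar
    have hmod : (∑ k ∈ Finset.range 16, if s.testBit k = true then rowAt (rowP.getD r 0) (fld (wSup i) k) else 0) % 2 =
        (∑ k ∈ Finset.range 16,
          if s.testBit k = true ∧ rowAt (rowP.getD r 0) (fld (wSup i) k) % 2 = 1 then 1 else 0) % 2 := by
      rw [Finset.sum_nat_mod]
      congr 1
      refine Finset.sum_congr rfl fun k _ => ?_
      by_cases hk : s.testBit k = true
      · simp only [hk, if_true, true_and]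
        split_ifs <;> omega
      · simp [hk]
    change ((Bool.rec (Bool.rec ((rowForm (rowP.getD r 0) varL (wSup i)) ^^^ ones 16)
      (rowForm (rowP.getD r 0) varL (wSup i))
      (Nat.beq ((rowSum (rowP.getD r 0) 16 (wSup i)) &&& 3) 2)) (ones 16)
      (Nat.beq (((rowSum (rowP.getD r 0) 16 (wSup i)) &&& 3) &&& 1) 1) : ℕ)).testBit s = true
    have e3 : (rowSum (rowP.getD r 0) 16 (wSup i)) &&& 3 = rowSum (rowP.getD r 0) 16 (wSup i) % 4 := by
      rw [show (3 : ℕ) = 2 ^ 2 - 1 by norm_num, Nat.and_two_pow_sub_one_eq_mod]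
    rw [e3, Nat.and_one_is_mod]
    rw [show Nat.beq (rowSum (rowP.getD r 0) 16 (wSup i) % 4 % 2) 1 = false by
      rw [Bool.eq_false_iff, ne_eq, Nat.beq_eq]; omega]
    by_cases h2 : rowSum (rowP.getD r 0) 16 (wSup i) % 4 = 2
    · rw [show Nat.beq (rowSum (rowP.getD r 0) 16 (wSup i) % 4) 2 = true by simpa using h2]
      show (rowForm (rowP.getD r 0) varL (wSup i)).testBit s = true
      rw [hpar]
      omega
    · rw [show Nat.beq (rowSum (rowP.getD r 0) 16 (wSup i) % 4) 2 = false by
        simpa [Bool.eq_false_iff] using h2]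
      show ((rowForm (rowP.getD r 0) varL (wSup i)) ^^^ ones 16).testBit s = true
      rw [Nat.testBit_xor, testBit_ones, decide_eq_true (maskOf_lt _ _ : s < 2 ^ 16), Bool.xor_true,
        Bool.not_eq_true', ← Bool.not_eq_true, hpar]
      omega
  rw [hall, testBit_orBin] at hok
  obtain ⟨k, hk1, hk2, hk3, hk4⟩ := hok
  have hk : k < 16240 := by omega
  have hsgn : signs 16 (el k) = s := (testBit_bit1 _ _).1 hk4
  have hcoord := allBin_spec _ _ _ _ hco k hk1 hk2 hk3
  rw [Nat.beq_eq] at hcoord
  have hf : ∀ l : Fin 16, fld (el k) l % 56 = e l := fun l => by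
    rw [← fld_coords 16 _ l l.2, hcoord]
  have hsp : Sparse (el k) := ⟨el_okCode hk, fun a b hab hb => by
    rw [hf ⟨a, by omega⟩, hf ⟨b, hb⟩]
    exact hs2 a b hab hb⟩
  refine ⟨k, hk, funext fun j => ?_⟩
  by_cases hj : j ∈ oddSet x
  · rw [hS] at hj
    obtain ⟨l, -, rfl⟩ := Finset.mem_image.1 hj
    rw [show e l = ⟨fld (el k) l % 56, Nat.mod_lt _ (by norm_num)⟩ from Fin.ext (hf l).symm, sv,
      hsp.vec_fld l.2, fsign]
    have hb := testBit_signs 16 (el k) l l.2
    rw [hsgn, hsbit] at hb
    rw [show (⟨fld (el k) l % 56, Nat.mod_lt _ (by norm_num)⟩ : Fin 56) = e l from Fin.ext (hf l)]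
    rcases hpm l with h | h
    · rw [h, if_pos]
      by_contra hc
      have := hb.2 (by omega)
      omega
    · rw [h, if_neg]
      have := hb.1 h
      omega
  · rw [hout j hj]
    refine hsp.vec_off j fun l hl he => hj ?_
    rw [hS, Finset.mem_image]
    exact ⟨⟨l, hl⟩, Finset.mem_univ _, Fin.ext (by rw [← hf ⟨l, hl⟩]; exact he)⟩

/-! ### Sums of two columns -/

theorem pairVal_lt : ∀ q, q < 1597 → ∀ p < q, pairVal p < pairVal q
  | 0, _, p, hp => by omega
  | q + 1, hq, p, hp => by
    have h := allBin_spec _ _ _ _ pair_sorted (q + 1) (by omega) hq (by omega)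
    have h' : pairVal q < pairVal (q + 1) := by
      unfold pairOK at h
      cases hb : Nat.beq (pairVal (q + 1)) (Nat.xor (colP.getD (pairJ (q + 1)) 0) (colP.getD (pairK (q + 1)) 0)) with
      | false => rw [hb] at h; simp at h
      | true =>
        rw [hb, show Nat.beq (q + 1) 0 = false from rfl] at h
        exact Nat.le_of_ble_eq_true h
    rcases Nat.lt_succ_iff_lt_or_eq.1 hp with h2 | rfl
    · exact lt_trans (pairVal_lt q (by omega) p h2) h'
    · exact h'

theorem exists_pair {a b : ℕ} (h : a < b ∧ b ≤ 56 ∨ a = 56 ∧ b = 56) :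
    ∃ p < 1597, pairJ p = a ∧ pairK p = b ∧ pairVal p = colP.getD a 0 ^^^ colP.getD b 0 := by
  have hp := Nat.eq_of_beq_eq_true pair_all
  have hfold : ∀ (l : List ℕ) (z w : ℕ), ((l.foldr (fun i a => Nat.lor (bit1 i) a) z).testBit w = true ↔
      (w ∈ l ∨ z.testBit w = true)) := by
    intro l z w
    induction l with
    | nil => simp
    | cons c t ih =>
      rw [List.foldr_cons]
      show (bit1 c ||| _).testBit w = true ↔ _
      rw [Nat.testBit_or, Bool.or_eq_true, ih, testBit_bit1, List.mem_cons, eq_comm, or_assoc]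
  have hmem : (orBin 1597 (fun p => bit1 (Nat.add (Nat.mul (pairJ p) 64) (pairK p))) 11 0).testBit
      (64 * a + b) = true := by
    rw [hp, hfold]
    rcases h with ⟨h1, h2⟩ | ⟨rfl, rfl⟩
    · left
      rw [List.mem_flatMap]
      refine ⟨a, List.mem_range.2 (by omega), ?_⟩
      rw [List.mem_filterMap]
      exact ⟨b, List.mem_range.2 (by omega), by rw [if_pos h1]⟩
    · right; exact (testBit_bit1 _ _).2 rfl
  rw [testBit_orBin] at hmem
  obtain ⟨p, -, hp2, -, he⟩ := hmem
  have he' : pairJ p * 64 + pairK p = 64 * a + b := (testBit_bit1 _ _).1 he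
  have hk : pairK p < 64 := Nat.lt_of_le_of_lt Nat.and_le_right (by norm_num)
  refine ⟨p, hp2, by omega, by omega, ?_⟩
  have hs := allBin_spec _ _ _ _ pair_sorted p (by omega) hp2 (by omega)
  unfold pairOK at hs
  cases hb : Nat.beq (pairVal p) (Nat.xor (colP.getD (pairJ p) 0) (colP.getD (pairK p) 0)) with
  | false => rw [hb] at hs; simp at hs
  | true =>
    rw [Nat.beq_eq] at hb
    rw [hb, show pairJ p = a by omega, show pairK p = b by omega]
    rfl

theorem colP_lt {j : ℕ} (hj : j ≤ 56) : colP.getD j 0 < 2 ^ 42 := by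
  rcases lt_or_eq_of_le hj with h | rfl
  · have := col_pack.2.2
    simp only [List.all_eq_true, List.mem_range, Nat.blt_eq] at this
    exact this j h
  · rw [col_pack.1]; norm_num

theorem testBit_colP (j : Fin 56) {r : ℕ} (hr : r < 42) :
    (colP.getD j 0).testBit r = true ↔ toZ (rows.getD r []) j % 2 = 1 := by
  have h := col_pack.2.1
  simp only [List.all_eq_true, List.mem_range, Nat.beq_eq] at h
  have h' : colP.getD j 0 >>> r % 2 = rowAt (rowP.getD r 0) j % 2 := h j j.2 r hr
  rw [Nat.testBit_eq_decide_div_mod_eq, decide_eq_true_eq, ← Nat.shiftRight_eq_div_pow, h',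
    ← rowAt_row hr j]
  omega

theorem testBit_xor_iff (a b r : ℕ) : (a ^^^ b).testBit r = true ↔
    ¬ (a.testBit r = true ↔ b.testBit r = true) := by
  rw [Nat.testBit_xor]
  cases a.testBit r <;> cases b.testBit r <;> simp

/-- A set of at most two coordinates has an entry among the sorted sums. -/
theorem exists_small {S : Finset (Fin 56)} (h : S.card ≤ 2) : ∃ p < 1597, pairVal p < 2 ^ 42 ∧
    ∀ r < 42, ((pairVal p).testBit r = true ↔ (∑ j ∈ S, toZ (rows.getD r []) j) % 2 = 1) := by
  classical
  have key : ∀ a b, (a < b ∧ b ≤ 56 ∨ a = 56 ∧ b = 56) → ∃ p < 1597, pairVal p < 2 ^ 42 ∧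
      pairVal p = colP.getD a 0 ^^^ colP.getD b 0 := fun a b hab => by
    obtain ⟨p, hp, -, -, e⟩ := exists_pair hab
    exact ⟨p, hp, e ▸ Nat.xor_lt_two_pow (colP_lt (by omega)) (colP_lt (by omega)), e⟩
  rcases (show S.card = 0 ∨ S.card = 1 ∨ S.card = 2 by omega) with h0 | h1 | h2
  · obtain ⟨p, hp, hlt, e⟩ := key 56 56 (Or.inr ⟨rfl, rfl⟩)
    refine ⟨p, hp, hlt, fun r _ => ?_⟩
    rw [e, Nat.xor_self, Finset.card_eq_zero.1 h0]
    simp
  · obtain ⟨a, ha⟩ := Finset.card_eq_one.1 h1
    obtain ⟨p, hp, hlt, e⟩ := key a 56 (Or.inl ⟨a.2, le_rfl⟩)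
    refine ⟨p, hp, hlt, fun r hr => ?_⟩
    rw [e, col_pack.1, Nat.xor_zero, ha, Finset.sum_singleton, testBit_colP a hr]
  · obtain ⟨a, b, hne, hab⟩ := Finset.card_eq_two.1 h2
    obtain ⟨a, b, hlt', hab⟩ : ∃ a b : Fin 56, (a : ℕ) < b ∧ S = {a, b} := by
      rcases lt_or_gt_of_ne (fun e : (a : ℕ) = b => hne (Fin.ext e)) with h | h
      · exact ⟨a, b, h, hab⟩
      · exact ⟨b, a, h, hab.trans (Finset.pair_comm _ _)⟩
    obtain ⟨p, hp, hlt, e⟩ := key a b (Or.inl ⟨hlt', by omega⟩)
    refine ⟨p, hp, hlt, fun r hr => ?_⟩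
    rw [e, testBit_xor_iff, testBit_colP a hr, testBit_colP b hr, hab,
      Finset.sum_pair (fun e : a = b => by rw [e] at hlt'; omega)]
    omega

/-! ### Words of weight eight -/

theorem lightRes_eq (b s R : ℕ) : lightRes b s R =
    ∑ k : Fin 8, (if s.testBit k = true then 3 else 1) * rowAt R (8 * b + k) := by
  have h : ∀ k, (Bool.rec 1 3 (Nat.testBit s k) : ℕ) = if s.testBit k = true then 3 else 1 := fun k => by
    cases s.testBit k <;> rfl
  have e : Nat.shiftLeft b 3 = 8 * b := by
    show b <<< 3 = _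
    rw [Nat.shiftLeft_eq]; ring
  simp only [lightRes, Fin.sum_univ_eight, h, e]
  simp

theorem testBit_lightBits (b s : ℕ) : ∀ l : List ℕ,
    let L := List.rec (motive := fun _ => Nat) (0 : Nat)
      (fun R _ ih => Nat.add (Nat.shiftRight (Nat.land (lightRes b s R) 3) 1) (Nat.shiftLeft ih 1)) l
    L < 2 ^ l.length ∧ ∀ r < l.length,
      (L.testBit r = true ↔ lightRes b s (l.getD r 0) % 4 / 2 = 1)
  | [] => ⟨by simp, fun r hr => by simp at hr⟩
  | R :: l => by
    obtain ⟨h1, h2⟩ := testBit_lightBits b s l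
    intro L
    have eL : L = lightRes b s R % 4 / 2 + 2 * (List.rec (motive := fun _ => Nat) (0 : Nat)
        (fun R _ ih => Nat.add (Nat.shiftRight (Nat.land (lightRes b s R) 3) 1) (Nat.shiftLeft ih 1)) l) := by
      simp only [L]
      rw [show (3 : ℕ) = 2 ^ 2 - 1 by norm_num]
      show ((lightRes b s R) &&& (2 ^ 2 - 1)) >>> 1 + (_ <<< 1) = _
      rw [Nat.and_two_pow_sub_one_eq_mod, Nat.shiftRight_eq_div_pow, Nat.shiftLeft_eq, pow_one,
        Nat.mul_comm _ 2]
    refine ⟨?_, fun r hr => ?_⟩
    · rw [eL, List.length_cons, pow_succ]; omega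
    · cases r with
      | zero => rw [eL, List.getD_cons_zero, Nat.testBit_zero, decide_eq_true_eq]; omega
      | succ r =>
        rw [List.getD_cons_succ, ← h2 r (by simp at hr; omega), eL, Nat.testBit_succ]
        rw [show ∀ c : ℕ, (lightRes b s R % 4 / 2 + 2 * c) / 2 = c from fun c => by omega]

theorem lightOK_spec {i : ℕ} (h : lightOK i = true) :
    (getP lightT 18 262143 i % 2 = 1 ∧ lightRes (i >>> 8) (i &&& 255)
      (rowP.getD (Nat.land (Nat.shiftRight (getP lightT 18 262143 i) 1) 63) 0) % 2 = 1) ∨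
    (1 ≤ getP lightT 18 262143 i >>> 7 ∧ getP lightT 18 262143 i >>> 7 ≤ 1597 ∧
      pairVal (getP lightT 18 262143 i >>> 7 - 1) < lightBits (i >>> 8) (i &&& 255) ∧
      (getP lightT 18 262143 i >>> 7 = 1597 ∨
        lightBits (i >>> 8) (i &&& 255) < pairVal (getP lightT 18 262143 i >>> 7))) := by
  unfold lightOK at h
  revert h
  show (Bool.rec
      (Bool.rec false
        (Bool.rec false (Nat.blt (pairVal (getP lightT 18 262143 i >>> 7 - 1)) (lightBits (i >>> 8) (i &&& 255)))
          (Bool.rec (Nat.blt (lightBits (i >>> 8) (i &&& 255)) (pairVal (getP lightT 18 262143 i >>> 7))) true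
            (Nat.beq (getP lightT 18 262143 i >>> 7) 1597)))
        (Bool.rec false (Nat.ble (getP lightT 18 262143 i >>> 7) 1597)
          (Nat.ble 1 (getP lightT 18 262143 i >>> 7))))
      (Nat.beq ((lightRes (i >>> 8) (i &&& 255)
        (rowP.getD (Nat.land (Nat.shiftRight (getP lightT 18 262143 i) 1) 63) 0)) &&& 1) 1)
      (Nat.beq ((getP lightT 18 262143 i) &&& 1) 1) : Bool) = true → _
  generalize getP lightT 18 262143 i = c
  generalize lightBits (i >>> 8) (i &&& 255) = L
  generalize lightRes (i >>> 8) (i &&& 255) (rowP.getD (Nat.land (Nat.shiftRight c 1) 63) 0) = R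
  rw [Nat.and_one_is_mod, Nat.and_one_is_mod]
  generalize c >>> 7 = q
  cases h0 : Nat.beq (c % 2) 1 <;> cases h1 : Nat.ble 1 q <;> cases h2 : Nat.ble q 1597 <;>
    cases h3 : Nat.beq q 1597 <;> cases h4 : Nat.blt L (pairVal q) <;>
    cases h5 : Nat.blt (pairVal (q - 1)) L <;> cases h6 : Nat.beq (R % 2) 1 <;>
    simp_all

theorem not_eight {x : X} (hx : x ∈ lat) (hn : dot x x = 16) {b : ℕ} (hb : b < 7)
    (hpar : ∀ j : Fin 56, x j % 2 = 1 ↔ (255 <<< (8 * b)).testBit j = true) : False := by
  classical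
  let e : Fin 8 → Fin 56 := fun k => ⟨8 * b + k, by omega⟩
  have einj : Function.Injective e := fun a c h => Fin.ext (by
    have := congrArg Fin.val h; simp only [e] at this; omega)
  obtain ⟨B, hBdef⟩ : ∃ B : Finset (Fin 56), B = Finset.univ.image e := ⟨_, rfl⟩
  have hB : ∀ j : Fin 56, x j % 2 = 1 ↔ j ∈ B := fun j => by
    rw [hpar, show (255 : ℕ) = 2 ^ 8 - 1 by norm_num, Nat.testBit_shiftLeft,
      Nat.testBit_two_pow_sub_one]
    simp only [hBdef, Finset.mem_image, Finset.mem_univ, true_and, Bool.and_eq_true, decide_eq_true_eq]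
    exact ⟨fun h => ⟨⟨j - 8 * b, by omega⟩, Fin.ext (by simp only [e]; omega)⟩,
      fun ⟨k, hk⟩ => by rw [← hk]; simp only [e]; omega⟩
  have hsplit := Finset.sum_add_sum_compl B fun j => x j * x j
  rw [show ∑ j, x j * x j = 16 from hn] at hsplit
  have h8 : (8 : ℤ) ≤ ∑ j ∈ B, x j * x j := by
    have h1 : ∀ j ∈ B, (1 : ℤ) ≤ x j * x j := fun j hj => by
      have hne : x j ≠ 0 := fun h => by have := (hB j).2 hj; omega
      have := mul_self_pos.2 hne
      omega
    have := Finset.sum_le_sum h1
    simpa [hBdef, Finset.card_image_of_injective _ einj] using this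
  obtain ⟨S, hSdef⟩ : ∃ S : Finset (Fin 56), S = Bᶜ.filter fun j => x j ≠ 0 := ⟨_, rfl⟩
  have h4 : ∀ j ∈ S, 4 ≤ x j * x j := fun j hj => by
    simp only [hSdef, Finset.mem_filter, Finset.mem_compl] at hj
    obtain ⟨y, hy⟩ : 2 ∣ x j := by
      have := mt (hB j).1 hj.1
      omega
    have hy0 : y ≠ 0 := fun h => hj.2 (by rw [hy, h, mul_zero])
    have := mul_self_pos.2 hy0
    rw [hy]
    have e : 2 * y * (2 * y) = 4 * (y * y) := by ring
    omega
  have hSle : ∑ j ∈ S, x j * x j ≤ ∑ j ∈ Bᶜ, x j * x j :=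
    Finset.sum_le_sum_of_subset_of_nonneg (hSdef ▸ Finset.filter_subset _ _) fun j _ _ => mul_self_nonneg _
  have hS : S.card ≤ 2 := by
    have h1 := Finset.sum_le_sum h4
    rw [Finset.sum_const, nsmul_eq_mul] at h1
    omega
  have hx2 : ∀ j ∈ S, x j = 2 ∨ x j = -2 := fun j hj => by
    have h1 := Finset.single_le_sum (fun i _ => mul_self_nonneg (x i)) hj (f := fun i => x i * x i)
    have hj' := hj
    rw [hSdef, Finset.mem_filter, Finset.mem_compl] at hj'
    have hne : x j ≠ 0 := hj'.2
    have he : ¬ x j % 2 = 1 := fun h => hj'.1 ((hB j).1 h)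
    have hlo : -3 < x j := by nlinarith
    have hhi : x j < 3 := by nlinarith
    omega
  obtain ⟨s, hsdef⟩ : ∃ s, s =
      maskOf (fun k => if h : k < 8 then decide (x (e ⟨k, h⟩) % 4 = 3) else false) 8 := ⟨_, rfl⟩
  have hs : s < 256 := hsdef ▸ maskOf_lt _ 8
  have hsb : ∀ k : Fin 8, (s.testBit k = true ↔ x (e k) % 4 = 3) := fun k => by
    rw [hsdef, testBit_maskOf _ _ _ k.2]
    simp
  obtain ⟨p, hp, hplt, hpbit⟩ := exists_small hS
  have hres : ∀ r < 42, lightRes b s (rowP.getD r 0) % 2 = 0 ∧
      (lightRes b s (rowP.getD r 0) % 4 / 2 = 1 ↔ (∑ j ∈ S, toZ (rows.getD r []) j) % 2 = 1) := by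
    intro r hr
    have hd := dot_row_dvd hx hr
    have hsum : dot x (toZ (rows.getD r [])) =
        (∑ k : Fin 8, x (e k) * toZ (rows.getD r []) (e k)) + ∑ j ∈ S, x j * toZ (rows.getD r []) j := by
      rw [dot, ← Finset.sum_add_sum_compl B, hSdef]
      congr 1
      · rw [hBdef, Finset.sum_image fun a _ c _ h => einj h]
      refine (Finset.sum_subset (Finset.filter_subset _ _) fun j hj hnj => ?_).symm
      rw [show x j = 0 by by_contra h; exact hnj (Finset.mem_filter.2 ⟨hj, h⟩), zero_mul]
    have hA : 4 ∣ (lightRes b s (rowP.getD r 0) : ℤ) - ∑ k : Fin 8, x (e k) * toZ (rows.getD r []) (e k) := by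
      rw [lightRes_eq]
      push_cast
      rw [← Finset.sum_sub_distrib]
      refine Finset.dvd_sum fun k _ => ?_
      rw [rowAt_row hr (e k) |>.trans rfl, ← sub_mul]
      refine Dvd.dvd.mul_right ?_ _
      have hodd := (hB (e k)).2 (hBdef ▸ Finset.mem_image_of_mem e (Finset.mem_univ k))
      by_cases hk : x (e k) % 4 = 3
      · rw [if_pos ((hsb k).2 hk)]; omega
      · rw [if_neg (fun h => hk ((hsb k).1 h))]; omega
    have hC : 4 ∣ (∑ j ∈ S, x j * toZ (rows.getD r []) j) - 2 * ∑ j ∈ S, toZ (rows.getD r []) j := by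
      rw [Finset.mul_sum, ← Finset.sum_sub_distrib]
      refine Finset.dvd_sum fun j hj => ?_
      rcases hx2 j hj with h | h <;> rw [h] <;> omega
    have := Int.emod_emod_of_dvd (∑ j ∈ S, toZ (rows.getD r []) j) (dvd_refl (2 : ℤ))
    omega
  have hi : b * 256 + s < 1792 := by omega
  have hc := allBin_spec _ _ _ _ light_ok (b * 256 + s) (by omega) hi (by omega)
  have hspec := lightOK_spec hc
  have eb : (b * 256 + s) >>> 8 = b := by rw [Nat.shiftRight_eq_div_pow]; omega
  have es : (b * 256 + s) &&& 255 = s := by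
    rw [show (255 : ℕ) = 2 ^ 8 - 1 by norm_num, Nat.and_two_pow_sub_one_eq_mod]; omega
  rw [eb, es] at hspec
  clear hc
  generalize getP lightT 18 262143 (b * 256 + s) = c at hspec
  have hL := testBit_lightBits b s rowP
  simp only at hL
  rw [row_pack.1] at hL
  have hLp : lightBits b s = pairVal p := Nat.eq_of_testBit_eq fun r => by
    rcases lt_or_ge r 42 with hr | hr
    · rw [Bool.eq_iff_iff, hpbit r hr, ← (hres r hr).2]
      exact hL.2 r hr
    · rw [Nat.testBit_lt_two_pow (lt_of_lt_of_le hL.1 (Nat.pow_le_pow_right (by norm_num) hr) : lightBits b s < _),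
        Nat.testBit_lt_two_pow (lt_of_lt_of_le hplt (Nat.pow_le_pow_right (by norm_num) hr))]
  rcases hspec with ⟨-, he⟩ | ⟨h1, h2, h3, h4⟩
  · generalize Nat.land (Nat.shiftRight c 1) 63 = r at he
    rcases lt_or_ge r 42 with hr | hr
    · have := (hres r hr).1; omega
    · rw [List.getD_eq_default _ _ (by rw [row_pack.1]; exact hr), lightRes_eq] at he
      simp [rowAt] at he
  · generalize c >>> 7 = q at h1 h2 h3 h4
    rw [hLp] at h3 h4
    rcases lt_trichotomy p (q - 1) with h | h | h
    · have := pairVal_lt (q - 1) (by omega) p h; omega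
    · rw [h] at h3; omega
    · rcases h4 with h4 | h4
      · omega
      · rcases lt_or_eq_of_le (show q ≤ p by omega) with h' | h'
        · have := pairVal_lt p hp q h'; omega
        · rw [h'] at h4; omega

/-! ### Even vectors -/

theorem exists_frame {x : X} (hx : x ∈ lat) (hn : dot x x = 16) (hev : ∀ j, ¬ x j % 2 = 1) :
    ∃ k < 16240, sv k = x := by
  classical
  have h2 : ∀ j, ∃ y, x j = 2 * y := fun j => ⟨x j / 2, by have := hev j; omega⟩
  choose y hy using h2
  have hyn : ∑ j, y j * y j = 4 := by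
    have : dot x x = 4 * ∑ j, y j * y j := by
      rw [dot, Finset.mul_sum]
      exact Finset.sum_congr rfl fun j _ => by rw [hy]; ring
    omega
  have hsingle : ∀ j, y j * y j ≤ 4 := fun j =>
    hyn ▸ Finset.single_le_sum (fun i _ => mul_self_nonneg (y i)) (Finset.mem_univ j)
  have hrange : ∀ j, -3 < y j ∧ y j < 3 := fun j => ⟨by nlinarith [hsingle j], by nlinarith [hsingle j]⟩
  by_cases htwo : ∃ j, y j = 2 ∨ y j = -2
  · obtain ⟨j, hj⟩ := htwo
    have h0 : ∀ i, i ≠ j → y i = 0 := fun i hi => by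
      have h4 : y j * y j = 4 := by rcases hj with h | h <;> rw [h] <;> norm_num
      have hrest : ∑ k ∈ Finset.univ.erase j, y k * y k = 0 := by
        have := Finset.add_sum_erase Finset.univ (fun k => y k * y k) (Finset.mem_univ j)
        omega
      exact mul_self_eq_zero.1 ((Finset.sum_eq_zero_iff_of_nonneg fun k _ => mul_self_nonneg (y k)).1
        hrest i (Finset.mem_erase.2 ⟨hi, Finset.mem_univ i⟩))
    have hk : 2 * (j : ℕ) + (if y j = 2 then 0 else 1) < 112 := by split <;> omega
    refine ⟨_, lt_trans hk (by norm_num), funext fun i => ?_⟩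
    rw [sv_frame hk]
    have hdiv : (2 * (j : ℕ) + (if y j = 2 then 0 else 1)) / 2 = j := by split <;> omega
    by_cases hij : i = j
    · subst hij
      rw [show (⟨_, _⟩ : Fin 56) = i from Fin.ext hdiv, Pi.single_eq_same, hy]
      rcases hj with h | h <;> rw [h] <;> norm_num
    · rw [Pi.single_eq_of_ne (fun e => hij (e.trans (Fin.ext hdiv))), hy, h0 i hij, mul_zero]
  · push_neg at htwo
    have hone : ∀ j, y j = 0 ∨ y j = 1 ∨ y j = -1 := fun j => by
      have := hrange j; have := htwo j; omega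
    exfalso
    let S : Finset (Fin 56) := Finset.univ.filter fun j => y j ≠ 0
    have hS : S.card = 4 := by
      have h1 : ∑ j, y j * y j = ∑ j ∈ S, (1 : ℤ) := by
        rw [Finset.sum_filter]
        exact Finset.sum_congr rfl fun j _ => by rcases hone j with h | h | h <;> simp [h]
      rw [hyn, ← Finset.cast_card] at h1
      exact_mod_cast h1.symm
    let f := S.orderEmbOfFin hS
    have hlt : ∀ a c : Fin 4, a < c → (f a : ℕ) < f c := fun a c h => f.strictMono h
    obtain ⟨p, hp, hJ, hK, hv⟩ := exists_pair (a := f 0) (b := f 1)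
      (Or.inl ⟨hlt 0 1 (by decide), (f 1).2.le⟩)
    obtain ⟨q, hq, hJ', hK', hv'⟩ := exists_pair (a := f 2) (b := f 3)
      (Or.inl ⟨hlt 2 3 (by decide), (f 3).2.le⟩)
    have hpq : p ≠ q := fun h => by
      rw [h, hJ'] at hJ
      have := hlt 0 2 (by decide)
      omega
    have heq : pairVal p = pairVal q := by
      refine Nat.eq_of_testBit_eq fun r => ?_
      rw [hv, hv']
      rcases lt_or_ge r 42 with hr | hr
      · rw [Bool.eq_iff_iff, testBit_xor_iff, testBit_xor_iff, testBit_colP _ hr, testBit_colP _ hr,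
          testBit_colP _ hr, testBit_colP _ hr]
        have hd := dot_row_dvd hx hr
        have hsum : dot x (toZ (rows.getD r [])) = ∑ k : Fin 4, x (f k) * toZ (rows.getD r []) (f k) := by
          have himg : S = Finset.univ.image f := by
            rw [← Finset.image_orderEmbOfFin_univ S hS]
          rw [dot, ← Finset.sum_subset (Finset.subset_univ S) (fun j _ hj => by
            rw [hy, show y j = 0 by simpa [S] using hj]; ring), himg,
            Finset.sum_image fun a _ c _ h => f.injective h]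
        rw [Fin.sum_univ_four] at hsum
        have hpm : ∀ k, x (f k) = 2 ∨ x (f k) = -2 := fun k => by
          have hm := Finset.orderEmbOfFin_mem S hS k
          have hne : y (f k) ≠ 0 := (Finset.mem_filter.1 hm).2
          rw [hy]
          rcases hone (f k) with h | h | h <;> simp_all
        generalize toZ (rows.getD r []) (f 0) = a0 at *
        generalize toZ (rows.getD r []) (f 1) = a1 at *
        generalize toZ (rows.getD r []) (f 2) = a2 at *
        generalize toZ (rows.getD r []) (f 3) = a3 at *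
        rcases hpm 0 with h0 | h0 <;> rcases hpm 1 with h1 | h1 <;> rcases hpm 2 with h2 | h2 <;>
          rcases hpm 3 with h3 | h3 <;> rw [h0, h1, h2, h3] at hsum <;> omega
      · have hb : ∀ a b : Fin 56, (colP.getD a 0 ^^^ colP.getD b 0).testBit r = false := fun a b =>
          Nat.testBit_lt_two_pow (lt_of_lt_of_le (Nat.xor_lt_two_pow (colP_lt a.2.le) (colP_lt b.2.le))
            (Nat.pow_le_pow_right (by norm_num) hr))
        rw [hb, hb]
    rcases lt_or_gt_of_ne hpq with h | h
    · exact absurd heq (ne_of_lt (pairVal_lt q hq p h))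
    · exact absurd heq.symm (ne_of_lt (pairVal_lt p hp q h))

/-- Every lattice vector of norm sixteen is listed. -/
theorem short_complete {x : X} (hx : x ∈ lat) (hn : dot x x = 16) : ∃ k < 16240, sv k = x := by
  classical
  have hle : (oddSet x).card ≤ 16 := by
    have h1 : ∀ j ∈ oddSet x, (1 : ℤ) ≤ x j * x j := fun j hj => by
      have : x j ≠ 0 := fun h => by simp [oddSet, h] at hj
      have := mul_self_pos.2 this
      omega
    have h2 := Finset.sum_le_sum h1
    have h3 : ∑ j ∈ oddSet x, x j * x j ≤ dot x x :=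
      Finset.sum_le_sum_of_subset_of_nonneg (Finset.subset_univ _) fun j _ _ => mul_self_nonneg _
    rw [Finset.sum_const, nsmul_eq_mul, mul_one] at h2
    omega
  rcases msgOf_cases hx hle with ⟨ho, i, hi, hm⟩ | ⟨-, u, hu, hpar⟩
  · exact exists_sixteen hx hn ho hi hm
  · simp only [List.mem_cons, List.mem_map, List.mem_range] at hu
    rcases hu with rfl | ⟨b, hb, rfl⟩
    · exact exists_frame hx hn fun j h => by simpa using (hpar j).1 h
    · exact (not_eight hx hn hb hpar).elim

end CfsgLib.RuGroup
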