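import Cfsg.Agent.Lib.RuGroup.Maps
import Cfsg.Agent.Lib.RuGroup.ShortList
import Cfsg.Agent.Lib.RuGroup.CheckClassA
import Cfsg.Agent.Lib.RuGroup.CheckClassB

/-!
Profiles against the base, and the classes of short vectors with a given profile.
-/

set_option autoImplicit false
set_option maxRecDepth 100000

namespace CfsgLib.RuGroup

open CfsgLib.PresCert CfsgLib.LocalEven.RuRootless

attribute [local irreducible] colW app el idT profT classBits vecT lane pkN

theorem baseL_eq : baseL = [0, 112, 144, 48, 7745] := rfl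

theorem profVec_vals : ∀ r : Fin 10, profVec r = [0, baseI.getD 0 0, 112, baseI.getD 1 0, 144,
    baseI.getD 2 0, 48, baseI.getD 3 0, 7745, baseI.getD 4 0].getD r 0 ∧ profVec r < 16240 := by
  decide +kernel

theorem baseI_lt : ∀ b : Fin 5, baseI.getD b 0 < 16240 ∧ baseL.getD b 0 < 16240 := by decide +kernel

theorem sv_baseI (b : Fin 5) : sv (baseI.getD b 0) = rotX (sv (baseL.getD b 0)) := by
  have h := List.all_eq_true.1 baseI_ok b (List.mem_range.2 b.2)
  unfold baseIOK at h
  funext r
  have hr := allBin_spec _ _ _ _ h r (Nat.zero_le _) r.2 (lt_of_lt_of_le r.2 (by decide))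
  rw [Nat.beq_eq, pick_eq] at hr
  have hy := lane_app_id (el_okCode (baseI_lt b).1) r
  by_cases he : (r : ℕ) % 2 = 0
  · rw [if_pos (by rw [Nat.beq_eq]; show (r : ℕ) &&& 1 = 0; rw [Nat.and_one_is_mod]; exact he)] at hr
    have hx := lane_app_id (el_okCode (baseI_lt b).2) ⟨(r : ℕ) + 1, by omega⟩
    have hb := abs_le.1 (sv_abs (baseI_lt b).2 ⟨(r : ℕ) + 1, by omega⟩)
    rw [rotX_even he]
    have hr' : lane (app idT (el (baseI.getD b 0))) r =
        128 - lane (app idT (el (baseL.getD b 0))) ((r : ℕ) + 1) := hr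
    simp only [sv] at *
    omega
  · rw [if_neg (by rw [Nat.beq_eq]; show ¬ (r : ℕ) &&& 1 = 0; rw [Nat.and_one_is_mod]; exact he)] at hr
    have hx := lane_app_id (el_okCode (baseI_lt b).2) ⟨(r : ℕ) - 1, by omega⟩
    rw [rotX_odd (by omega)]
    have hr' : lane (app idT (el (baseI.getD b 0))) r =
        lane (app idT (el (baseL.getD b 0))) ((r : ℕ) - 1) := hr
    simp only [sv] at *
    omega

/-- Scalar products with the ten vectors of the profile. -/
noncomputable def profHom : X →+ (ℕ → ℤ) where
  toFun x r := dot x (sv (profVec r))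
  map_zero' := by funext r; simp [dot]
  map_add' x y := by funext r; exact dot_add_left x y _

theorem colIs_prof_gen {w mask T : ℕ}
    (h : ∀ c : Fin 56, 4 * colW w mask T c + pkN 256 10 (fun _ => 48) =
          pkN 256 10 (fun r => lane (app idT (el (profVec r))) c) ∧
        colW w mask T c + colW w mask T ((c : ℕ) + 56) = pkN 256 10 (fun _ => 8)) :
    ColIs w mask T 256 10 profHom := by
  have hok : ∀ c : Fin 56,
      colW w mask T c = pkN 256 10 (fun r => (sv (profVec r) c + 4).toNat) := by
    intro c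
    have h1 := (h c).1
    have h2 : 4 * pkN 256 10 (fun r => (sv (profVec r) c + 4).toNat) + pkN 256 10 (fun _ => 48) =
        pkN 256 10 (fun r => lane (app idT (el (profVec r))) c) := by
      rw [← pkN_mul, ← pkN_add]
      refine pkN_congr _ _ _ _ fun r hr => ?_
      have hlt := (profVec_vals ⟨r, hr⟩).2
      have h1 := lane_app_id (el_okCode hlt) c
      have := abs_le.1 (sv_abs hlt c)
      simp only [sv] at *
      omega
    omega
  intro c hc
  rcases lt_or_ge c 56 with h' | h'
  · rw [show unitV c = Pi.single (⟨c, h'⟩ : Fin 56) 1 from unitV_lo ⟨c, h'⟩]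
    refine ⟨(hok ⟨c, h'⟩).trans (pkN_congr _ _ _ _ fun r _ => ?_), fun r hr => ?_⟩
    · show _ = (dot (Pi.single _ 1) _ + 4).toNat
      rw [dot_comm, dot_single, mul_one]
    · show |dot (Pi.single _ 1) _| ≤ 4
      rw [dot_comm, dot_single, mul_one]
      exact sv_abs (profVec_vals ⟨r, hr⟩).2 _
  · obtain ⟨j, rfl⟩ : ∃ j : Fin 56, c = (j : ℕ) + 56 := ⟨⟨c - 56, by omega⟩, by simp; omega⟩
    have h1 := hok j
    have h3 := (h j).2
    rw [unitV_hi, map_neg]
    have hv : ∀ r, profHom (Pi.single j 1) r = sv (profVec r) j := fun r => by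
      show dot (Pi.single j 1) _ = _
      rw [dot_comm, dot_single, mul_one]
    refine ⟨?_, fun r hr => ?_⟩
    · have h2 : pkN 256 10 (fun r => (sv (profVec r) j + 4).toNat) +
          pkN 256 10 (fun r => ((-profHom (Pi.single j 1)) r + 4).toNat) = pkN 256 10 (fun _ => 8) := by
        rw [← pkN_add]
        refine pkN_congr _ _ _ _ fun r hr => ?_
        have := abs_le.1 (sv_abs (profVec_vals ⟨r, hr⟩).2 j)
        rw [Pi.neg_apply, hv]
        simp only at this
        omega
      omega
    · rw [Pi.neg_apply, abs_neg, hv]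
      exact sv_abs (profVec_vals ⟨r, hr⟩).2 _

theorem profColOK_gen {A Y K8 K48 R : ℕ}
    (h : band (Nat.beq (Nat.add (Nat.mul (nat_lit 4) A) K48) R) (Nat.beq (Nat.add A Y) K8) = true) :
    4 * A + K48 = R ∧ A + Y = K8 := by
  cases h1 : Nat.beq (Nat.add (Nat.mul (nat_lit 4) A) K48) R with
  | false => rw [h1] at h; exact absurd h (by simp [band])
  | true =>
    rw [h1] at h
    exact ⟨Nat.eq_of_beq_eq_true h1, Nat.eq_of_beq_eq_true h⟩

theorem colIs_prof : ColIs 80 m80 profT 256 10 profHom :=
  colIs_prof_gen fun c => profColOK_gen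
    (allBin_spec _ _ _ _ prof_col c (Nat.zero_le _) c.2 (lt_of_lt_of_le c.2 (by decide)))

/-- The scalar products of a short vector with the profile vectors. -/
noncomputable def pdot (i r : ℕ) : ℤ := dot (sv i) (sv (profVec r))

theorem profOf_spec {i : ℕ} (hi : i < 16240) :
    profOf i = pkN 256 10 (fun r => (pdot i r + 64).toNat) ∧ ∀ r < 10, |pdot i r| ≤ 64 := by
  obtain ⟨e, b⟩ := sumCols_colIs colIs_prof 16 (el i) (el_okCode hi)
  exact ⟨e.trans (pkN_congr _ _ _ _ fun r _ => rfl), fun r hr => b r hr⟩

theorem agree_iff {m : ℕ} (hm : m ≤ 10) {i j : ℕ} (hi : i < 16240) (hj : j < 16240) :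
    agree m (profOf i) (profOf j) = true ↔ ∀ r < m, pdot i r = pdot j r := by
  obtain ⟨e1, b1⟩ := profOf_spec hi
  obtain ⟨e2, b2⟩ := profOf_spec hj
  have h1 : ∀ r < 10, (pdot i r + 64).toNat < 256 := fun r hr => by have := abs_le.1 (b1 r hr); omega
  have h2 : ∀ r < 10, (pdot j r + 64).toNat < 256 := fun r hr => by have := abs_le.1 (b2 r hr); omega
  have hmask : ∀ a : ℕ, Nat.land a (Nat.pred (Nat.shiftLeft 1 (Nat.shiftLeft m 3))) = a % 256 ^ m := by
    intro a
    show a &&& ((1 <<< (m <<< 3)) - 1) = _
    rw [Nat.one_shiftLeft, Nat.and_two_pow_sub_one_eq_mod, Nat.shiftLeft_eq, show m * 2 ^ 3 = 8 * m by ring,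
      pow_mul]
    norm_num
  show Nat.beq (Nat.land (profOf i) _) (Nat.land (profOf j) _) = true ↔ _
  rw [Nat.beq_eq, hmask, hmask, e1, e2, pkN_mod 256 m 10 _ hm h1, pkN_mod 256 m 10 _ hm h2]
  constructor
  · intro h r hr
    have h' := pkN_inj (fun k hk => h1 k (by omega)) (fun k hk => h2 k (by omega)) h r hr
    have := abs_le.1 (b1 r (by omega))
    have := abs_le.1 (b2 r (by omega))
    omega
  · intro h
    exact pkN_congr _ _ _ _ fun r hr => by rw [h r hr]

theorem classOK_all {i : ℕ} (hi : i < 16240) : classOK i = true := by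
  rcases lt_or_ge i 4096 with h | h
  · exact allBin_spec _ _ _ _ class_part0 i (Nat.zero_le _) h (by omega)
  rcases lt_or_ge i 8192 with h' | h'
  · exact allBin_spec _ _ _ _ class_part1 i h h' (by omega)
  rcases lt_or_ge i 12288 with h'' | h''
  · exact allBin_spec _ _ _ _ class_part2 i h' h'' (by omega)
  · exact allBin_spec _ _ _ _ class_part3 i h'' hi (by omega)

theorem classBit_iff {s i : ℕ} {b : Bool} (h : Nat.beq (bval b) (classBit s i) = true) :
    classBits.testBit (16384 * s + i) = b := by
  rw [Nat.beq_eq] at h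
  have h' : (bval b) = (classBits >>> ((s <<< 14) + i)) % 2 := h.trans (Nat.and_one_is_mod _)
  rw [Nat.shiftLeft_eq, show s * 2 ^ 14 = 16384 * s by ring, Nat.shiftRight_eq_div_pow] at h'
  rw [Nat.testBit_eq_decide_div_mod_eq]
  generalize classBits / 2 ^ (16384 * s + i) % 2 = v at h' ⊢
  subst h'
  cases b <;> rfl

/-- The roots of the classes. -/
def classRoot : ℕ → ℕ
  | 0 => 112
  | 1 => 144
  | 2 => 48
  | 3 => 7745
  | _ => 4

/-- The number of profile entries fixing a class. -/
def classLen : ℕ → ℕ
  | 0 => 2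
  | 1 => 4
  | 2 => 6
  | 3 => 8
  | _ => 2

theorem classOKp_spec {i p : ℕ} (h : classOKp i p = true) :
    (∀ k < 5, Nat.beq (bval (agree (classLen k) p (rootP.getD k 0))) (classBit k i) = true) ∧
      Nat.beq (bval (memN p singleP)) (classBit 5 i) = true := by
  have h' : ((((Nat.beq (bval (agree (classLen 0) p (rootP.getD 0 0))) (classBit 0 i) &&
      Nat.beq (bval (agree (classLen 1) p (rootP.getD 1 0))) (classBit 1 i)) &&
      Nat.beq (bval (agree (classLen 2) p (rootP.getD 2 0))) (classBit 2 i)) &&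
      Nat.beq (bval (agree (classLen 3) p (rootP.getD 3 0))) (classBit 3 i)) &&
      (Nat.beq (bval (agree (classLen 4) p (rootP.getD 4 0))) (classBit 4 i) &&
        Nat.beq (bval (memN p singleP)) (classBit 5 i))) = true := by
    rw [← h]
    change _ = (Bool.rec false
      (Bool.rec false
        (Bool.rec false
          (Bool.rec false
            (Bool.rec false
              (Nat.beq (bval (memN p singleP)) (classBit 5 i))
              (Nat.beq (bval (agree (classLen 4) p (rootP.getD 4 0))) (classBit 4 i)))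
            (Nat.beq (bval (agree (classLen 3) p (rootP.getD 3 0))) (classBit 3 i)))
          (Nat.beq (bval (agree (classLen 2) p (rootP.getD 2 0))) (classBit 2 i)))
        (Nat.beq (bval (agree (classLen 1) p (rootP.getD 1 0))) (classBit 1 i)))
      (Nat.beq (bval (agree (classLen 0) p (rootP.getD 0 0))) (classBit 0 i)) : Bool)
    generalize Nat.beq (bval (agree (classLen 0) p (rootP.getD 0 0))) (classBit 0 i) = a0
    generalize Nat.beq (bval (agree (classLen 1) p (rootP.getD 1 0))) (classBit 1 i) = a1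
    generalize Nat.beq (bval (agree (classLen 2) p (rootP.getD 2 0))) (classBit 2 i) = a2
    generalize Nat.beq (bval (agree (classLen 3) p (rootP.getD 3 0))) (classBit 3 i) = a3
    generalize Nat.beq (bval (agree (classLen 4) p (rootP.getD 4 0))) (classBit 4 i) = a4
    generalize Nat.beq (bval (memN p singleP)) (classBit 5 i) = a5
    cases a0 <;> cases a1 <;> cases a2 <;> cases a3 <;> cases a4 <;> cases a5 <;> rfl
  simp only [Bool.and_eq_true] at h'
  refine ⟨fun k hk => ?_, h'.2.2⟩
  interval_cases k
  · exact h'.1.1.1.1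
  · exact h'.1.1.1.2
  · exact h'.1.1.2
  · exact h'.1.2
  · exact h'.2.1

theorem class_bit {i : ℕ} (hi : i < 16240) {s : ℕ} (hs : s < 5) :
    classBits.testBit (16384 * s + i) = true ↔ ∀ r < classLen s, pdot i r = pdot (classRoot s) r := by
  have hroot : classRoot s < 16240 := by interval_cases s <;> norm_num [classRoot]
  rw [← agree_iff (by interval_cases s <;> norm_num [classLen]) hi hroot]
  have hp' : profOf (classRoot s) = rootP.getD s 0 := by
    rw [← root_prof.1]
    interval_cases s <;> rfl
  rw [hp', classBit_iff ((classOKp_spec (classOK_all hi)).1 s hs)]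

theorem class_single {i : ℕ} (hi : i < 16240) :
    classBits.testBit (16384 * 5 + i) = memN (profOf i) singleP :=
  classBit_iff (classOKp_spec (classOK_all hi)).2

theorem memN_iff (x : ℕ) : ∀ l : List ℕ, memN x l = true ↔ x ∈ l
  | [] => by simp [memN]
  | a :: l => by
    change (Bool.rec (memN x l) true (Nat.beq x a) : Bool) = true ↔ _
    by_cases h : x = a
    · subst h; simp
    · rw [show Nat.beq x a = false by simpa [Bool.eq_false_iff] using h, List.mem_cons]
      simp [memN_iff x l, h]

end CfsgLib.RuGroup
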