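import Cfsg.Agent.Lib.RuGroup.Checks
import Cfsg.Agent.Lib.RuGroup.DataWords
import Cfsg.Agent.Lib.RuGroup.DataVars
import Cfsg.Agent.Lib.RuGroup.DataLight
import Cfsg.Agent.Lib.LocalEven.RuRootless

/-!
The predicates of the checks that the list of short vectors is complete.
-/

set_option autoImplicit false

namespace CfsgLib.RuGroup

open CfsgLib.PresCert CfsgLib.LocalEven.RuRootless

/-- All ones in the lowest `2 ^ d` bits. -/
noncomputable def ones (d : Nat) : Nat :=
  Nat.pred (Nat.shiftLeft (nat_lit 1) (Nat.shiftLeft (nat_lit 1) d))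

/-- Truth table of the linear function with the given coefficients, starting from a constant. -/
noncomputable def ttab (c : Nat) (bit : Nat → Bool) (d : Nat) : Nat :=
  Nat.rec (motive := fun _ => Nat) c
    (fun k t => (fun s => Nat.lor s (Nat.shiftLeft (Bool.rec s (Nat.xor s (ones k)) (bit k))
      (Nat.shiftLeft (nat_lit 1) k))) t) d

/-- Addition of one bit plane. -/
noncomputable def addPlane (ps : List Nat) : Nat → List Nat :=
  List.rec (motive := fun _ => Nat → List Nat) (fun c => [c])
    (fun p _ ih c => (Nat.xor p c) :: ih (Nat.land p c)) ps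

/-- Six planes of counters after adding `n` columns. -/
noncomputable def planes (col : Nat → Nat) (n : Nat) : List Nat :=
  Nat.rec (motive := fun _ => List Nat) (List.replicate 6 0)
    (fun k ps => (addPlane ps (col k)).take 6) n

/-- The truth table of one coordinate of the binary code. -/
noncomputable def colTab (j : Nat) : Nat :=
  ttab (nat_lit 0) (fun k => Nat.testBit (word1.getD k 0) j) (nat_lit 19)

/-- The messages of weight sixteen, and those of weight below sixteen. -/
noncomputable def weightSets (ps : List Nat) : Nat × Nat :=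
  let a := ps.getD 5 0
  let b := ps.getD 4 0
  let low := Nat.lor (Nat.lor (ps.getD 3 0) (ps.getD 2 0)) (Nat.lor (ps.getD 1 0) (ps.getD 0 0))
  let full := ones (nat_lit 19)
  (Nat.land (Nat.xor full (Nat.lor a low)) b, Nat.xor full (Nat.lor a b))

/-- A record of a word. -/
noncomputable def wrec (i : Nat) : Nat :=
  getP wordT (nat_lit 194)
    (nat_lit 25108406941546723055343157692830665664409421777856138051583) i

/-- The message of a record. -/
noncomputable def wMsg (i : Nat) : Nat := Nat.land (wrec i) (nat_lit 524287)

/-- The first listed vector of a record. -/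
noncomputable def wStart (i : Nat) : Nat := Nat.land (Nat.shiftRight (wrec i) (nat_lit 19)) (nat_lit 32767)

/-- The number of listed vectors of a record. -/
noncomputable def wCount (i : Nat) : Nat := Nat.land (Nat.shiftRight (wrec i) (nat_lit 34)) (nat_lit 63)

/-- The rows used by a record. -/
noncomputable def wSel (i : Nat) : Nat :=
  Nat.land (Nat.shiftRight (wrec i) (nat_lit 40)) (nat_lit 4398046511103)

/-- The support of a record. -/
noncomputable def wSup (i : Nat) : Nat := Nat.shiftRight (wrec i) (nat_lit 82)

/-- The bits of the coordinates of a support, which increase from `lo`. -/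
noncomputable def supBits (n : Nat) : Nat → Nat → Nat :=
  Nat.rec (motive := fun _ => Nat → Nat → Nat) (fun _ _ => nat_lit 0)
    (fun _ ih lo s =>
      Bool.rec (nat_lit 72057594037927936)
        (Nat.add (bit1 (Nat.land s (nat_lit 127)))
          (ih (Nat.add (Nat.land s (nat_lit 127)) (nat_lit 1)) (Nat.shiftRight s (nat_lit 7))))
        (Bool.rec false (Nat.ble lo (Nat.land s (nat_lit 127)))
          (Nat.blt (Nat.land s (nat_lit 127)) (nat_lit 56)))) n

/-- An entry of a row. -/
noncomputable def rowAt (R j : Nat) : Nat :=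
  Nat.land (Nat.shiftRight R (Nat.shiftLeft j (nat_lit 1))) (nat_lit 3)

/-- The sum of a row over a support. -/
noncomputable def rowSum (R : Nat) (n : Nat) : Nat → Nat :=
  Nat.rec (motive := fun _ => Nat → Nat) (fun _ => nat_lit 0)
    (fun _ ih s => Nat.add (rowAt R (Nat.land s (nat_lit 127))) (ih (Nat.shiftRight s (nat_lit 7)))) n

/-- The linear part of the condition of a row on the signs. -/
noncomputable def rowForm (R : Nat) (vs : List Nat) : Nat → Nat :=
  List.rec (motive := fun _ => Nat → Nat) (fun _ => nat_lit 0)
    (fun v _ ih s =>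
      (fun t => Bool.rec t (Nat.xor v t)
        (Nat.beq (Nat.land (rowAt R (Nat.land s (nat_lit 127))) (nat_lit 1)) (nat_lit 1)))
        (ih (Nat.shiftRight s (nat_lit 7)))) vs

/-- The signs allowed by one row. -/
noncomputable def rowAllow (R sup : Nat) : Nat :=
  (fun e t => Bool.rec
    (Bool.rec (Nat.xor e (ones (nat_lit 16))) e (Nat.beq t (nat_lit 2)))
    (ones (nat_lit 16))
    (Nat.beq (Nat.land t (nat_lit 1)) (nat_lit 1)))
    (rowForm R varL sup) (Nat.land (rowSum R (nat_lit 16) sup) (nat_lit 3))

/-- The signs allowed by the selected rows. -/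
noncomputable def allowed (sel sup : Nat) : Nat :=
  List.rec (motive := fun _ => Nat → Nat) (fun _ => ones (nat_lit 16))
    (fun R _ ih s =>
      (fun t => Bool.rec t (Nat.land (rowAllow R sup) t) (Nat.beq (Nat.land s (nat_lit 1)) (nat_lit 1)))
        (ih (Nat.shiftRight s (nat_lit 1)))) rowP sel

/-- The signs of a code. -/
noncomputable def signs (n : Nat) : Nat → Nat :=
  Nat.rec (motive := fun _ => Nat → Nat) (fun _ => nat_lit 0)
    (fun _ ih c => Nat.add (Bool.rec (nat_lit 0) (nat_lit 1) (Nat.ble (nat_lit 56) (Nat.land c (nat_lit 127))))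
      (Nat.shiftLeft (ih (Nat.shiftRight c (nat_lit 7))) (nat_lit 1))) n

/-- The coordinates of a code. -/
noncomputable def coords (n : Nat) : Nat → Nat :=
  Nat.rec (motive := fun _ => Nat → Nat) (fun _ => nat_lit 0)
    (fun _ ih c => Nat.add (Nat.mod (Nat.land c (nat_lit 127)) (nat_lit 56))
      (Nat.shiftLeft (ih (Nat.shiftRight c (nat_lit 7))) (nat_lit 7))) n

/-- A record lists exactly the vectors on its word. -/
noncomputable def wordRecOK (i : Nat) : Bool :=
  Bool.rec false
    (Bool.rec false
      (Bool.rec false
        (Nat.beq (allowed (wSel i) (wSup i))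
          (orBin (Nat.add (wStart i) (wCount i)) (fun k => bit1 (signs (nat_lit 16) (el k)))
            (nat_lit 5) (wStart i)))
        (Bool.rec false
          (allBin (Nat.add (wStart i) (wCount i))
            (fun k => Nat.beq (coords (nat_lit 16) (el k)) (wSup i)) (nat_lit 5) (wStart i))
          (Bool.rec false (Nat.ble (Nat.add (wStart i) (wCount i)) (nat_lit 16240))
            (Nat.ble (wCount i) (nat_lit 32)))))
      (Nat.beq (supBits (nat_lit 16) (nat_lit 0) (wSup i))
        (Nat.land (cw word1 ((List.range 19).filter fun k => Nat.testBit (wMsg i) k))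
          (nat_lit 72057594037927935))))
    (Nat.ble (nat_lit 0) i)

/-- The set of coordinates of a code, and its negative ones. -/
noncomputable def keyBits (n : Nat) : Nat → Nat :=
  Nat.rec (motive := fun _ => Nat → Nat) (fun _ => nat_lit 0)
    (fun _ ih c => Nat.add
      (Nat.add (bit1 (Nat.add (nat_lit 56) (Nat.mod (Nat.land c (nat_lit 127)) (nat_lit 56))))
        (Bool.rec (nat_lit 0) (bit1 (Nat.mod (Nat.land c (nat_lit 127)) (nat_lit 56)))
          (Nat.ble (nat_lit 56) (Nat.land c (nat_lit 127)))))
      (ih (Nat.shiftRight c (nat_lit 7)))) n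

/-- A listed vector of weight sixteen is well formed and later than the one before. -/
noncomputable def keyOK (i : Nat) : Bool :=
  Bool.rec false
    (Bool.rec false
      (Bool.rec (Nat.blt (keyBits (nat_lit 16) (el (Nat.sub i (nat_lit 1)))) (keyBits (nat_lit 16) (el i)))
        true (Nat.beq i (nat_lit 112)))
      (Nat.blt (supBits (nat_lit 16) (nat_lit 0) (coords (nat_lit 16) (el i)))
        (nat_lit 72057594037927936)))
    (okCode (nat_lit 16) (el i))

/-- The code of a member of the frame. -/
noncomputable def frameCode (i : Nat) : Nat :=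
  pkN (nat_lit 128) (nat_lit 16) (fun k =>
    Nat.add (Nat.shiftRight i (nat_lit 1))
      (Bool.rec (nat_lit 0) (nat_lit 56)
        (Nat.beq (Nat.land i (nat_lit 1)) (Bool.rec (nat_lit 1) (nat_lit 0) (Nat.ble (nat_lit 10) k)))))

/-- An entry of the sorted sums of two columns. -/
noncomputable def pairVal (p : Nat) : Nat :=
  Nat.land (getP pairT (nat_lit 54) (nat_lit 18014398509481983) p) (nat_lit 4398046511103)

/-- The two columns of an entry. -/
noncomputable def pairJ (p : Nat) : Nat :=
  Nat.land (Nat.shiftRight (getP pairT (nat_lit 54) (nat_lit 18014398509481983) p) (nat_lit 42)) (nat_lit 63)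

/-- The two columns of an entry. -/
noncomputable def pairK (p : Nat) : Nat :=
  Nat.land (Nat.shiftRight (getP pairT (nat_lit 54) (nat_lit 18014398509481983) p) (nat_lit 48)) (nat_lit 63)

/-- The sorted sums are right and increase. -/
noncomputable def pairOK (p : Nat) : Bool :=
  Bool.rec false
    (Bool.rec (Nat.blt (pairVal (Nat.sub p (nat_lit 1))) (pairVal p)) true (Nat.beq p (nat_lit 0)))
    (Nat.beq (pairVal p) (Nat.xor (colP.getD (pairJ p) 0) (colP.getD (pairK p) 0)))

/-- The parities of the residues of the rows, or the residues halved. -/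
noncomputable def lightRes (b s : Nat) (R : Nat) : Nat :=
  Nat.rec (motive := fun _ => Nat) (nat_lit 0)
    (fun k acc => Nat.add acc (Nat.mul (Bool.rec (nat_lit 1) (nat_lit 3) (Nat.testBit s k))
      (rowAt R (Nat.add (Nat.shiftLeft b (nat_lit 3)) k)))) (nat_lit 8)

/-- The residues halved, as bits. -/
noncomputable def lightBits (b s : Nat) : Nat :=
  List.rec (motive := fun _ => Nat) (nat_lit 0)
    (fun R _ ih => Nat.add (Nat.shiftRight (Nat.land (lightRes b s R) (nat_lit 3)) (nat_lit 1))
      (Nat.shiftLeft ih (nat_lit 1))) rowP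

/-- A sign pattern on a word of weight eight has no completion. -/
noncomputable def lightOK (i : Nat) : Bool :=
  (fun c b s =>
    Bool.rec
      (Bool.rec false
        (Bool.rec false (Nat.blt (pairVal (Nat.sub (Nat.shiftRight c (nat_lit 7)) (nat_lit 1))) (lightBits b s))
          (Bool.rec (Nat.blt (lightBits b s) (pairVal (Nat.shiftRight c (nat_lit 7)))) true
            (Nat.beq (Nat.shiftRight c (nat_lit 7)) (nat_lit 1597))))
        (Bool.rec false (Nat.ble (Nat.shiftRight c (nat_lit 7)) (nat_lit 1597))
          (Nat.ble (nat_lit 1) (Nat.shiftRight c (nat_lit 7)))))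
      (Nat.beq (Nat.land (lightRes b s
        (rowP.getD (Nat.land (Nat.shiftRight c (nat_lit 1)) (nat_lit 63)) 0)) (nat_lit 1)) (nat_lit 1))
      (Nat.beq (Nat.land c (nat_lit 1)) (nat_lit 1)))
    (getP lightT (nat_lit 18) (nat_lit 262143) i) (Nat.shiftRight i (nat_lit 8))
    (Nat.land i (nat_lit 255))

end CfsgLib.RuGroup
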