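import Cfsg.Agent.Lib.RuGroup.Vectors
import Cfsg.Agent.Lib.RuGroup.ShortChecks

/-!
The shapes of the listed short vectors, and their distinctness.
-/

set_option autoImplicit false
set_option maxRecDepth 100000

namespace CfsgLib.RuGroup

open CfsgLib.PresCert

theorem pick_eq (b : Bool) (x y : ℕ) : pick b x y = if b = true then x else y := by
  cases b <;> rfl

/-! ### Fields -/

theorem add_high {x i : ℕ} (h : ∀ j < i, x.testBit j = false) {b : ℕ} (hb : b < 2 ^ i) :
    x + b = x ||| b := by
  have e : x = (x >>> i) <<< i := Nat.eq_of_testBit_eq fun j => by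
    rw [Nat.testBit_shiftLeft]
    by_cases hj : i ≤ j
    · simp [hj, Nat.testBit_shiftRight]
    · simp [hj, h j (by omega)]
  conv_lhs => rw [e]
  conv_rhs => rw [e]
  exact Nat.shiftLeft_add_eq_or_of_lt hb _

theorem supBits_spec : ∀ n lo s, supBits n lo s < 72057594037927936 →
    (∀ k < n, lo ≤ fld s k ∧ fld s k < 56) ∧ (∀ k l, k < l → l < n → fld s k < fld s l) ∧
      ∀ j, (supBits n lo s).testBit j = true ↔ ∃ k < n, fld s k = j
  | 0, lo, s, _ => ⟨fun k hk => by omega, fun k l _ hl => by omega, fun j => by simp [supBits]⟩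
  | n + 1, lo, s, h => by
    have hrec : supBits (n + 1) lo s = if lo ≤ (s &&& 127) ∧ (s &&& 127) < 56 then
        bit1 (s &&& 127) + supBits n ((s &&& 127) + 1) (s >>> 7) else 72057594037927936 := by
      change (Bool.rec 72057594037927936 (bit1 (s &&& 127) + supBits n ((s &&& 127) + 1) (s >>> 7))
        (Bool.rec false (Nat.ble lo (s &&& 127)) (Nat.blt (s &&& 127) 56)) : ℕ) = _
      by_cases hl : lo ≤ (s &&& 127)
      · by_cases hu : (s &&& 127) < 56
        · rw [Nat.ble_eq_true_of_le hl, show Nat.blt (s &&& 127) 56 = true by simpa using hu,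
            if_pos ⟨hl, hu⟩]
        · rw [show Nat.blt (s &&& 127) 56 = false by
            simpa [Bool.eq_false_iff] using hu, if_neg (fun e => hu e.2)]
      · rw [show Nat.ble lo (s &&& 127) = false by simpa [Bool.eq_false_iff] using hl,
          if_neg (fun e => hl e.1)]
        cases Nat.blt (s &&& 127) 56 <;> rfl
    rw [hrec] at h ⊢
    by_cases hc : lo ≤ (s &&& 127) ∧ (s &&& 127) < 56
    · rw [if_pos hc] at h ⊢
      obtain ⟨h1, h2, h3⟩ := supBits_spec n _ _ (by omega : supBits n ((s &&& 127) + 1) (s >>> 7) < _)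
      refine ⟨fun k hk => ?_, fun k l hkl hl => ?_, fun j => ?_⟩
      · cases k with
        | zero => rw [fld_zero]; exact hc
        | succ k => rw [fld_succ]; have := h1 k (by omega); omega
      · cases l with
        | zero => omega
        | succ l =>
          rw [fld_succ]
          cases k with
          | zero => rw [fld_zero]; have := h1 l (by omega); omega
          | succ k => rw [fld_succ]; exact h2 k l (by omega) (by omega)
      · have hlow : ∀ i < (s &&& 127) + 1,
            (supBits n ((s &&& 127) + 1) (s >>> 7)).testBit i = false := by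
          intro i hi
          by_contra hne
          obtain ⟨k, hk, e⟩ := (h3 i).1 (by simpa using hne)
          have := h1 k hk
          omega
        have hb : bit1 (s &&& 127) < 2 ^ ((s &&& 127) + 1) := by
          show 1 <<< (s &&& 127) < _
          rw [Nat.one_shiftLeft]
          exact Nat.pow_lt_pow_right (by norm_num) (by omega)
        rw [add_comm (bit1 _), add_high hlow hb, Nat.testBit_or, Bool.or_eq_true, h3, testBit_bit1]
        constructor
        · rintro (⟨k, hk, e⟩ | e)
          · exact ⟨k + 1, by omega, by rw [fld_succ, e]⟩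
          · exact ⟨0, by omega, by rw [fld_zero, e]⟩
        · rintro ⟨k, hk, e⟩
          cases k with
          | zero => exact Or.inr (by rw [← fld_zero, e])
          | succ k => exact Or.inl ⟨k, by omega, by rw [← fld_succ, e]⟩
    · rw [if_neg hc] at h
      omega

theorem fld_coords : ∀ n code k, k < n → fld (coords n code) k = fld code k % 56
  | 0, _, k, h => by omega
  | n + 1, code, k, h => by
    have e : coords (n + 1) code = (code &&& 127) % 56 + (coords n (code >>> 7)) <<< 1 * 64 := by
      change (code &&& 127) % 56 + (coords n (code >>> 7)) <<< 7 = _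
      rw [Nat.shiftLeft_eq, Nat.shiftLeft_eq]
      ring
    rw [e, Nat.shiftLeft_eq, pow_one]
    have hlt : (code &&& 127) % 56 < 128 := by omega
    cases k with
    | zero =>
      rw [fld_zero, fld_zero, show (127 : ℕ) = 2 ^ 7 - 1 by norm_num, Nat.and_two_pow_sub_one_eq_mod,
        Nat.and_two_pow_sub_one_eq_mod] at *
      omega
    | succ k =>
      rw [fld_succ, fld_succ, ← fld_coords n (code >>> 7) k (by omega)]
      congr 1
      rw [Nat.shiftRight_eq_div_pow]
      omega

theorem testBit_signs : ∀ n code k, k < n →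
    ((signs n code).testBit k = true ↔ 56 ≤ fld code k)
  | 0, _, k, h => by omega
  | n + 1, code, k, h => by
    have e : signs (n + 1) code =
        (if 56 ≤ (code &&& 127) then 1 else 0) + 2 * signs n (code >>> 7) := by
      change (Bool.rec 0 1 (Nat.ble 56 (code &&& 127)) : ℕ) + (signs n (code >>> 7)) <<< 1 = _
      rw [Nat.shiftLeft_eq, pow_one, mul_comm]
      by_cases h56 : 56 ≤ (code &&& 127)
      · rw [Nat.ble_eq_true_of_le h56, if_pos h56]
      · rw [show Nat.ble 56 (code &&& 127) = false by simpa [Bool.eq_false_iff] using h56, if_neg h56]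
    rw [e]
    cases k with
    | zero =>
      rw [fld_zero, Nat.testBit_zero, decide_eq_true_eq]
      split_ifs <;> omega
    | succ k =>
      rw [fld_succ, ← testBit_signs n _ k (by omega), Nat.testBit_succ]
      have : ((if 56 ≤ (code &&& 127) then 1 else 0) + 2 * signs n (code >>> 7)) / 2 =
          signs n (code >>> 7) := by split_ifs <;> omega
      rw [this]

theorem signs_lt : ∀ n code, signs n code < 2 ^ n
  | 0, _ => by simp [signs]
  | n + 1, code => by
    have := signs_lt n (code >>> 7)
    change (Bool.rec 0 1 (Nat.ble 56 (code &&& 127)) : ℕ) + (signs n (code >>> 7)) <<< 1 < _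
    rw [Nat.shiftLeft_eq, pow_one, pow_succ]
    cases Nat.ble 56 (code &&& 127) <;> simp <;> omega

/-! ### Sparse codes -/

/-- The coordinates of a code increase. -/
def Sparse (code : ℕ) : Prop :=
  okCode 16 code = true ∧ ∀ k l, k < l → l < 16 → fld code k % 56 < fld code l % 56

/-- The sign of a field. -/
def fsign (c : ℕ) : ℤ := if c < 56 then 1 else -1

theorem unitV_apply {c : ℕ} (hc : c < 112) (r : Fin 56) :
    unitV c r = if c % 56 = (r : ℕ) then fsign c else 0 := by
  have := r.2
  rw [unitV, fsign]
  rcases lt_or_ge c 56 with h | h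
  · rw [Nat.mod_eq_of_lt h, if_pos h, if_neg (by omega : ¬ c = (r : ℕ) + 56)]
  · rw [if_neg (by omega : ¬ c = (r : ℕ)), if_neg (by omega : ¬ c < 56),
      show c % 56 = c - 56 by omega]
    split_ifs <;> omega

theorem Sparse.inj {code : ℕ} (h : Sparse code) {k l : ℕ} (hk : k < 16) (hl : l < 16)
    (e : fld code k % 56 = fld code l % 56) : k = l := by
  rcases lt_trichotomy k l with hkl | hkl | hkl
  · exact absurd e (ne_of_lt (h.2 k l hkl hl))
  · exact hkl
  · exact absurd e.symm (ne_of_lt (h.2 l k hkl hk))

theorem Sparse.vec_fld {code : ℕ} (h : Sparse code) {k : ℕ} (hk : k < 16) :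
    vec code ⟨fld code k % 56, Nat.mod_lt _ (by norm_num)⟩ = fsign (fld code k) := by
  rw [vec, Finset.sum_apply, Finset.sum_eq_single k]
  · rw [unitV_apply (okCode_spec 16 code h.1 k hk)]; simp
  · intro l hl hne
    rw [unitV_apply (okCode_spec 16 code h.1 l (Finset.mem_range.1 hl)), if_neg]
    exact fun e => hne (h.inj (Finset.mem_range.1 hl) hk e)
  · intro hk'; exact absurd (Finset.mem_range.2 hk) hk'

theorem Sparse.vec_off {code : ℕ} (h : Sparse code) (r : Fin 56)
    (hr : ∀ k < 16, fld code k % 56 ≠ r) : vec code r = 0 := by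
  rw [vec, Finset.sum_apply]
  refine Finset.sum_eq_zero fun k hk => ?_
  rw [unitV_apply (okCode_spec 16 code h.1 k (Finset.mem_range.1 hk)), if_neg (hr k (Finset.mem_range.1 hk))]

theorem Sparse.abs_le_one {code : ℕ} (h : Sparse code) (r : Fin 56) : |vec code r| ≤ 1 := by
  by_cases hr : ∀ k < 16, fld code k % 56 ≠ r
  · rw [h.vec_off r hr]; simp
  · push_neg at hr
    obtain ⟨k, hk, e⟩ := hr
    rw [show r = ⟨fld code k % 56, Nat.mod_lt _ (by norm_num)⟩ from Fin.ext e.symm, h.vec_fld hk, fsign]
    split <;> norm_num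

theorem Sparse.norm {code : ℕ} (h : Sparse code) : dot (vec code) (vec code) = 16 := by
  have e : dot (vec code) (vec code) = ∑ k ∈ Finset.range 16, dot (unitV (fld code k)) (vec code) := by
    rw [dot]
    conv_lhs => arg 2; ext j; arg 1; rw [vec, Finset.sum_apply]
    simp only [Finset.sum_mul, dot]
    exact Finset.sum_comm
  rw [e, Finset.sum_congr rfl (g := fun _ => (1 : ℤ))]
  · simp
  · intro k hk
    have hk' := Finset.mem_range.1 hk
    rw [dot, Finset.sum_eq_single ⟨fld code k % 56, Nat.mod_lt _ (by norm_num)⟩]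
    · rw [unitV_apply (okCode_spec 16 code h.1 k hk'), if_pos rfl, h.vec_fld hk', fsign]
      split <;> norm_num
    · intro r _ hr
      rw [unitV_apply (okCode_spec 16 code h.1 k hk'), if_neg (fun e => hr (Fin.ext e.symm)), zero_mul]
    · simp

/-! ### The listed vectors -/

theorem el_key {i : ℕ} (h1 : 112 ≤ i) (h2 : i < 16240) :
    Sparse (el i) ∧ (i = 112 ∨ keyBits 16 (el (i - 1)) < keyBits 16 (el i)) := by
  have h := allBin_spec _ _ _ _ key_ok i h1 h2 (by norm_num; omega)
  have h' : (okCode 16 (el i) && (Nat.blt (supBits 16 0 (coords 16 (el i))) 72057594037927936 &&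
      (Nat.beq i 112 || Nat.blt (keyBits 16 (el (i - 1))) (keyBits 16 (el i))))) = true := by
    rw [← h]
    unfold keyOK
    change _ = (Bool.rec false (Bool.rec false (Bool.rec (Nat.blt (keyBits 16 (el (i - 1))) (keyBits 16 (el i)))
      true (Nat.beq i 112)) (Nat.blt (supBits 16 0 (coords 16 (el i))) 72057594037927936))
      (okCode 16 (el i)) : Bool)
    cases okCode 16 (el i) <;> cases Nat.blt (supBits 16 0 (coords 16 (el i))) 72057594037927936 <;>
      cases Nat.beq i 112 <;> rfl
  simp only [Bool.and_eq_true, Bool.or_eq_true, Nat.beq_eq, Nat.blt_eq] at h'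
  obtain ⟨hok, hs, hk⟩ := h'
  refine ⟨⟨hok, fun k l hkl hl => ?_⟩, hk⟩
  rw [← fld_coords 16 _ k (by omega), ← fld_coords 16 _ l hl]
  exact (supBits_spec 16 0 _ hs).2.1 k l hkl hl

theorem el_frame_ok : allBin 112 (fun i => okCode 16 (el i)) 7 0 = true := by decide +kernel

theorem frame_vec : ∀ i : Fin 112, ∀ j : Fin 56, vec (frameCode i) j =
    if (j : ℕ) = (i : ℕ) / 2 then (if (i : ℕ) % 2 = 0 then 4 else -4) else 0 := by
  decide +kernel

theorem sv_frame {i : ℕ} (h : i < 112) :
    sv i = Pi.single ⟨i / 2, by omega⟩ (if i % 2 = 0 then (4 : ℤ) else -4) := by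
  have hc := allBin_spec _ _ _ _ frame_code i (by omega) h (by omega)
  rw [Nat.beq_eq] at hc
  funext j
  rw [sv, hc, frame_vec ⟨i, h⟩ j]
  by_cases e : (j : ℕ) = i / 2
  · rw [if_pos e, show j = ⟨i / 2, by omega⟩ from Fin.ext e, Pi.single_eq_same]
  · rw [if_neg e, Pi.single_eq_of_ne (fun e' => e (by rw [e']))]

theorem el_okCode {i : ℕ} (h : i < 16240) : okCode 16 (el i) = true := by
  rcases lt_or_ge i 112 with h' | h'
  · exact allBin_spec _ _ _ _ el_frame_ok i (by omega) h' (by omega)
  · exact (el_key h' h).1.1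

theorem sv_abs {i : ℕ} (h : i < 16240) (r : Fin 56) : |sv i r| ≤ 4 := by
  rcases lt_or_ge i 112 with h' | h'
  · rw [sv_frame h']
    by_cases e : r = ⟨i / 2, by omega⟩
    · rw [e, Pi.single_eq_same]; split <;> norm_num
    · rw [Pi.single_eq_of_ne e]; norm_num
  · exact le_trans ((el_key h' h).1.abs_le_one r) (by norm_num)

theorem sv_norm {i : ℕ} (h : i < 16240) : dot (sv i) (sv i) = 16 := by
  rcases lt_or_ge i 112 with h' | h'
  · rw [sv_frame h', dot_single, Pi.single_eq_same]; split <;> norm_num
  · exact (el_key h' h).1.norm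

/-- The contribution of a coordinate to the key. -/
def keyTerm (j : ℕ) (v : ℤ) : ℕ :=
  if v = 1 then 2 ^ (56 + j) else if v = -1 then 2 ^ (56 + j) + 2 ^ j else 0

theorem keyBits_eq : ∀ n code,
    keyBits n code = ∑ k ∈ Finset.range n, keyTerm (fld code k % 56) (fsign (fld code k))
  | 0, _ => by simp [keyBits]
  | n + 1, code => by
    change bit1 (56 + (code &&& 127) % 56) +
      (Bool.rec 0 (bit1 ((code &&& 127) % 56)) (Nat.ble 56 (code &&& 127)) : ℕ) +
      keyBits n (code >>> 7) = _
    rw [Finset.sum_range_succ', keyBits_eq n, fld_zero, add_comm]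
    congr 1
    · exact Finset.sum_congr rfl fun k _ => by rw [fld_succ]
    · simp only [bit1, keyTerm, fsign]
      by_cases h : 56 ≤ (code &&& 127)
      · simp [Nat.ble_eq_true_of_le h, Nat.shiftLeft_eq]
        split_ifs <;> omega
      · simp [show Nat.ble 56 (code &&& 127) = false by simpa [Bool.eq_false_iff] using h,
          Nat.shiftLeft_eq, (by omega : (code &&& 127) < 56)]

theorem key_of_vec {code : ℕ} (h : Sparse code) :
    keyBits 16 code = ∑ j : Fin 56, keyTerm j (vec code j) := by
  classical
  rw [keyBits_eq]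
  let S : Finset (Fin 56) := (Finset.range 16).image fun k => ⟨fld code k % 56, Nat.mod_lt _ (by norm_num)⟩
  rw [← Finset.sum_subset (Finset.subset_univ S) fun r _ hr => by
    rw [h.vec_off r fun k hk e => hr (Finset.mem_image.2 ⟨k, Finset.mem_range.2 hk, Fin.ext e⟩)]
    simp [keyTerm]]
  rw [Finset.sum_image fun k hk l hl e => h.inj (Finset.mem_range.1 hk) (Finset.mem_range.1 hl)
    (congrArg Fin.val e)]
  refine Finset.sum_congr rfl fun k hk => ?_
  rw [h.vec_fld (Finset.mem_range.1 hk)]

theorem sv_inj {i j : ℕ} (hi : i < 16240) (hj : j < 16240) (e : sv i = sv j) : i = j := by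
  rcases lt_or_ge i 112 with hi' | hi' <;> rcases lt_or_ge j 112 with hj' | hj'
  · rw [sv_frame hi', sv_frame hj'] at e
    have h2 : i / 2 = j / 2 := by
      by_contra hne
      have := congrFun e ⟨i / 2, by omega⟩
      rw [Pi.single_eq_same, Pi.single_eq_of_ne (fun e' => hne (congrArg Fin.val e'))] at this
      split at this <;> norm_num at this
    have := congrFun e ⟨i / 2, by omega⟩
    simp only [h2, Pi.single_eq_same] at this
    split_ifs at this <;> omega
  · have h1 := (el_key hj' hj).1.abs_le_one ⟨i / 2, by omega⟩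
    rw [← sv, ← e, sv_frame hi', Pi.single_eq_same] at h1
    split at h1 <;> norm_num at h1
  · have h1 := (el_key hi' hi).1.abs_le_one ⟨j / 2, by omega⟩
    rw [← sv, e, sv_frame hj', Pi.single_eq_same] at h1
    split at h1 <;> norm_num at h1
  · have hmono : ∀ a, 112 ≤ a → ∀ b, a < b → b < 16240 → keyBits 16 (el a) < keyBits 16 (el b) := by
      intro a ha b
      induction b with
      | zero => omega
      | succ b ih =>
        intro hab hb
        have hstep := ((el_key (i := b + 1) (by omega) hb).2).resolve_left (by omega)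
        rw [Nat.add_sub_cancel] at hstep
        rcases Nat.lt_succ_iff_lt_or_eq.1 hab with h | h
        · exact lt_trans (ih h (by omega)) hstep
        · rwa [h]
    have ek : keyBits 16 (el i) = keyBits 16 (el j) := by
      rw [key_of_vec (el_key hi' hi).1, key_of_vec (el_key hj' hj).1, ← sv, ← sv, e]
    rcases lt_trichotomy i j with h | h | h
    · have := hmono i hi' j h hj; omega
    · exact h
    · have := hmono j hj' i h hi; omega

end CfsgLib.RuGroup
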