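import Cfsg.Agent.Lib.RuGroup.Order

/-!
The centre of the automorphism group of the lattice is the group of scalars, and the quotient is simple.
-/

set_option autoImplicit false
set_option maxRecDepth 100000

namespace CfsgLib.RuGroup

open CfsgLib.PresCert CfsgLib.LocalEven.RuRootless Cfsg.Spor

attribute [local irreducible] colW app el idT profT classBits vecT lane pkN sv vec profOf singleP

instance instPretrans : MulAction.IsPretransitive fourRu (Fin 16240) :=
  (MulAction.isPretransitive_iff_base (0 : Fin 16240)).2 fun v => by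
    obtain ⟨f, -, hf⟩ := top_transitive v
    exact ⟨f, hf⟩

/-! ### The line of the first point -/

theorem rotX_single_zero :
    rotX (Pi.single (0 : Fin 56) (4 : ℤ)) = Pi.single (1 : Fin 56) (4 : ℤ) := by
  funext r
  by_cases h : (r : ℕ) % 2 = 0
  · rw [rotX_even h, Pi.single_eq_of_ne (fun e => by rw [Fin.ext_iff] at e; simp at e),
      Pi.single_eq_of_ne (fun e => by rw [Fin.ext_iff] at e; simp at e; omega), neg_zero]
  · rw [rotX_odd (by omega)]
    by_cases h1 : r = 1
    · subst h1; rfl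
    · rw [Pi.single_eq_of_ne h1, Pi.single_eq_of_ne]
      intro e
      rw [Fin.ext_iff] at e
      simp at e
      exact h1 (Fin.ext (by show (r : ℕ) = 1; omega))

theorem rotX_single_one :
    rotX (Pi.single (1 : Fin 56) (4 : ℤ)) = Pi.single (0 : Fin 56) (-4 : ℤ) := by
  rw [← rotX_single_zero, rotX_rotX, ← Pi.single_neg]

theorem sv_0 : sv 0 = Pi.single (0 : Fin 56) (4 : ℤ) := by rw [sv_frame (by norm_num)]; rfl
theorem sv_1 : sv 1 = Pi.single (0 : Fin 56) (-4 : ℤ) := by rw [sv_frame (by norm_num)]; rfl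
theorem sv_2 : sv 2 = Pi.single (1 : Fin 56) (4 : ℤ) := by rw [sv_frame (by norm_num)]; rfl
theorem sv_3 : sv 3 = Pi.single (1 : Fin 56) (-4 : ℤ) := by rw [sv_frame (by norm_num)]; rfl

theorem rotG_smul_eq {a b : Fin 16240} (h : rotX (sv a) = sv b) : rotG • a = b :=
  pv_inj (by rw [← smul_spec, endoOf_rotG]; exact Subtype.ext h)

theorem rot_pow_zero : ∀ k : Fin 4, rotG ^ (k : ℕ) • (0 : Fin 16240) = (![0, 2, 1, 3] k : Fin 16240) := by
  have h0 : rotG • (0 : Fin 16240) = 2 := rotG_smul_eq (by
    show rotX (sv 0) = sv 2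
    rw [sv_0, sv_2, rotX_single_zero])
  have h2 : rotG • (2 : Fin 16240) = 1 := rotG_smul_eq (by
    show rotX (sv 2) = sv 1
    rw [sv_2, sv_1, rotX_single_one])
  have h1 : rotG • (1 : Fin 16240) = 3 := rotG_smul_eq (by
    show rotX (sv 1) = sv 3
    rw [sv_1, sv_3, Pi.single_neg, map_neg, rotX_single_zero, ← Pi.single_neg])
  intro k
  fin_cases k
  · simp
  · simpa using h0
  · show rotG ^ 2 • (0 : Fin 16240) = 1
    rw [pow_two, mul_smul, h0, h2]
  · show rotG ^ 3 • (0 : Fin 16240) = 3
    rw [pow_succ', mul_smul, pow_two, mul_smul, h0, h2, h1]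

theorem rotG_pow_four : rotG ^ 4 = 1 := by
  refine endoOf_inj fun x => Subtype.ext ?_
  rw [endoOf_rot_pow, endoOf_one]
  show rotX (rotX (rotX (rotX x.1))) = x.1
  rw [rotX_rotX, rotX_rotX, neg_neg]

theorem orderOf_rotG : orderOf rotG = 4 := by
  rw [orderOf_eq_iff (by norm_num)]
  refine ⟨rotG_pow_four, fun m hm hm0 h => ?_⟩
  have h1 := rot_pow_zero ⟨m, hm⟩
  rw [h, one_smul] at h1
  interval_cases m <;> simp [Fin.ext_iff] at h1

/-- The scalars. -/
noncomputable def scalars : Subgroup fourRu := Subgroup.zpowers rotG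

theorem card_scalars : Nat.card scalars = 4 := by
  rw [scalars, Nat.card_zpowers, orderOf_rotG]

theorem rot_pow_mem (k : ℕ) : rotG ^ k ∈ scalars := pow_mem (Subgroup.mem_zpowers _) _

theorem scalars_le : scalars ≤ Subgroup.center fourRu := by
  rw [scalars, Subgroup.zpowers_le, Subgroup.mem_center_iff]
  exact rotG_central

theorem rot_pow_smul_comm (k : ℕ) (f : fourRu) (v : Fin 16240) :
    f • rotG ^ k • v = rotG ^ k • f • v := by
  rw [← mul_smul, ← mul_smul, Subgroup.mem_center_iff.1 (scalars_le (rot_pow_mem k)) f]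

/-! ### Profiles against the first line -/

theorem first_profile : allBin 16240 (fun i => (fun p =>
    (Nat.beq p (64 + 256 * 64) || Nat.beq p (68 + 256 * 64) || Nat.beq p (60 + 256 * 64) ||
      Nat.beq p (64 + 256 * 68) || Nat.beq p (64 + 256 * 60) || Nat.blt i 4))
      (Nat.land (profOf i) 65535)) 14 0 = true := by
  decide +kernel

theorem root_pdot : (Nat.land (profOf 112) 65535 = 64 + 256 * 60) ∧
    (Nat.land (profOf 4) 65535 = 64 + 256 * 64) := by
  decide +kernel

theorem pdot_two {v : ℕ} (hv : v < 16240) : (Nat.land (profOf v) 65535 : ℤ) =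
    (pdot v 0 + 64) + 256 * (pdot v 1 + 64) ∧ |pdot v 0| ≤ 64 ∧ |pdot v 1| ≤ 64 := by
  obtain ⟨e, b⟩ := profOf_spec hv
  refine ⟨?_, b 0 (by norm_num), b 1 (by norm_num)⟩
  have hlt : ∀ r < 10, (pdot v r + 64).toNat < 256 := fun r hr => by
    have := abs_le.1 (b r hr); omega
  have h2 : Nat.land (profOf v) 65535 = pkN 256 2 (fun r => (pdot v r + 64).toNat) := by
    show profOf v &&& 65535 = _
    rw [show (65535 : ℕ) = 2 ^ 16 - 1 by norm_num, Nat.and_two_pow_sub_one_eq_mod,
      show (2 : ℕ) ^ 16 = 256 ^ 2 by norm_num, e, pkN_mod 256 2 10 _ (by norm_num) hlt]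
  have h3 : pkN 256 2 (fun r => (pdot v r + 64).toNat) =
      (pdot v 0 + 64).toNat + 256 * (pdot v 1 + 64).toNat := by
    rw [pkN_succ, pkN_succ]
    simp [pkN]
  rw [h2, h3]
  have := abs_le.1 (b 0 (by norm_num))
  have := abs_le.1 (b 1 (by norm_num))
  push_cast
  rw [Int.toNat_of_nonneg (by omega), Int.toNat_of_nonneg (by omega)]

theorem pdot_first (v : Fin 16240) : (pdot v 0, pdot v 1) ∈
      ({(0, 0), (4, 0), (-4, 0), (0, 4), (0, -4)} : Set (ℤ × ℤ)) ∨ (v : ℕ) < 4 := by
  have h := allBin_spec _ _ _ _ first_profile v (Nat.zero_le _) v.2 (by omega)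
  simp only [Bool.or_eq_true, Nat.beq_eq, Nat.blt_eq] at h
  obtain ⟨e, b0, b1⟩ := pdot_two v.2
  have := abs_le.1 b0
  have := abs_le.1 b1
  simp only [Set.mem_insert_iff, Set.mem_singleton_iff, Prod.mk.injEq]
  omega

theorem pdot_rot_step (v : Fin 16240) (b : Fin 5) :
    pdot (rotG • v : Fin 16240) (2 * (b : ℕ)) = -pdot v (2 * (b : ℕ) + 1) ∧
      pdot (rotG • v : Fin 16240) (2 * (b : ℕ) + 1) = pdot v (2 * (b : ℕ)) := by
  have hs : sv (rotG • v : Fin 16240) = rotX (sv v) := by
    have h := congrArg Subtype.val (smul_spec rotG v)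
    rw [endoOf_rotG] at h
    exact h.symm
  have e0 : sv (profVec (2 * (b : ℕ))) = sv (baseL.getD b 0) := by
    congr 1
    fin_cases b <;> rfl
  have e1 : sv (profVec (2 * (b : ℕ) + 1)) = rotX (sv (baseL.getD b 0)) := by
    rw [← sv_baseI]
    congr 1
    fin_cases b <;> rfl
  refine ⟨?_, ?_⟩
  · unfold pdot
    rw [hs, e0, e1]
    have h := dot_rotX (sv v) (rotX (sv (baseL.getD b 0)))
    rw [rotX_rotX] at h
    rw [← h]
    simp [dot, Finset.sum_neg_distrib]
  · unfold pdot
    rw [hs, e0, e1, dot_rotX]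

theorem exists_rot (v : Fin 16240) : ∃ k : ℕ, rotG ^ k • v = 0 ∨ rotG ^ k • v ∈ slotClass 0 ∨
    rotG ^ k • v ∈ slotClass 4 := by
  obtain ⟨e, b0, b1⟩ := pdot_two (show 112 < 16240 by norm_num)
  obtain ⟨e', b0', b1'⟩ := pdot_two (show 4 < 16240 by norm_num)
  rw [root_pdot.1] at e
  rw [root_pdot.2] at e'
  rw [abs_le] at b0 b1 b0' b1'
  push_cast at e e'
  have m0 : ∀ w : Fin 16240, pdot w 0 = 0 → pdot w 1 = -4 → w ∈ slotClass 0 := by
    intro w h0 h1 r hr
    have : r = 0 ∨ r = 1 := by simp [classLen] at hr; omega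
    rcases this with rfl | rfl
    · show pdot w 0 = pdot 112 0; omega
    · show pdot w 1 = pdot 112 1; omega
  have m4 : ∀ w : Fin 16240, pdot w 0 = 0 → pdot w 1 = 0 → w ∈ slotClass 4 := by
    intro w h0 h1 r hr
    have : r = 0 ∨ r = 1 := by simp [classLen] at hr; omega
    rcases this with rfl | rfl
    · show pdot w 0 = pdot 4 0; omega
    · show pdot w 1 = pdot 4 1; omega
  have s1 : ∀ w : Fin 16240, pdot (rotG • w : Fin 16240) 0 = -pdot w 1 ∧
      pdot (rotG • w : Fin 16240) 1 = pdot w 0 := fun w => pdot_rot_step w 0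
  rcases pdot_first v with h | h
  · simp only [Set.mem_insert_iff, Set.mem_singleton_iff, Prod.mk.injEq] at h
    rcases h with ⟨h0, h1⟩ | ⟨h0, h1⟩ | ⟨h0, h1⟩ | ⟨h0, h1⟩ | ⟨h0, h1⟩
    · exact ⟨0, Or.inr (Or.inr (by rw [pow_zero, one_smul]; exact m4 v h0 h1))⟩
    · refine ⟨3, Or.inr (Or.inl ?_)⟩
      rw [show rotG ^ 3 = rotG * (rotG * rotG) by rw [pow_succ', pow_two], mul_smul, mul_smul]
      refine m0 _ ?_ ?_
      · rw [(s1 _).1, (s1 _).2, (s1 _).1, h1]; simp
      · rw [(s1 _).2, (s1 _).1, (s1 _).2, h0]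
    · refine ⟨1, Or.inr (Or.inl ?_)⟩
      rw [pow_one]
      exact m0 _ (by rw [(s1 _).1, h1]; simp) (by rw [(s1 _).2, h0])
    · refine ⟨2, Or.inr (Or.inl ?_)⟩
      rw [pow_two, mul_smul]
      exact m0 _ (by rw [(s1 _).1, (s1 _).2, h0]; simp) (by rw [(s1 _).2, (s1 _).1, h1])
    · exact ⟨0, Or.inr (Or.inl (by rw [pow_zero, one_smul]; exact m0 v h0 h1))⟩
  · have hv : v = 0 ∨ v = 1 ∨ v = 2 ∨ v = 3 := by
      rcases (show (v : ℕ) = 0 ∨ (v : ℕ) = 1 ∨ (v : ℕ) = 2 ∨ (v : ℕ) = 3 by omega) with h | h | h | h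
      · exact Or.inl (Fin.ext h)
      · exact Or.inr (Or.inl (Fin.ext h))
      · exact Or.inr (Or.inr (Or.inl (Fin.ext h)))
      · exact Or.inr (Or.inr (Or.inr (Fin.ext h)))
    have back : ∀ k : Fin 4, ∃ j : ℕ, rotG ^ j • rotG ^ (k : ℕ) • (0 : Fin 16240) = 0 := fun k =>
      ⟨4 - k, by rw [← mul_smul, ← pow_add, show 4 - (k : ℕ) + k = 4 by omega, rotG_pow_four, one_smul]⟩
    rcases hv with rfl | rfl | rfl | rfl
    · exact ⟨0, Or.inl (by rw [pow_zero, one_smul])⟩
    · obtain ⟨j, hj⟩ := back 2; rw [rot_pow_zero] at hj; exact ⟨j, Or.inl hj⟩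
    · obtain ⟨j, hj⟩ := back 1; rw [rot_pow_zero] at hj; exact ⟨j, Or.inl hj⟩
    · obtain ⟨j, hj⟩ := back 3; rw [rot_pow_zero] at hj; exact ⟨j, Or.inl hj⟩

theorem slot_gens_zero : (5 - slotGens 0 = 1) ∧ (5 - slotGens 4 = 1) := by decide

theorem slot_connected (s : Fin 5) {v w : Fin 16240} (hv : v ∈ slotClass s) (hw : w ∈ slotClass s) :
    ∃ f ∈ baseFix (5 - slotGens s), f • v = w := by
  obtain ⟨i, hi, he⟩ := (slot_mem v.2).1 hv
  obtain ⟨j, hj, he'⟩ := (slot_mem w.2).1 hw
  obtain ⟨f, hf, hfe⟩ := slot_reach s hi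
  obtain ⟨g, hg, hge⟩ := slot_reach s hj
  refine ⟨g * f⁻¹, mul_mem hg.2 (inv_mem hf.2), ?_⟩
  rw [mul_smul, show v = f • slotRoot s from (hfe.trans (Fin.ext he)).symm, inv_smul_smul, hge]
  exact Fin.ext he'

/-- A point fixed by the stabiliser of the first point is on its line. -/
theorem fixed_on_line {v : Fin 16240} (h : ∀ f ∈ baseFix 1, f • v = v) :
    ∃ m : ℕ, v = rotG ^ m • (0 : Fin 16240) := by
  obtain ⟨k, hk⟩ := exists_rot v
  have hnot : ∀ s : Fin 5, 5 - slotGens s = 1 → 1 < slotSize s → rotG ^ k • v ∉ slotClass s := by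
    intro s hs hsz hmem
    have hsub : slotClass s ⊆ {rotG ^ k • v} := fun w hw => by
      obtain ⟨f, hf, hfe⟩ := slot_connected s hmem hw
      rw [hs] at hf
      rw [Set.mem_singleton_iff, ← hfe, rot_pow_smul_comm, h f hf]
    have := Set.ncard_le_ncard hsub
    rw [ncard_slotClass, Set.ncard_singleton] at this
    omega
  rcases hk with hk | hk | hk
  · refine ⟨(orderOf rotG - 1) * k, ?_⟩
    rw [← hk, ← mul_smul, ← pow_add, orderOf_rotG, show (4 - 1) * k + k = 4 * k by ring, pow_mul,
      rotG_pow_four, one_pow, one_smul]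
  · exact absurd hk (hnot 0 slot_gens_zero.1 (by decide))
  · exact absurd hk (hnot 4 slot_gens_zero.2 (by decide))

theorem eq_one_of_central_fix {z : fourRu} (hz : z ∈ Subgroup.center fourRu)
    (h0 : z • (0 : Fin 16240) = 0) : z = 1 := by
  refine eq_one_of_fix fun b => ?_
  obtain ⟨f, -, hf⟩ := top_transitive (basePt b)
  rw [← hf, ← mul_smul, ← Subgroup.mem_center_iff.1 hz f, mul_smul, h0]

theorem center_eq : Subgroup.center fourRu = scalars := by
  refine le_antisymm (fun z hz => ?_) scalars_le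
  obtain ⟨m, hm⟩ := fixed_on_line (v := z • (0 : Fin 16240)) fun f hf => by
    rw [← mul_smul, Subgroup.mem_center_iff.1 hz f, mul_smul]
    exact congrArg (z • ·) (hf 0 (by norm_num))
  have h1 : (rotG ^ m)⁻¹ * z ∈ Subgroup.center fourRu :=
    mul_mem (inv_mem (scalars_le (rot_pow_mem m))) hz
  have h2 := eq_one_of_central_fix h1 (by rw [mul_smul, hm, inv_smul_smul])
  rw [inv_mul_eq_one] at h2
  exact h2 ▸ rot_pow_mem m

theorem card_center : Nat.card (Subgroup.center fourRu) = 4 := by rw [center_eq, card_scalars]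

theorem card_Ru : Nat.card Ru = 145926144000 := by
  have h := Subgroup.card_eq_card_quotient_mul_card_subgroup (Subgroup.center fourRu)
  rw [card_fourRu, card_center] at h
  have h' : Nat.card Ru = Nat.card (fourRu ⧸ Subgroup.center fourRu) := rfl
  omega

/-! ### Simplicity -/

theorem base_links : (Nat.land (profOf 112) 65535 ≠ 64 + 256 * 64) ∧
    (Nat.land (profOf 144) 65535 ≠ 64 + 256 * 64) ∧
    (Nat.land (profOf 7745) 65535 ≠ 64 + 256 * 64) ∧
    (Nat.land (Nat.shiftRight (profOf 48) 16) 65535 ≠ 64 + 256 * 64) := by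
  decide +kernel

theorem eq_one_of_fix_lines {f : fourRu} (h0 : f • (0 : Fin 16240) = 0)
    (hl : ∀ v : Fin 16240, ∃ k : ℕ, f • v = rotG ^ k • v) : f = 1 := by
  have main : ∀ b b' : Fin 5, f • basePt b = basePt b →
      (pdot (basePt b') (2 * (b : ℕ)) ≠ 0 ∨ pdot (basePt b') (2 * (b : ℕ) + 1) ≠ 0) →
      f • basePt b' = basePt b' := by
    intro b b' hb hne
    obtain ⟨k, hk⟩ := hl (basePt b')
    have hkeep : ∀ r, r / 2 = (b : ℕ) → pdot (f • basePt b' : Fin 16240) r = pdot (basePt b') r := by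
      intro r hr
      obtain ⟨hv, hlt⟩ := profVec_vals ⟨r, by omega⟩
      simp only at hv hlt
      have hb' : endoOf f (pv (basePt b)) = pv (basePt b) := by rw [smul_spec, hb]
      have hfix : (endoOf f ⟨sv (profVec r), sv_mem hlt⟩ : X) = sv (profVec r) := by
        by_cases he : r % 2 = 0
        · have e : profVec r = (basePt b : ℕ) := by
            rw [hv, basePt_eq, ← hr]
            have hr10 : r < 10 := by omega
            interval_cases r <;> first | rfl | omega
          have hb'' := congrArg Subtype.val hb'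
          simp only [e]
          exact hb''
        · have e : sv (profVec r) = rotX (sv (basePt b : ℕ)) := by
            rw [basePt_eq, ← sv_baseI, hv, ← hr]
            have hr10 : r < 10 := by omega
            interval_cases r <;> first | rfl | omega
          have h2 := (endoOf_isEndo f).comm (pv (basePt b))
          rw [hb'] at h2
          simp only [e]
          exact h2
      unfold pdot
      conv_lhs => rw [← hfix]
      rw [show sv (f • basePt b' : Fin 16240) = (endoOf f (pv (basePt b')) : X) by rw [smul_spec]; rfl]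
      exact (endoOf_isEndo f).pres _ _
    have h1 := hkeep (2 * (b : ℕ)) (by omega)
    have h2 := hkeep (2 * (b : ℕ) + 1) (by omega)
    rw [hk] at h1 h2 ⊢
    have hk4 : rotG ^ k = rotG ^ (k % 4) := by
      conv_lhs => rw [← Nat.div_add_mod k 4, pow_add, pow_mul, rotG_pow_four, one_pow, one_mul]
    rw [hk4] at h1 h2 ⊢
    rcases (show k % 4 = 0 ∨ k % 4 = 1 ∨ k % 4 = 2 ∨ k % 4 = 3 by omega) with e | e | e | e <;>
      rw [e] at h1 h2 ⊢
    · rw [pow_zero, one_smul]
    · rw [pow_one] at h1 h2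
      rw [(pdot_rot_step _ b).1] at h1
      rw [(pdot_rot_step _ b).2] at h2
      omega
    · rw [pow_two, mul_smul] at h1 h2
      rw [(pdot_rot_step _ b).1, (pdot_rot_step _ b).2] at h1
      rw [(pdot_rot_step _ b).2, (pdot_rot_step _ b).1] at h2
      omega
    · rw [pow_succ', mul_smul, pow_two, mul_smul] at h1 h2
      rw [(pdot_rot_step _ b).1, (pdot_rot_step _ b).2, (pdot_rot_step _ b).1] at h1
      rw [(pdot_rot_step _ b).2, (pdot_rot_step _ b).1, (pdot_rot_step _ b).2] at h2
      omega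
  have hb0 : f • basePt 0 = basePt 0 := h0
  have first : ∀ b' : Fin 5, Nat.land (profOf (basePt b')) 65535 ≠ 64 + 256 * 64 →
      f • basePt b' = basePt b' := fun b' hne => main 0 b' hb0 (by
    obtain ⟨e, -, -⟩ := pdot_two (basePt b').2
    show pdot (basePt b') 0 ≠ 0 ∨ pdot (basePt b') 1 ≠ 0
    omega)
  have hb1 : f • basePt 1 = basePt 1 := first 1 base_links.1
  have hb2 : f • basePt 2 = basePt 2 := first 2 base_links.2.1
  have hb4 : f • basePt 4 = basePt 4 := first 4 base_links.2.2.1
  have hb3 : f • basePt 3 = basePt 3 := main 1 3 hb1 (by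
    obtain ⟨e, b⟩ := profOf_spec (show 48 < 16240 by norm_num)
    show pdot 48 2 ≠ 0 ∨ pdot 48 3 ≠ 0
    by_contra hc
    push Not at hc
    refine base_links.2.2.2 ?_
    have hlt : ∀ r < 10, (pdot 48 r + 64).toNat < 256 := fun r hr => by
      have := abs_le.1 (b r hr); omega
    show (profOf 48 >>> 16) &&& 65535 = _
    rw [show (65535 : ℕ) = 2 ^ 16 - 1 by norm_num, Nat.and_two_pow_sub_one_eq_mod,
      Nat.shiftRight_eq_div_pow]
    have d2 := pkN_digit 256 10 _ hlt 2 (by norm_num)
    have d3 := pkN_digit 256 10 _ hlt 3 (by norm_num)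
    rw [← e] at d2 d3
    simp only [hc.1, hc.2] at d2 d3
    norm_num at d2 d3 ⊢
    omega)
  exact eq_one_of_fix fun b => by fin_cases b <;> assumption

theorem normal_of_ge {N : Subgroup fourRu} [hN : N.Normal] (hZ : scalars ≤ N) :
    N = scalars ∨ N = ⊤ := by
  classical
  let O : Set (Fin 16240) := MulAction.orbit N (0 : Fin 16240)
  have hinv : ∀ f ∈ baseFix 1, ∀ v ∈ O, f • v ∈ O := by
    rintro f hf _ ⟨⟨n, hn⟩, rfl⟩
    refine ⟨⟨f * n * f⁻¹, hN.conj_mem n hn f⟩, ?_⟩
    show (f * n * f⁻¹) • (0 : Fin 16240) = f • n • (0 : Fin 16240)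
    have hf0 : f • (0 : Fin 16240) = 0 := hf 0 (by norm_num)
    rw [mul_smul, mul_smul, inv_smul_eq_iff.2 hf0.symm]
  have hrot : ∀ k : ℕ, ∀ v ∈ O, rotG ^ k • v ∈ O := by
    rintro k _ ⟨⟨n, hn⟩, rfl⟩
    exact ⟨⟨rotG ^ k * n, mul_mem (hZ (rot_pow_mem k)) hn⟩, mul_smul (rotG ^ k) n (0 : Fin 16240)⟩
  have h0 : (0 : Fin 16240) ∈ O := MulAction.mem_orbit_self _
  have hback : ∀ (k : ℕ) (v : Fin 16240), rotG ^ k • v ∈ O → v ∈ O := fun k v hv => by
    have := hrot (3 * k) _ hv
    rwa [← mul_smul, ← pow_add, show 3 * k + k = 4 * k by ring, pow_mul, rotG_pow_four, one_pow,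
      one_smul] at this
  have hclass : ∀ s : Fin 5, 5 - slotGens s = 1 → ∀ v ∈ slotClass s, v ∈ O →
      slotClass s ⊆ O := fun s hs v hv hvO w hw => by
    obtain ⟨f, hf, hfe⟩ := slot_connected s hv hw
    rw [hs] at hf
    exact hfe ▸ hinv f hf v hvO
  have hdvd : O.ncard ∣ 16240 := by
    have := (MulAction.IsBlock.orbit_of_normal (G := fourRu) (N := N) (0 : Fin 16240)).ncard_dvd_card
      ⟨0, h0⟩
    rwa [Nat.card_fin] at this
  let L : Finset (Fin 16240) := (Finset.range 4).image fun k => rotG ^ k • (0 : Fin 16240)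
  have hline : ∀ v : Fin 16240, ∀ k : ℕ, rotG ^ k • v = 0 → v ∈ (L : Set (Fin 16240)) := by
    intro v k hk
    refine Finset.mem_image.2 ⟨(3 * k) % 4, Finset.mem_range.2 (Nat.mod_lt _ (by norm_num)), ?_⟩
    rw [← hk, ← mul_smul, ← pow_add]
    have : rotG ^ ((3 * k) % 4 + k) = 1 := by
      rw [show (3 * k) % 4 + k = 4 * (((3 * k) % 4 + k) / 4) by omega, pow_mul, rotG_pow_four, one_pow]
    rw [this, one_smul]
  have hL : (L : Set (Fin 16240)).ncard ≤ 4 := by
    rw [Set.ncard_coe_finset]
    exact Finset.card_image_le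
  have hLO : (L : Set (Fin 16240)) ⊆ O := fun v hv => by
    obtain ⟨k, -, rfl⟩ := Finset.mem_image.1 hv
    exact hrot k _ h0
  by_cases c0 : ∃ v ∈ slotClass 0, v ∈ O
  · obtain ⟨v, hv, hvO⟩ := c0
    have hA := hclass 0 slot_gens_zero.1 v hv hvO
    by_cases c4 : ∃ v ∈ slotClass 4, v ∈ O
    · obtain ⟨w, hw, hwO⟩ := c4
      have hB := hclass 4 slot_gens_zero.2 w hw hwO
      refine Or.inr ?_
      have huniv : O = Set.univ := Set.eq_univ_of_forall fun u => by
        obtain ⟨k, hk | hk | hk⟩ := exists_rot u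
        · exact hback k u (hk ▸ h0)
        · exact hback k u (hA hk)
        · exact hback k u (hB hk)
      have htr : ∀ f : fourRu, ∃ n ∈ N, n⁻¹ * f ∈ baseFix 1 := fun f => by
        have : f • (0 : Fin 16240) ∈ O := huniv ▸ Set.mem_univ _
        obtain ⟨⟨n, hn⟩, he⟩ := this
        refine ⟨n, hn, fun b hb => ?_⟩
        rw [show b = 0 from Fin.ext (Nat.lt_one_iff.1 hb)]
        show (n⁻¹ * f) • (0 : Fin 16240) = 0
        rw [mul_smul, inv_smul_eq_iff]
        exact he.symm
      let φ : baseFix 1 →* fourRu ⧸ N := (QuotientGroup.mk' N).comp (baseFix 1).subtype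
      have hφ : Function.Surjective φ := fun q => by
        obtain ⟨f, rfl⟩ := QuotientGroup.mk'_surjective N q
        obtain ⟨n, hn, hfix⟩ := htr f
        refine ⟨⟨_, hfix⟩, ?_⟩
        show QuotientGroup.mk' N (n⁻¹ * f) = QuotientGroup.mk' N f
        rw [map_mul, map_inv, show QuotientGroup.mk' N n = 1 from (QuotientGroup.eq_one_iff n).2 hn,
          inv_one, one_mul]
      have hq : Nat.card (fourRu ⧸ N) ∣ 35942400 := by
        have hc : Nat.card (baseFix 1) = 35942400 := by
          have e := card_step (k := 0) (by norm_num)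
          have horb : MulAction.orbit (baseFix 0) (basePt ⟨0, by norm_num⟩) = Set.univ := by
            refine Set.eq_univ_of_forall fun v => ?_
            obtain ⟨f, -, hf⟩ := top_transitive v
            exact ⟨⟨f, by rw [baseFix_zero]; trivial⟩, hf⟩
          rw [horb, Set.ncard_univ, Nat.card_fin, baseFix_zero,
            Nat.card_congr Subgroup.topEquiv.toEquiv, card_fourRu, zero_add] at e
          omega
        exact hc ▸ Subgroup.card_dvd_of_surjective φ hφ
      have hu : ∀ g, uG g ∈ N := fun g => by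
        rw [← QuotientGroup.eq_one_iff]
        refine orderOf_eq_one_iff.1 (Nat.dvd_one.1 ?_)
        have h29 : orderOf (uG g : fourRu ⧸ N) ∣ 29 :=
          orderOf_dvd_of_pow_eq_one (by rw [← QuotientGroup.mk_pow, uG_pow, QuotientGroup.mk_one])
        have := Nat.dvd_gcd h29 ((orderOf_dvd_natCard _).trans hq)
        rwa [show Nat.gcd 29 35942400 = 1 by norm_num] at this
      refine eq_top_iff.2 (le_trans (fun f _ => mem_genGrp f) ((Subgroup.closure_le _).2 ?_))
      rintro f (⟨g, rfl⟩ | rfl)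
      · exact hu g
      · exact hZ (Subgroup.mem_zpowers _)
    · exfalso
      push Not at c4
      have hsub : O = (slotClass 4)ᶜ := by
        ext u
        refine ⟨fun hu hc => c4 u hc hu, fun hu => ?_⟩
        obtain ⟨k, hk | hk | hk⟩ := exists_rot u
        · exact hback k u (hk ▸ h0)
        · exact hback k u (hA hk)
        · refine absurd ?_ hu
          intro r hr
          have hk' := hk r hr
          obtain ⟨e', b0', b1'⟩ := pdot_two (show 4 < 16240 by norm_num)
          rw [root_pdot.2] at e'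
          rw [abs_le] at b0' b1'
          push_cast at e'
          have z0 : pdot (classRoot 4) 0 = 0 ∧ pdot (classRoot 4) 1 = 0 := by
            show pdot 4 0 = 0 ∧ pdot 4 1 = 0
            omega
          have step : ∀ (j : ℕ) (w : Fin 16240), pdot (rotG ^ j • w : Fin 16240) 0 = 0 →
              pdot (rotG ^ j • w : Fin 16240) 1 = 0 → pdot w 0 = 0 ∧ pdot w 1 = 0 := by
            intro j
            induction j with
            | zero => intro w a b; rw [pow_zero, one_smul] at a b; exact ⟨a, b⟩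
            | succ j ih =>
              intro w a b
              rw [pow_succ, mul_smul] at a b
              obtain ⟨a', b'⟩ := ih _ a b
              have h1 := (pdot_rot_step w 0).1
              have h2 := (pdot_rot_step w 0).2
              simp only [Fin.val_zero, Nat.mul_zero, zero_add] at h1 h2
              omega
          obtain ⟨a, b⟩ := step k u
            ((hk 0 (by decide)).trans z0.1) ((hk 1 (by decide)).trans z0.2)
          have : r = 0 ∨ r = 1 := by simp [classLen] at hr; omega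
          rcases this with rfl | rfl
          · exact a.trans z0.1.symm
          · exact b.trans z0.2.symm
      have hc := Set.ncard_add_ncard_compl (slotClass 4)
      rw [← hsub, ncard_slotClass, Nat.card_fin] at hc
      rw [show O.ncard = 9220 by simp [slotSize] at hc ⊢; omega] at hdvd
      norm_num at hdvd
  · push Not at c0
    by_cases c4 : ∃ v ∈ slotClass 4, v ∈ O
    · exfalso
      obtain ⟨w, hw, hwO⟩ := c4
      have hB := hclass 4 slot_gens_zero.2 w hw hwO
      have hsub : O ⊆ (L : Set (Fin 16240)) ∪ slotClass 4 := fun u hu => by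
        obtain ⟨k, hk | hk | hk⟩ := exists_rot u
        · exact Or.inl (hline u k hk)
        · exact absurd (hrot k u hu) (c0 _ hk)
        · right
          intro r hr
          obtain ⟨e', b0', b1'⟩ := pdot_two (show 4 < 16240 by norm_num)
          rw [root_pdot.2] at e'
          rw [abs_le] at b0' b1'
          push_cast at e'
          have z0 : pdot (classRoot 4) 0 = 0 ∧ pdot (classRoot 4) 1 = 0 := by
            show pdot 4 0 = 0 ∧ pdot 4 1 = 0
            omega
          have step : ∀ (j : ℕ) (w : Fin 16240), pdot (rotG ^ j • w : Fin 16240) 0 = 0 →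
              pdot (rotG ^ j • w : Fin 16240) 1 = 0 → pdot w 0 = 0 ∧ pdot w 1 = 0 := by
            intro j
            induction j with
            | zero => intro w a b; rw [pow_zero, one_smul] at a b; exact ⟨a, b⟩
            | succ j ih =>
              intro w a b
              rw [pow_succ, mul_smul] at a b
              obtain ⟨a', b'⟩ := ih _ a b
              have h1 := (pdot_rot_step w 0).1
              have h2 := (pdot_rot_step w 0).2
              simp only [Fin.val_zero, Nat.mul_zero, zero_add] at h1 h2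
              omega
          obtain ⟨a, b⟩ := step k u
            ((hk 0 (by decide)).trans z0.1) ((hk 1 (by decide)).trans z0.2)
          have : r = 0 ∨ r = 1 := by simp [classLen] at hr; omega
          rcases this with rfl | rfl
          · exact a.trans z0.1.symm
          · exact b.trans z0.2.symm
      have h1 := Set.ncard_le_ncard hsub
      have h2 := Set.ncard_union_le (L : Set (Fin 16240)) (slotClass 4)
      have h3 := Set.ncard_le_ncard hB
      rw [ncard_slotClass] at h2 h3
      rw [show slotSize 4 = 7020 from rfl] at h2 h3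
      have : O.ncard = 7020 ∨ O.ncard = 7021 ∨ O.ncard = 7022 ∨ O.ncard = 7023 ∨ O.ncard = 7024 := by
        omega
      rcases this with e | e | e | e | e <;> rw [e] at hdvd <;> norm_num at hdvd
    · push Not at c4
      refine Or.inl (le_antisymm (fun n hn => ?_) hZ)
      have hlines : ∀ f ∈ N, ∀ v : Fin 16240, ∃ k : ℕ, f • v = rotG ^ k • v := by
        intro f hf v
        obtain ⟨g, -, rfl⟩ := top_transitive v
        have hmem : g⁻¹ * f * g ∈ N := by
          have := hN.conj_mem f hf g⁻¹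
          rwa [inv_inv] at this
        have hO : (g⁻¹ * f * g) • (0 : Fin 16240) ∈ O :=
          ⟨⟨_, hmem⟩, rfl⟩
        obtain ⟨k, hk | hk | hk⟩ := exists_rot ((g⁻¹ * f * g) • (0 : Fin 16240))
        · obtain ⟨m, hm, hme⟩ := Finset.mem_image.1 (hline _ k hk)
          refine ⟨m, ?_⟩
          rw [← rot_pow_smul_comm, hme, ← mul_smul, ← mul_smul]
          simp [mul_assoc]
        · exact absurd (hrot k _ hO) (c0 _ hk)
        · exact absurd (hrot k _ hO) (c4 _ hk)
      obtain ⟨m, hm⟩ := hlines n hn 0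
      have hn' : (rotG ^ m)⁻¹ * n ∈ N := mul_mem (inv_mem (hZ (rot_pow_mem m))) hn
      have := eq_one_of_fix_lines (by rw [mul_smul, hm, inv_smul_smul]) (hlines _ hn')
      rw [inv_mul_eq_one] at this
      exact this ▸ rot_pow_mem m

theorem simple_Ru : IsSimpleGroup Ru := by
  haveI : Nontrivial Ru := by
    refine Finite.one_lt_card_iff_nontrivial.1 ?_
    rw [card_Ru]
    norm_num
  refine ⟨fun H hH => ?_⟩
  haveI := hH
  let π : fourRu →* Ru := QuotientGroup.mk' (Subgroup.center fourRu)
  have hker : scalars ≤ H.comap π := fun z hz => by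
    rw [Subgroup.mem_comap, show π z = 1 from (QuotientGroup.eq_one_iff z).2 (scalars_le hz)]
    exact one_mem _
  have hsurj : Function.Surjective π := QuotientGroup.mk'_surjective _
  rcases normal_of_ge hker with h | h
  · refine Or.inl (le_bot_iff.1 fun q hq => ?_)
    obtain ⟨f, rfl⟩ := hsurj q
    have : f ∈ scalars := h ▸ Subgroup.mem_comap.2 hq
    exact Subgroup.mem_bot.2 ((QuotientGroup.eq_one_iff f).2 (scalars_le this))
  · refine Or.inr (eq_top_iff.2 fun q _ => ?_)
    obtain ⟨f, rfl⟩ := hsurj q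
    exact Subgroup.mem_comap.1 (h ▸ Subgroup.mem_top f)

end CfsgLib.RuGroup
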