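import Cfsg.Agent.Lib.RuGroup.Order
import Cfsg.Agent.Lib.RuGroup.CheckTits

/-!
Letters and words as automorphisms, and their tables on the classes of 2304 and 300 points.
-/

set_option autoImplicit false
set_option maxRecDepth 100000

namespace CfsgLib.RuGroup

open CfsgLib.PresCert CfsgLib.LocalEven.RuRootless Cfsg.Spor

attribute [local irreducible] colW app el idT profT classBits vecT lane pkN sv vec profOf singleP
  piT qiT treeT1 treeT2

/-- A letter as an automorphism. -/
noncomputable def letterN (n : ℕ) : fourRu :=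
  if h : n < 4 then sG ⟨n, h⟩ else if h' : n < 8 then (sG ⟨n - 4, by omega⟩)⁻¹ else 1

/-- A word as an automorphism. -/
noncomputable def wordEl (w : List ℕ) : fourRu := (w.map letterN).prod

theorem wordEl_append (u v : List ℕ) : wordEl (u ++ v) = wordEl u * wordEl v := by
  simp [wordEl]

theorem wordEl_replicate (w : List ℕ) : ∀ k, wordEl (List.replicate k w).flatten = wordEl w ^ k
  | 0 => by simp [wordEl]
  | k + 1 => by
    rw [List.replicate_succ, List.flatten_cons, wordEl_append, wordEl_replicate w k, pow_succ']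

theorem baseFix_anti {j k : ℕ} (h : j ≤ k) : baseFix k ≤ baseFix j :=
  fun _ hf b hb => hf b (lt_of_lt_of_le hb h)

theorem sG_fix_one (n : Fin 4) : sG n ∈ baseFix 1 := baseFix_anti (by omega) (sG_fix n)

theorem letterN_mem {n k : ℕ} (hn : n % 4 + k ≤ 4) : letterN n ∈ baseFix k := by
  unfold letterN
  split_ifs with h h'
  · exact baseFix_anti (by simp only; omega) (sG_fix ⟨n, h⟩)
  · exact inv_mem (baseFix_anti (by simp only; omega) (sG_fix ⟨n - 4, by omega⟩))
  · exact one_mem _

theorem wordEl_mem {w : List ℕ} {k : ℕ} (h : ∀ a ∈ w, a % 4 + k ≤ 4) : wordEl w ∈ baseFix k :=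
  list_prod_mem fun x hx => by
    obtain ⟨a, ha, rfl⟩ := List.mem_map.1 hx
    exact letterN_mem (h a ha)

theorem word_fix_one (w : List ℕ) : wordEl w ∈ baseFix 1 := wordEl_mem fun a _ => by omega

/-- A number as a point. -/
def fp (x : ℕ) : Fin 16240 := Fin.ofNat 16240 x

theorem fp_val (i : Fin 16240) : fp i = i := Fin.ext (Nat.mod_eq_of_lt i.2)

theorem fp_mk {x : ℕ} (h : x < 16240) : fp x = ⟨x, h⟩ := Fin.ext (Nat.mod_eq_of_lt h)

theorem sG_smul_fp (n : Fin 4) {a b : ℕ} (ha : a < 16240) (hb : b < 16240)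
    (h : sends (sT n) a b = true) : sG n • fp a = fp b := by
  rw [fp_mk ha, fp_mk hb]
  exact sG_smul n h

/-! ### Traces -/

theorem traceEnd_nil (x : ℕ) : traceEnd [] x = x := rfl

theorem traceEnd_cons (y : ℕ) (ys : List ℕ) (x : ℕ) : traceEnd (y :: ys) x = y := rfl

theorem letterOK_spec {a x y : ℕ} (hx : x < 16240) (hy : y < 16240) (h : letterOK a x y = true) :
    letterN a • fp x = fp y := by
  unfold letterOK at h
  unfold letterN
  by_cases h4 : a < 4
  · rw [show Nat.blt a 4 = true by simpa using h4] at h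
    rw [dif_pos h4]
    exact sG_smul_fp ⟨a, h4⟩ hx hy h
  · rw [show Nat.blt a 4 = false by simpa [Bool.eq_false_iff] using h4] at h
    rw [dif_neg h4]
    by_cases h8 : a < 8
    · rw [show Nat.blt a 8 = true by simpa using h8] at h
      rw [dif_pos h8, inv_smul_eq_iff]
      exact (sG_smul_fp ⟨a - 4, by omega⟩ hy hx h).symm
    · rw [show Nat.blt a 8 = false by simpa [Bool.eq_false_iff] using h8] at h
      exact absurd h (by simp)

theorem traceOK_spec : ∀ (w l : List ℕ) (x : ℕ), x < 16240 → traceOK w l x = true →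
    traceEnd l x < 16240 ∧ wordEl w • fp x = fp (traceEnd l x)
  | [], [], x, hx, _ => ⟨hx, one_smul _ _⟩
  | [], _ :: _, x, _, h => absurd h (by simp [traceOK])
  | a :: w, [], x, _, h => absurd h (by simp [traceOK])
  | a :: w, y :: ys, x, hx, h => by
    change (Bool.rec false (Bool.rec false (letterOK a (traceEnd ys x) y) (Nat.blt y 16240))
      (traceOK w ys x) : Bool) = true at h
    cases hr : traceOK w ys x
    · simp [hr] at h
    · obtain ⟨hlt, he⟩ := traceOK_spec w ys x hx hr
      simp only [hr] at h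
      cases hb : Nat.blt y 16240
      · simp [hb] at h
      · simp only [hb] at h
        have hy : y < 16240 := by simpa using hb
        refine ⟨hy, ?_⟩
        rw [wordEl, List.map_cons, List.prod_cons, mul_smul, ← wordEl, he]
        exact letterOK_spec hlt hy h

theorem tracesOK_spec {w : List ℕ} {ls : List (List ℕ)} (h : tracesOK w ls = true) (b : Fin 4) :
    (ends ls).getD b 0 < 16240 ∧
      wordEl w • basePt b.succ = fp ((ends ls).getD b 0) := by
  simp only [tracesOK, Bool.and_eq_true] at h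
  obtain ⟨⟨⟨h1, h2⟩, h3⟩, h4⟩ := h
  fin_cases b
  · exact traceOK_spec _ _ 112 (by norm_num) h1
  · exact traceOK_spec _ _ 144 (by norm_num) h2
  · exact traceOK_spec _ _ 48 (by norm_num) h3
  · exact traceOK_spec _ _ 7745 (by norm_num) h4

theorem eq_of_ends {f g : fourRu} (hf : f ∈ baseFix 1) (hg : g ∈ baseFix 1)
    (h : ∀ b : Fin 4, f • basePt b.succ = g • basePt b.succ) : f = g := by
  have hmem : g⁻¹ * f = 1 := eq_one_of_fix fun b => by
    cases b using Fin.cases with
    | zero => exact mul_mem (inv_mem hg) hf 0 (by norm_num)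
    | succ b => rw [mul_smul, h b, inv_smul_smul]
  exact (inv_mul_eq_one.1 hmem).symm

theorem word_eq_of_ends {u v : List ℕ} {lu lv : List (List ℕ)} (hu : tracesOK u lu = true)
    (hv : tracesOK v lv = true) (he : ends lu = ends lv) : wordEl u = wordEl v :=
  eq_of_ends (word_fix_one u) (word_fix_one v) fun b => by
    rw [(tracesOK_spec hu b).2, (tracesOK_spec hv b).2, he]

theorem word_one_of_ends {u : List ℕ} {lu : List (List ℕ)} (hu : tracesOK u lu = true)
    (he : ends lu = baseTail) : wordEl u = 1 :=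
  eq_of_ends (word_fix_one u) (one_mem _) fun b => by
    rw [(tracesOK_spec hu b).2, he, one_smul]
    fin_cases b <;> rfl

theorem ends_eq_of_eq {u v : List ℕ} {lu lv : List (List ℕ)} (hu : tracesOK u lu = true)
    (hv : tracesOK v lv = true) (he : wordEl u = wordEl v) : ends lu = ends lv := by
  have key : ∀ b : Fin 4, (ends lu).getD b 0 = (ends lv).getD b 0 := fun b => by
    obtain ⟨a1, a2⟩ := tracesOK_spec hu b
    obtain ⟨b1, b2⟩ := tracesOK_spec hv b
    rw [he, b2, fp_mk a1, fp_mk b1] at a2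
    exact (Fin.mk.inj a2).symm
  have k0 := key 0; have k1 := key 1; have k2 := key 2; have k3 := key 3
  simp only [ends, List.cons.injEq, and_true]
  exact ⟨k0, k1, k2, k3⟩

theorem ends_of_one {u : List ℕ} {lu : List (List ℕ)} (hu : tracesOK u lu = true)
    (he : wordEl u = 1) : ends lu = baseTail := by
  have key : ∀ b : Fin 4, (ends lu).getD b 0 = baseTail.getD b 0 := fun b => by
    obtain ⟨a1, a2⟩ := tracesOK_spec hu b
    rw [he, one_smul, fp_mk a1] at a2
    have := congrArg Fin.val a2
    simp only at this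
    rw [← this]
    fin_cases b <;> rfl
  have k0 := key 0; have k1 := key 1; have k2 := key 2; have k3 := key 3
  simp only [ends, baseTail, List.cons.injEq, and_true]
  exact ⟨k0, k1, k2, k3⟩

/-! ### Tables -/

/-- A member of a class as a point. -/
noncomputable def spt (t : BTree) (i : ℕ) : Fin 16240 := fp (child t i)

theorem tabOK_spec {t : BTree} {P : ℕ → BTree} {N n i : ℕ} (h : tabOK t P N n i = true) :
    tab P n i < N ∧ tab P (n + 4) i < N ∧ sends (sT n) (child t i) (child t (tab P n i)) = true ∧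
      tab P n (tab P (n + 4) i) = i := by
  unfold tabOK at h
  simp only at h
  cases h1 : Nat.blt (tab P n i) N
  · simp [h1] at h
  · simp only [h1] at h
    cases h2 : Nat.blt (tab P (Nat.add n 4) i) N
    · simp [h2] at h
    · simp only [h2] at h
      cases h3 : Nat.beq (tab P n (tab P (Nat.add n 4) i)) i
      · simp [h3] at h
      · simp only [h3] at h
        exact ⟨by simpa using h1, by simpa using h2, h, Nat.eq_of_beq_eq_true h3⟩

theorem letter_tab {t : BTree} {P : ℕ → BTree} {N k d : ℕ} (hN : ∀ i < N, child t i < 16240)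
    (h : (List.range k).all (fun n => allBin N (tabOK t P N n) d 0) = true) (hd : N ≤ 2 ^ d)
    {n : ℕ} (hn : n < 8) (hn' : n % 4 < k) {i : ℕ} (hi : i < N) :
    tab P n i < N ∧ letterN n • spt t i = spt t (tab P n i) := by
  have key : ∀ j < N, tabOK t P N (n % 4) j = true := fun j hj =>
    allBin_spec _ _ _ _ (List.all_eq_true.1 h _ (List.mem_range.2 hn')) j (Nat.zero_le _) hj (by omega)
  by_cases h4 : n < 4
  · obtain ⟨a, -, c, -⟩ := tabOK_spec (key i hi)
    rw [Nat.mod_eq_of_lt h4] at a c
    refine ⟨a, ?_⟩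
    rw [letterN, dif_pos h4]
    exact sG_smul_fp ⟨n, h4⟩ (hN i hi) (hN _ a) c
  · obtain ⟨-, b, -, e⟩ := tabOK_spec (key i hi)
    have en : n % 4 + 4 = n := by omega
    rw [en] at b e
    obtain ⟨-, -, c, -⟩ := tabOK_spec (key _ b)
    rw [e] at c
    refine ⟨b, ?_⟩
    rw [letterN, dif_neg h4, dif_pos hn, inv_smul_eq_iff]
    refine (sG_smul_fp ⟨n - 4, by omega⟩ (hN _ b) (hN i hi) ?_).symm
    rwa [show ((⟨n - 4, by omega⟩ : Fin 4) : ℕ) = n % 4 by simp only; omega]

theorem child1_lt {i : ℕ} (hi : i < 2304) : child treeT1 i < 16240 := slot_child_lt (s := 0) hi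

theorem child2_lt {i : ℕ} (hi : i < 300) : child treeT2 i < 16240 := slot_child_lt (s := 1) hi

theorem pi_spec {n i : ℕ} (hn : n < 8) (hi : i < 2304) :
    tab piT n i < 2304 ∧ letterN n • spt treeT1 i = spt treeT1 (tab piT n i) :=
  letter_tab (fun _ h => child1_lt h) pi_tab (by norm_num) hn (by omega) hi

theorem qi_spec {n i : ℕ} (hn : n < 8) (hn' : n % 4 < 3) (hi : i < 300) :
    tab qiT n i < 300 ∧ letterN n • spt treeT2 i = spt treeT2 (tab qiT n i) :=
  letter_tab (fun _ h => child2_lt h) qi_tab (by norm_num) hn hn' hi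

theorem evalW_cons (P : ℕ → BTree) (a : ℕ) (w : List ℕ) (i : ℕ) :
    evalW P (a :: w) i = tab P a (evalW P w i) := rfl

theorem evalW_spec {t : BTree} {P : ℕ → BTree} {N : ℕ} : ∀ (w : List ℕ),
    (∀ a ∈ w, ∀ i < N, tab P a i < N ∧ letterN a • spt t i = spt t (tab P a i)) →
    ∀ i < N, evalW P w i < N ∧ wordEl w • spt t i = spt t (evalW P w i)
  | [], _, i, hi => ⟨hi, one_smul _ _⟩
  | a :: w, hP, i, hi => by
    obtain ⟨h1, h2⟩ := evalW_spec w (fun b hb => hP b (List.mem_cons_of_mem _ hb)) i hi
    obtain ⟨h3, h4⟩ := hP a List.mem_cons_self _ h1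
    rw [evalW_cons]
    refine ⟨h3, ?_⟩
    rw [wordEl, List.map_cons, List.prod_cons, mul_smul, ← wordEl, h2, h4]

theorem spt1_inj {i j : ℕ} (hi : i < 2304) (hj : j < 2304) (h : spt treeT1 i = spt treeT1 j) : i = j := by
  unfold spt at h
  rw [fp_mk (child1_lt hi), fp_mk (child1_lt hj)] at h
  exact slot_inj (s := 0) hi hj (Fin.mk.inj h)

theorem spt2_inj {i j : ℕ} (hi : i < 300) (hj : j < 300) (h : spt treeT2 i = spt treeT2 j) : i = j := by
  unfold spt at h
  rw [fp_mk (child2_lt hi), fp_mk (child2_lt hj)] at h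
  exact slot_inj (s := 1) hi hj (Fin.mk.inj h)

end CfsgLib.RuGroup
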