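import Cfsg.Agent.Lib.RuGroup.Checks
import Cfsg.Agent.Lib.RuGroup.DataTits

/-!
The predicates of the checks on the point stabiliser and its subgroup of index two.

Letters `n < 4` stand for the composites, `n + 4` for their inverses. A word is a list of letters;
the last one is applied first.
-/

set_option autoImplicit false

namespace CfsgLib.RuGroup

open CfsgLib.PresCert

/-- The value of a letter table. -/
noncomputable def tab (P : Nat → BTree) (n i : Nat) : Nat :=
  getP (P n) (nat_lit 12) (nat_lit 4095) i

/-- A letter table and the table of the inverse letter are right. -/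
noncomputable def tabOK (t : BTree) (P : Nat → BTree) (N n i : Nat) : Bool :=
  (fun x y => Bool.rec false
    (Bool.rec false
      (Bool.rec false (sends (sT n) (child t i) (child t x)) (Nat.beq (tab P n y) i))
      (Nat.blt y N))
    (Nat.blt x N)) (tab P n i) (tab P (Nat.add n (nat_lit 4)) i)

/-- The value of a word in letter tables. -/
noncomputable def evalW (P : Nat → BTree) (w : List Nat) (i : Nat) : Nat :=
  List.rec (motive := fun _ => Nat) i (fun a _ ih => tab P a ih) w

/-- An entry of a search tree over words follows from an earlier one. -/
noncomputable def wstep (P : Nat → BTree) (W : List (List Nat)) (t : BTree) (i : Nat) : Bool :=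
  Bool.rec
    (Bool.rec false
      (Bool.rec false (Nat.beq (evalW P (W.getD (gen t i) []) (child t (parent t i))) (child t i))
        (Nat.blt (gen t i) W.length))
      (Nat.blt (parent t i) i))
    (Nat.beq (child t i) (nat_lit 0))
    (Nat.beq i (nat_lit 0))

/-- The image under the path to `i` in the tree of the class of 2304 points. -/
noncomputable def forth (F : Nat) : Nat → Nat → Nat :=
  Nat.rec (motive := fun _ => Nat → Nat → Nat) (fun _ x => x)
    (fun _ ih i x => Bool.rec (tab piT (gen treeT1 i) (ih (parent treeT1 i) x)) x
      (Nat.beq i (nat_lit 0))) F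

/-- The image under the inverse of the path to `i`. -/
noncomputable def back (F : Nat) : Nat → Nat → Nat :=
  Nat.rec (motive := fun _ => Nat → Nat → Nat) (fun _ x => x)
    (fun _ ih i x => Bool.rec (ih (parent treeT1 i) (tab piT (Nat.add (gen treeT1 i) (nat_lit 4)) x)) x
      (Nat.beq i (nat_lit 0))) F

/-- The parities of the composites. -/
noncomputable def epsB (n : Nat) : Bool := Nat.beq n (nat_lit 1)

/-- The parity of a path. -/
noncomputable def pathB (i : Nat) : Bool := Nat.beq (Nat.land (Nat.shiftRight pathBits i) (nat_lit 1)) (nat_lit 1)

/-- A half. -/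
noncomputable def halfSet (c : Bool) : Nat := Bool.rec halfA halfB c

/-- Membership in a half, as a check. -/
noncomputable def inHalf (c : Bool) (x : Nat) : Bool :=
  Nat.beq (Nat.land (Nat.shiftRight (halfSet c) x) (nat_lit 1)) (nat_lit 1)

/-- A path reaches its end. -/
noncomputable def pathOK (i : Nat) : Bool :=
  Bool.rec false (Nat.beq (forth (nat_lit 10) i (nat_lit 0)) i)
    (Nat.blt (gen treeT1 i) (nat_lit 4) || Nat.beq i (nat_lit 0))

/-- A composite respects the transversal up to its parity. -/
noncomputable def bitOK (n i : Nat) : Bool :=
  (fun j => inHalf (xor (epsB n) (xor (pathB i) (pathB j)))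
    (back (nat_lit 10) j (tab piT n (forth (nat_lit 10) i halfPt)))) (tab piT n i)

/-- A composite fixing the second base point permutes the halves by its parity. -/
noncomputable def blockOK (n x : Nat) : Bool :=
  Bool.rec false
    (Bool.rec true (inHalf (xor true (epsB n)) (tab piT n x)) (inHalf true x))
    (Bool.rec true (inHalf (epsB n) (tab piT n x)) (inHalf false x))

/-- A point other than the first is moved by one of two words. -/
noncomputable def movedOK (i : Nat) : Bool :=
  Bool.rec (Bool.rec false true (!(Nat.beq (evalW piT wH i) i) || !(Nat.beq (evalW piT wK i) i)))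
    true (Nat.beq i (nat_lit 0))

/-- One letter of a trace. -/
noncomputable def letterOK (a x y : Nat) : Bool :=
  Bool.rec (Bool.rec false (sends (sT (Nat.sub a (nat_lit 4))) y x) (Nat.blt a (nat_lit 8)))
    (sends (sT a) x y) (Nat.blt a (nat_lit 4))

/-- A trace follows a word; its head is the image. -/
noncomputable def traceOK : List Nat → List Nat → Nat → Bool :=
  fun w => List.rec (motive := fun _ => List Nat → Nat → Bool)
    (fun l _ => List.rec (motive := fun _ => Bool) true (fun _ _ _ => false) l)
    (fun a _ ih l x => List.rec (motive := fun _ => Bool) false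
      (fun y ys _ => Bool.rec false
        (Bool.rec false (letterOK a (List.rec (motive := fun _ => Nat) x (fun z _ _ => z) ys) y)
          (Nat.blt y (nat_lit 16240)))
        (ih ys x)) l) w

/-- The image claimed by a trace. -/
noncomputable def traceEnd (l : List Nat) (x : Nat) : Nat :=
  List.rec (motive := fun _ => Nat) x (fun z _ _ => z) l

/-- The traces of a word on the base points after the first. -/
noncomputable def tracesOK (w : List Nat) (ls : List (List Nat)) : Bool :=
  traceOK w (ls.getD 0 []) (nat_lit 112) && traceOK w (ls.getD 1 []) (nat_lit 144) &&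
    traceOK w (ls.getD 2 []) (nat_lit 48) && traceOK w (ls.getD 3 []) (nat_lit 7745)

/-- The images of the base points after the first. -/
noncomputable def ends (ls : List (List Nat)) : List Nat :=
  [traceEnd (ls.getD 0 []) (nat_lit 112), traceEnd (ls.getD 1 []) (nat_lit 144),
    traceEnd (ls.getD 2 []) (nat_lit 48), traceEnd (ls.getD 3 []) (nat_lit 7745)]

end CfsgLib.RuGroup
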