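import Cfsg.Agent.Lib.RuGroup.TitsSub
import Cfsg.Agent.Lib.RuGroup.Simple
import Cfsg.Agent.Lib.RuGroup.Coprime

/-!
The subgroup of index two of the point stabiliser is simple.

A normal subgroup of order divisible by 13 contains all elements of order 13, and these generate.
One of order prime to 13 is centralised by all elements of order 13, and then it is trivial.
-/

set_option autoImplicit false
set_option maxRecDepth 100000

namespace CfsgLib.RuGroup

open CfsgLib.PresCert CfsgLib.LocalEven.RuRootless Cfsg.Spor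

attribute [local irreducible] colW app el idT profT classBits vecT lane pkN sv vec profOf singleP
  piT qiT treeT1 treeT2 halfA halfB halfPt pathBits transT transQ

/-- Elements of order 13 and 3. -/
noncomputable def gH : fourRu := wordEl wH
/-- A conjugate of `gH`. -/
noncomputable def gK : fourRu := wordEl wK
/-- A conjugate of `gH` moving the second base point. -/
noncomputable def gT : fourRu := wordEl wT
/-- An element of order 3. -/
noncomputable def gA : fourRu := wordEl wA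
/-- A conjugate of `gA`. -/
noncomputable def gB : fourRu := wordEl wB
/-- An involution. -/
noncomputable def gZ : fourRu := letterN 0

theorem wordEl_single (a : ℕ) : wordEl [a] = letterN a := by simp [wordEl]

theorem word_mem (w : List ℕ) (h : (w.all fun a => decide (a < 8)) = true) (hp : wordPar w = false) :
    wordEl w ∈ titsGrp :=
  word_mem_tits (fun a ha => by simpa using List.all_eq_true.1 h a ha) hp

theorem gH_mem : gH ∈ titsGrp := word_mem _ (by decide) rfl
theorem gK_mem : gK ∈ titsGrp := word_mem _ (by decide) rfl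
theorem gT_mem : gT ∈ titsGrp := word_mem _ (by decide) rfl
theorem gA_mem : gA ∈ titsGrp := word_mem _ (by decide) rfl
theorem gB_mem : gB ∈ titsGrp := word_mem _ (by decide) rfl
theorem gZ_mem : gZ ∈ titsGrp := by
  rw [gZ, ← wordEl_single]; exact word_mem _ (by decide) rfl

theorem gH_fix : gH ∈ baseFix 3 := wordEl_mem (by decide)
theorem gK_fix : gK ∈ baseFix 2 := wordEl_mem (by decide)
theorem gZ_fix : gZ ∈ baseFix 3 := letterN_mem (by omega)

theorem gH_pow : gH ^ 13 = 1 := by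
  have h := word_h
  simp only [Bool.and_eq_true, decide_eq_true_eq] at h
  rw [gH, ← wordEl_replicate]
  exact word_one_of_ends h.1.1.1 h.1.2

theorem gH_ne : gH ≠ 1 := fun e => by
  have h := word_h
  simp only [Bool.and_eq_true, decide_eq_true_eq, Bool.not_eq_true', decide_eq_false_iff_not] at h
  exact h.2 (ends_of_one h.1.1.2 e)

theorem gZ_sq : gZ ^ 2 = 1 := by
  have h := word_z
  simp only [Bool.and_eq_true, decide_eq_true_eq] at h
  rw [gZ, ← wordEl_single, ← wordEl_replicate]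
  exact word_one_of_ends h.1.1.1.1.1.1.1 h.1.1.1.1.1.1.2

theorem gZ_comm : gH * gZ ≠ gZ * gH := fun e => by
  have h := word_z
  simp only [Bool.and_eq_true, decide_eq_true_eq, Bool.not_eq_true', decide_eq_false_iff_not] at h
  refine h.1.1.1.2 (ends_eq_of_eq h.1.1.1.1.1.2 h.1.1.1.1.2 ?_)
  rw [wordEl_append, show (0 :: wH) = [0] ++ wH from rfl, wordEl_append, wordEl_single]
  exact e

theorem gK_conj : gK = letterN 2 * gH * (letterN 2)⁻¹ := by
  rw [← letterN_add_four (by norm_num), gH, gK, ← wordEl_single, ← wordEl_single (2 + 4),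
    ← wordEl_append, ← wordEl_append]
  rfl

theorem gT_conj : gT = (letterN 3)⁻¹ * gH * letterN 3 := by
  rw [← letterN_add_four (by norm_num), gH, gT, ← wordEl_single (3 + 4), ← wordEl_single 3,
    ← wordEl_append, ← wordEl_append]
  rfl

theorem gB_conj : gB = letterN 1 * gA * (letterN 1)⁻¹ := by
  rw [← letterN_add_four (by norm_num), gA, gB, ← wordEl_single, ← wordEl_single (1 + 4),
    ← wordEl_append, ← wordEl_append]
  rfl

theorem gK_pow : gK ^ 13 = 1 := by rw [gK_conj, conj_pow, gH_pow]; group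

theorem gT_pow : gT ^ 13 = 1 := by
  rw [gT_conj]
  conv_lhs => arg 1; arg 2; rw [← inv_inv (letterN 3)]
  rw [conj_pow, gH_pow]; group

theorem gA_pow : gA ^ 3 = 1 := by
  have h := word_a
  simp only [Bool.and_eq_true, decide_eq_true_eq] at h
  rw [gA, ← wordEl_replicate]
  exact word_one_of_ends h.1.1.1.1.1 h.1.1.1.1.2

theorem gB_pow : gB ^ 3 = 1 := by rw [gB_conj, conj_pow, gA_pow]; group

theorem gAB : (gA * gB) ^ 13 = 1 ∧ gA * gB ≠ 1 := by
  have h := word_a
  simp only [Bool.and_eq_true, decide_eq_true_eq, Bool.not_eq_true', decide_eq_false_iff_not] at h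
  rw [gA, gB, ← wordEl_append, ← wordEl_replicate]
  exact ⟨word_one_of_ends h.1.1.1.2 h.1.1.2, fun e => h.2 (ends_of_one h.1.2 e)⟩

theorem gZ_word : gZ = gK * gK * gH⁻¹ * gK * gH⁻¹ * gK⁻¹ * gH * gK * gH := by
  have h := word_z
  simp only [Bool.and_eq_true, decide_eq_true_eq] at h
  have e : wordEl wZ = gZ := by
    rw [word_eq_of_ends h.1.1.2 h.1.2 h.2, gZ, wordEl_single]
  have eH : wordEl [4, 5, 5] = gH⁻¹ := by
    simp [gH, wH, wordEl, letterN, mul_assoc]
  have eK : wordEl [2, 4, 5, 5, 6] = gK⁻¹ := by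
    simp [gK, wK, wordEl, letterN, mul_assoc]
  rw [← e, ← eH, ← eK]
  simp only [gH, gK, ← wordEl_append]
  rfl

/-! ### Reaching -/

theorem wstep_spec {P : ℕ → BTree} {W : List (List ℕ)} {t : BTree} {i : ℕ} (h : wstep P W t i = true) :
    (i = 0 ∧ child t i = 0) ∨ (parent t i < i ∧ gen t i < W.length ∧
      evalW P (W.getD (gen t i) []) (child t (parent t i)) = child t i) := by
  unfold wstep at h
  by_cases h0 : i = 0
  · subst h0
    rw [show Nat.beq 0 0 = true from rfl] at h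
    exact Or.inl ⟨rfl, Nat.eq_of_beq_eq_true h⟩
  · rw [show Nat.beq i 0 = false by simpa [Bool.eq_false_iff] using h0] at h
    cases h1 : Nat.blt (parent t i) i
    · simp [h1] at h
    · simp only [h1] at h
      cases h2 : Nat.blt (gen t i) W.length
      · simp [h2] at h
      · simp only [h2] at h
        exact Or.inr ⟨by simpa using h1, by simpa using h2, Nat.eq_of_beq_eq_true h⟩

theorem reach_all {P : ℕ → BTree} {W : List (List ℕ)} {t t' : BTree} {N d : ℕ} (X : Subgroup fourRu)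
    (hP : ∀ w ∈ W, ∀ a ∈ w, ∀ i < N, tab P a i < N ∧ letterN a • spt t i = spt t (tab P a i))
    (hW : ∀ w ∈ W, wordEl w ∈ X) (hd : N ≤ 2 ^ d) (hN : 0 < N)
    (hstep : allBin N (wstep P W t') d 0 = true) (hfull : Nat.beq (treeSet t' N d) (2 ^ N - 1) = true)
    {v : ℕ} (hv : v < N) : ∃ f ∈ X, f • spt t 0 = spt t v := by
  have key : ∀ i < N, child t' i < N ∧ ∃ f ∈ X, f • spt t 0 = spt t (child t' i) := by
    intro i
    induction i using Nat.strong_induction_on with
    | _ i ih =>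
      intro hi
      rcases wstep_spec (allBin_spec _ _ _ _ hstep i (Nat.zero_le _) hi (by omega)) with ⟨-, e⟩ | ⟨hp, hg, e⟩
      · rw [e]; exact ⟨hN, 1, one_mem _, one_smul _ _⟩
      · obtain ⟨hc, f, hf, hfe⟩ := ih _ hp (by omega)
        have hw : W.getD (gen t' i) [] ∈ W := by
          rw [List.getD_eq_getElem _ _ hg]; exact List.getElem_mem hg
        obtain ⟨h1, h2⟩ := evalW_spec (t := t) _ (hP _ hw) _ hc
        rw [e] at h1 h2
        exact ⟨h1, _, mul_mem (hW _ hw) hf, by rw [mul_smul, hfe, h2]⟩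
  have h := Nat.eq_of_beq_eq_true hfull
  have hb : (treeSet t' N d).testBit v = true := by
    rw [h, Nat.testBit_two_pow_sub_one]; simpa using hv
  rw [treeSet, testBit_orBin] at hb
  obtain ⟨i, -, hi, -, he⟩ := hb
  obtain ⟨-, f, hf, hfe⟩ := key i hi
  exact ⟨f, hf, by rw [hfe, (testBit_bit1 _ _).1 he]⟩

theorem trans_reach (X : Subgroup fourRu) (hH : gH ∈ X) (hK : gK ∈ X) (hT : gT ∈ X) {v : ℕ}
    (hv : v < 2304) : ∃ f ∈ X, f • spt treeT1 0 = spt treeT1 v := by
  refine reach_all (P := piT) (W := [wH, wK, wT]) X (fun w hw a ha i hi => ?_) (fun w hw => ?_)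
    (by norm_num : 2304 ≤ 2 ^ 12) (by norm_num) trans_step trans_full hv
  · exact pi_spec ((by decide : ∀ w ∈ [wH, wK, wT], ∀ a ∈ w, a < 8) w hw a ha) hi
  · simp only [List.mem_cons, List.not_mem_nil, or_false] at hw
    rcases hw with rfl | rfl | rfl
    exacts [hH, hK, hT]

theorem transQ_reach (X : Subgroup fourRu) (hH : gH ∈ X) (hK : gK ∈ X) {v : ℕ}
    (hv : v < 300) : ∃ f ∈ X, f • spt treeT2 0 = spt treeT2 v := by
  refine reach_all (P := qiT) (W := [wH, wK]) X (fun w hw a ha i hi => ?_) (fun w hw => ?_)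
    (by norm_num : 300 ≤ 2 ^ 9) (by norm_num) transQ_step transQ_full hv
  · obtain ⟨h1, h2⟩ := (by decide : ∀ w ∈ [wH, wK], ∀ a ∈ w, a < 8 ∧ a % 4 < 3) w hw a ha
    exact qi_spec h1 h2 hi
  · simp only [List.mem_cons, List.not_mem_nil, or_false] at hw
    rcases hw with rfl | rfl
    exacts [hH, hK]

theorem spt2_zero : spt treeT2 0 = basePt 2 := by
  obtain ⟨-, he⟩ | ⟨h, -⟩ := treeStep_spec (allBin_spec _ _ _ _ tree2_step 0 le_rfl (by norm_num) (by norm_num))
  · rw [spt, he]; rfl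
  · exact absurd rfl h

theorem point_in_class {v : Fin 16240} (h : v ∈ slotClass 0) : ∃ i < 2304, v = spt treeT1 i := by
  obtain ⟨i, hi, he⟩ := (slot_mem v.2).1 h
  exact ⟨i, hi, by rw [spt, show child treeT1 i = (v : ℕ) from he, fp_val]⟩

theorem smul_in_class {f : fourRu} (hf : f ∈ baseFix 1) :
    ∃ i < 2304, f • spt treeT1 0 = spt treeT1 i := by
  refine point_in_class ?_
  rw [spt1_zero]
  exact slot_orbit_le 0 hf

/-! ### The argument -/

/-- Conjugation by a normalising element. -/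
def conjAut {N : Subgroup fourRu} {g : fourRu} (h : ∀ n ∈ N, g * n * g⁻¹ ∈ N)
    (h' : ∀ n ∈ N, g⁻¹ * n * g ∈ N) : MulAut N where
  toFun n := ⟨g * n * g⁻¹, h n n.2⟩
  invFun n := ⟨g⁻¹ * n * g, h' n n.2⟩
  left_inv n := Subtype.ext (by simp [mul_assoc])
  right_inv n := Subtype.ext (by simp [mul_assoc])
  map_mul' m n := Subtype.ext (by simp [mul_assoc])

theorem conjAut_pow {N : Subgroup fourRu} {g : fourRu} (h : ∀ n ∈ N, g * n * g⁻¹ ∈ N)
    (h' : ∀ n ∈ N, g⁻¹ * n * g ∈ N) :
    ∀ (k : ℕ) (n : N), (((conjAut h h') ^ k) n : fourRu) = g ^ k * n * (g ^ k)⁻¹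
  | 0, n => by simp
  | k + 1, n => by
    rw [pow_succ', MulAut.mul_apply]
    show g * (((conjAut h h') ^ k) n : fourRu) * g⁻¹ = _
    rw [conjAut_pow h h' k n, pow_succ']
    group

theorem mem_of_coprime {N : Subgroup fourRu} (hle : N ≤ titsGrp)
    (hnorm : ∀ g ∈ titsGrp, ∀ n ∈ N, g * n * g⁻¹ ∈ N) {q : ℕ} (hq : q.Prime)
    (hd : ¬ q * Nat.card N ∣ 17971200) {k : fourRu} (hk : k ∈ titsGrp) (hkq : k ^ q = 1) : k ∈ N := by
  haveI : (N.subgroupOf titsGrp).Normal :=
    ⟨fun n hn g => hnorm g g.2 n hn⟩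
  have hc := Subgroup.card_mul_index (N.subgroupOf titsGrp)
  rw [Nat.card_congr (Subgroup.subgroupOfEquivOfLe hle).toEquiv, card_titsGrp] at hc
  have h1 : orderOf ((⟨k, hk⟩ : titsGrp) : titsGrp ⧸ N.subgroupOf titsGrp) ∣ q :=
    orderOf_dvd_of_pow_eq_one (by
      rw [← QuotientGroup.mk_pow, show (⟨k, hk⟩ : titsGrp) ^ q = 1 from Subtype.ext hkq,
        QuotientGroup.mk_one])
  have h2 := orderOf_dvd_natCard ((⟨k, hk⟩ : titsGrp) : titsGrp ⧸ N.subgroupOf titsGrp)
  rw [← Subgroup.index_eq_card] at h2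
  rcases (Nat.dvd_prime hq).1 h1 with e | e
  · exact Subgroup.mem_subgroupOf.1
      ((QuotientGroup.eq_one_iff (N := N.subgroupOf titsGrp) (⟨k, hk⟩ : titsGrp)).1 (orderOf_eq_one_iff.1 e))
  · rw [e] at h2
    exact absurd (by rw [← hc, mul_comm q]; exact Nat.mul_dvd_mul_left _ h2) hd

theorem eq_tits_of_thirteen {N : Subgroup fourRu} (hle : N ≤ titsGrp)
    (hnorm : ∀ g ∈ titsGrp, ∀ n ∈ N, g * n * g⁻¹ ∈ N) (h13 : 13 ∣ Nat.card N) : N = titsGrp := by
  have hnd : ¬ 13 * Nat.card N ∣ 17971200 := fun h =>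
    absurd ((Nat.mul_dvd_mul_left 13 h13).trans h) (by norm_num)
  have mem : ∀ k ∈ titsGrp, k ^ 13 = 1 → k ∈ N := fun k =>
    mem_of_coprime hle hnorm (by norm_num) hnd
  have hH := mem _ gH_mem gH_pow
  have hK := mem _ gK_mem gK_pow
  have hT := mem _ gT_mem gT_pow
  have hZ : gZ ∈ N := gZ_word ▸
    mul_mem (mul_mem (mul_mem (mul_mem (mul_mem (mul_mem (mul_mem (mul_mem hK hK) (inv_mem hH)) hK)
      (inv_mem hH)) (inv_mem hK)) hH) hK) hH
  let X : Subgroup fourRu := N ⊓ baseFix 2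
  have hXle : X ≤ titsGrp ⊓ baseFix 2 := inf_le_inf_right _ hle
  have horb : 300 ≤ (MulAction.orbit X (basePt 2)).ncard := by
    let φ : Fin 300 → Fin 16240 := fun i => spt treeT2 i
    have hinj : Function.Injective φ := fun a b h => Fin.ext (spt2_inj a.2 b.2 h)
    have hsub : Set.range φ ⊆ MulAction.orbit X (basePt 2) := by
      rintro _ ⟨i, rfl⟩
      obtain ⟨f, hf, hfe⟩ := transQ_reach X ⟨hH, baseFix_anti (by norm_num) gH_fix⟩ ⟨hK, gK_fix⟩ i.2
      exact ⟨⟨f, hf⟩, by rw [← spt2_zero]; exact hfe⟩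
    have := Set.ncard_le_ncard hsub
    rwa [Set.ncard_range_of_injective hinj, Nat.card_fin] at this
  have hstab : 26 ≤ Nat.card (MulAction.stabilizer X (basePt 2)) := by
    have hmem : ∀ g ∈ N, g ∈ baseFix 3 → g ∈ X := fun g hg hg3 => ⟨hg, baseFix_anti (by norm_num) hg3⟩
    have hfix : ∀ g ∈ baseFix 3, g • basePt 2 = basePt 2 := fun g hg => hg 2 (by norm_num)
    let h' : MulAction.stabilizer X (basePt 2) := ⟨⟨gH, hmem _ hH gH_fix⟩, hfix _ gH_fix⟩
    let z' : MulAction.stabilizer X (basePt 2) := ⟨⟨gZ, hmem _ hZ gZ_fix⟩, hfix _ gZ_fix⟩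
    have o1 : orderOf h' = 13 := by
      haveI : Fact (Nat.Prime 13) := ⟨by norm_num⟩
      exact orderOf_eq_prime (Subtype.ext (Subtype.ext gH_pow))
        fun e => gH_ne (congrArg (fun x : MulAction.stabilizer X (basePt 2) => (x : fourRu)) e)
    have o2 : orderOf z' = 2 := by
      refine orderOf_eq_prime (Subtype.ext (Subtype.ext gZ_sq)) fun e => ?_
      have e' : gZ = 1 := congrArg (fun x : MulAction.stabilizer X (basePt 2) => (x : fourRu)) e
      exact gZ_comm (by rw [e', one_mul, mul_one])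
    have d1 := orderOf_dvd_natCard h'
    have d2 := orderOf_dvd_natCard z'
    rw [o1] at d1; rw [o2] at d2
    exact Nat.le_of_dvd Nat.card_pos
      (Nat.Coprime.mul_dvd_of_dvd_of_dvd (by norm_num : Nat.Coprime 13 2) d1 d2)
  have hX : X = titsGrp ⊓ baseFix 2 := by
    refine Subgroup.eq_of_le_of_card_ge hXle ?_
    have h1 := half_card (k := 2) (by norm_num) (by norm_num)
    rw [card_baseFix.2.1] at h1
    have h2 := Subgroup.card_mul_index (MulAction.stabilizer X (basePt 2))
    rw [MulAction.index_stabilizer] at h2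
    have := Nat.mul_le_mul hstab horb
    omega
  refine le_antisymm hle fun f hf => ?_
  obtain ⟨i, hi, he⟩ := smul_in_class hf.1
  obtain ⟨n, hn, hne⟩ := trans_reach N hH hK hT hi
  have hmem : n⁻¹ * f ∈ baseFix 2 := mem_fix_two (mul_mem (inv_mem (show n ∈ baseFix 1 from (hle hn).1)) hf.1)
    (by rw [mul_smul, he, ← hne, inv_smul_smul])
  have hin : n⁻¹ * f ∈ X :=
    hX ▸ (⟨titsGrp.mul_mem (titsGrp.inv_mem (hle hn)) hf, hmem⟩ : n⁻¹ * f ∈ titsGrp ⊓ baseFix 2)
  have := mul_mem hn hin.1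
  rwa [mul_inv_cancel_left] at this

theorem eq_bot_of_not_thirteen {N : Subgroup fourRu} (hle : N ≤ titsGrp)
    (hnorm : ∀ g ∈ titsGrp, ∀ n ∈ N, g * n * g⁻¹ ∈ N) (h13 : ¬ 13 ∣ Nat.card N) : N = ⊥ := by
  have hdvd : Nat.card N ∣ 17971200 := card_titsGrp ▸ Subgroup.card_dvd_of_le hle
  have h27 : ¬ 27 ∣ Nat.card N := fun h => by
    have hnd : ¬ 3 * Nat.card N ∣ 17971200 := fun h' =>
      absurd ((Nat.mul_dvd_mul_left 3 h).trans h') (by norm_num)
    have hab := mul_mem (mem_of_coprime hle hnorm (by norm_num) hnd gA_mem gA_pow)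
      (mem_of_coprime hle hnorm (by norm_num) hnd gB_mem gB_pow)
    haveI : Fact (Nat.Prime 13) := ⟨by norm_num⟩
    have ho : orderOf (⟨gA * gB, hab⟩ : N) = 13 :=
      orderOf_eq_prime (Subtype.ext gAB.1) fun e => gAB.2 (congrArg Subtype.val e)
    exact h13 (ho ▸ orderOf_dvd_natCard (⟨gA * gB, hab⟩ : N))
  have hsmall : Nat.card N ∣ 460800 := by
    have h1 : Nat.card N ∣ 51200 * 27 :=
      (Nat.Coprime.dvd_of_dvd_mul_right
        ((Nat.Prime.coprime_iff_not_dvd (by norm_num)).2 h13).symm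
        (show Nat.card N ∣ 51200 * 27 * 13 by norm_num; exact hdvd))
    have h2 : Nat.gcd (Nat.card N) 27 ∣ 9 := by
      obtain ⟨j, hj, e⟩ := (Nat.dvd_prime_pow Nat.prime_three).1
        (show Nat.gcd (Nat.card N) 27 ∣ 3 ^ 3 from Nat.gcd_dvd_right _ _)
      rw [e]
      rcases (show j ≤ 2 ∨ j = 3 by omega) with h | h
      · exact (Nat.pow_dvd_pow 3 h).trans (by norm_num)
      · exfalso; apply h27
        have := Nat.gcd_dvd_left (Nat.card N) 27
        rwa [e, h] at this
    refine ((Nat.dvd_gcd dvd_rfl h1).trans (Nat.gcd_mul_right_dvd_mul_gcd _ _ _)).trans ?_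
    exact Nat.mul_dvd_mul (Nat.gcd_dvd_right _ 51200) h2
  have comm : ∀ g ∈ titsGrp, g ^ 13 = 1 → ∀ n ∈ N, g * n = n * g := by
    intro g hg hg13 n hn
    have h' : ∀ m ∈ N, g⁻¹ * m * g ∈ N := fun m hm => by
      simpa using hnorm g⁻¹ (inv_mem hg) m hm
    have hfix := centralize_of_small N (conjAut (hnorm g hg) h') (MulEquiv.ext fun m => Subtype.ext (by
      rw [conjAut_pow, hg13]; simp)) hsmall ⟨n, hn⟩
    exact mul_inv_eq_iff_eq_mul.1 (congrArg Subtype.val hfix)
  refine (Subgroup.eq_bot_iff_forall _).2 fun n hn => ?_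
  have cH := comm _ gH_mem gH_pow n hn
  have cK := comm _ gK_mem gK_pow n hn
  have cT := comm _ gT_mem gT_pow n hn
  have fixed : ∀ g : fourRu, g * n = n * g → g • spt treeT1 0 = spt treeT1 0 →
      g • n • spt treeT1 0 = n • spt treeT1 0 := fun g hc h0 => by
    rw [← mul_smul, hc, mul_smul, h0]
  obtain ⟨j, hj, hje⟩ := smul_in_class (hle hn).1
  have f0H := fixed _ cH (fix_two_iff.1 (baseFix_anti (by norm_num) gH_fix)).2
  have f0K := fixed _ cK (fix_two_iff.1 gK_fix).2
  rw [hje] at f0H f0K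
  have hj0 : j = 0 := by
    by_contra hne
    have hm := allBin_spec _ _ _ _ moved_ok j (Nat.zero_le _) hj (by omega)
    unfold movedOK at hm
    rw [show Nat.beq j 0 = false by simpa [Bool.eq_false_iff] using hne] at hm
    obtain ⟨a1, a2⟩ := evalW_spec (t := treeT1) wH
      (fun a ha i hi => pi_spec ((by decide : ∀ a ∈ wH, a < 8) a ha) hi) j hj
    obtain ⟨b1, b2⟩ := evalW_spec (t := treeT1) wK
      (fun a ha i hi => pi_spec ((by decide : ∀ a ∈ wK, a < 8) a ha) hi) j hj
    have e1 : evalW piT wH j = j := spt1_inj a1 hj (a2.symm.trans f0H)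
    have e2 : evalW piT wK j = j := spt1_inj b1 hj (b2.symm.trans f0K)
    rw [e1, e2] at hm
    simp at hm
  subst hj0
  -- `n` fixes the class pointwise
  let C : Subgroup fourRu := Subgroup.centralizer {n}
  have inC : ∀ g : fourRu, g * n = n * g → g ∈ C := fun g hc => by
    rw [Subgroup.mem_centralizer_singleton_iff]; exact hc
  have hclass : ∀ v ∈ slotClass 0, n • v = v := fun v hv => by
    obtain ⟨i, hi, rfl⟩ := point_in_class hv
    obtain ⟨f, hf, hfe⟩ := trans_reach C (inC _ cH) (inC _ cK) (inC _ cT) hi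
    rw [← hfe, ← mul_smul, ← Subgroup.mem_centralizer_singleton_iff.1 hf, mul_smul, hje]
  have h144 : n • basePt 2 = basePt 2 := by
    obtain ⟨k, hk | hk | hk⟩ := exists_rot (basePt 2)
    · have := congrArg (n • ·) hk
      simp only [rot_pow_smul_comm, show n • (0 : Fin 16240) = 0 from (hle hn).1 0 (by norm_num)] at this
      exact MulAction.injective _ (this.trans hk.symm)
    · have := hclass _ hk
      rw [rot_pow_smul_comm] at this
      exact MulAction.injective _ this
    · exfalso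
      have hz : ∀ (j : ℕ) (w : Fin 16240), pdot (rotG ^ j • w : Fin 16240) 0 = 0 →
          pdot (rotG ^ j • w : Fin 16240) 1 = 0 → pdot w 0 = 0 ∧ pdot w 1 = 0 := by
        intro j
        induction j with
        | zero => intro w a b; rw [pow_zero, one_smul] at a b; exact ⟨a, b⟩
        | succ j ih =>
          intro w a b
          rw [pow_succ, mul_smul] at a b
          obtain ⟨a', b'⟩ := ih _ a b
          have h1 := (pdot_rot_step w 0).1
          have h2 := (pdot_rot_step w 0).2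
          simp only [Fin.val_zero, Nat.mul_zero, zero_add] at h1 h2
          omega
      obtain ⟨e', b0', b1'⟩ := pdot_two (show 4 < 16240 by norm_num)
      rw [root_pdot.2] at e'
      rw [abs_le] at b0' b1'
      push_cast at e'
      have k0 : pdot (rotG ^ k • basePt 2 : Fin 16240) 0 = pdot 4 0 := hk 0 (by decide)
      have k1 : pdot (rotG ^ k • basePt 2 : Fin 16240) 1 = pdot 4 1 := hk 1 (by decide)
      obtain ⟨a, b⟩ := hz k (basePt 2) (by omega) (by omega)
      obtain ⟨e, -, -⟩ := pdot_two (show 144 < 16240 by norm_num)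
      have hb : (basePt 2 : ℕ) = 144 := rfl
      rw [hb] at a b
      have := base_links.2.1
      omega
  have hn3 : n ∈ baseFix 3 := (mem_baseFix_succ (k := 2) (by norm_num)).2
    ⟨mem_fix_two (hle hn).1 hje, h144⟩
  let A : Subgroup fourRu := (titsGrp ⊓ baseFix 3) ⊓ Subgroup.centralizer {gH}
  have hcard : Nat.card (titsGrp ⊓ baseFix 3 : Subgroup fourRu) = 26 := by
    have := half_card (k := 3) (by norm_num) le_rfl
    rw [card_baseFix.2.2.1] at this
    omega
  have hnA : n ∈ A := ⟨⟨hle hn, hn3⟩, Subgroup.mem_centralizer_singleton_iff.2 cH.symm⟩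
  have hhA : gH ∈ A := ⟨⟨gH_mem, gH_fix⟩, Subgroup.mem_centralizer_singleton_iff.2 rfl⟩
  by_contra hne
  have o1 : orderOf (⟨gH, hhA⟩ : A) = 13 := by
    haveI : Fact (Nat.Prime 13) := ⟨by norm_num⟩
    exact orderOf_eq_prime (Subtype.ext gH_pow) fun e => gH_ne (congrArg Subtype.val e)
  have o2 : orderOf n = 2 := by
    have d1 : orderOf n ∣ 26 := hcard ▸ Subgroup.orderOf_dvd_natCard _ (show n ∈ titsGrp ⊓ baseFix 3 from hnA.1)
    have d2 : orderOf n ∣ Nat.card N := Subgroup.orderOf_dvd_natCard _ hn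
    rcases (Nat.dvd_prime Nat.prime_two).1 ((Nat.Coprime.dvd_of_dvd_mul_right
        (Nat.Coprime.coprime_dvd_left d2 ((Nat.Prime.coprime_iff_not_dvd (by norm_num)).2 h13).symm)
        (show orderOf n ∣ 2 * 13 from d1))) with e | e
    · exact absurd (orderOf_eq_one_iff.1 e) hne
    · exact e
  have d2 : 2 ∣ Nat.card A := o2 ▸ Subgroup.orderOf_dvd_natCard A hnA
  have d1 : 13 ∣ Nat.card A := o1 ▸ orderOf_dvd_natCard (⟨gH, hhA⟩ : A)
  have htop : A = titsGrp ⊓ baseFix 3 := Subgroup.eq_of_le_of_card_ge inf_le_left (by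
    rw [hcard]
    exact Nat.le_of_dvd Nat.card_pos (Nat.Coprime.mul_dvd_of_dvd_of_dvd (by norm_num : Nat.Coprime 13 2) d1 d2))
  have hz : gZ ∈ A := htop ▸ ⟨gZ_mem, gZ_fix⟩
  exact gZ_comm (Subgroup.mem_centralizer_singleton_iff.1 hz.2).symm

theorem simple_titsGrp : IsSimpleGroup titsGrp := by
  haveI : Nontrivial titsGrp := Finite.one_lt_card_iff_nontrivial.1 (by rw [card_titsGrp]; norm_num)
  refine ⟨fun M hM => ?_⟩
  let N : Subgroup fourRu := M.map titsGrp.subtype
  have hle : N ≤ titsGrp := by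
    rintro _ ⟨m, -, rfl⟩
    exact m.2
  have hnorm : ∀ g ∈ titsGrp, ∀ n ∈ N, g * n * g⁻¹ ∈ N := by
    rintro g hg _ ⟨m, hm, rfl⟩
    exact ⟨⟨g, hg⟩ * m * ⟨g, hg⟩⁻¹, hM.conj_mem m hm _, rfl⟩
  by_cases h13 : 13 ∣ Nat.card N
  · refine Or.inr (Subgroup.eq_top_of_card_eq M ?_)
    rw [← Subgroup.card_map_of_injective (f := titsGrp.subtype) titsGrp.subtype_injective,
      show M.map titsGrp.subtype = titsGrp from eq_tits_of_thirteen hle hnorm h13]
  · refine Or.inl ?_
    have := eq_bot_of_not_thirteen hle hnorm h13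
    exact (Subgroup.map_eq_bot_iff_of_injective M titsGrp.subtype_injective).1 this

end CfsgLib.RuGroup
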