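import Cfsg.Agent.Lib.RuGroup.TitsAct

/-!
The stabiliser of a short vector has a subgroup of index two.

Fix a transversal `u` of the second base point in the stabiliser of the first. The composites
permute two halves of an orbit of the stabiliser of both points, and up to a parity of their own
they respect the transversal. So the parity is a homomorphism.
-/

set_option autoImplicit false
set_option maxRecDepth 100000

namespace CfsgLib.RuGroup

open CfsgLib.PresCert CfsgLib.LocalEven.RuRootless Cfsg.Spor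

attribute [local irreducible] colW app el idT profT classBits vecT lane pkN sv vec profOf singleP
  piT qiT treeT1 treeT2 halfA halfB halfPt pathBits

/-- The composites fixing the first `k` points of the base generate the fixer. -/
noncomputable def sGrp (k : ℕ) : Subgroup fourRu :=
  Subgroup.closure {f | ∃ n : Fin 4, (n : ℕ) + k ≤ 4 ∧ sG n = f}

theorem slot_reach_s (s : Fin 5) {i : ℕ} (hi : i < slotSize s) :
    ∃ f ∈ sGrp (5 - slotGens s) ⊓ baseFix (5 - slotGens s),
      f • slotRoot s = (⟨child (slotTree s) i, slot_child_lt hi⟩ : Fin 16240) := by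
  induction i using Nat.strong_induction_on with
  | _ i ih =>
    have h := allBin_spec _ _ _ _ (slot_step s) i (Nat.zero_le _) hi
      (lt_of_lt_of_le hi (by simpa using (slotSize_le s).1))
    rcases treeStep_spec h with ⟨-, he⟩ | ⟨-, hp, hg, hs⟩
    · exact ⟨1, one_mem _, by rw [one_smul]; exact Fin.ext he.symm⟩
    · obtain ⟨f, hf, hfe⟩ := ih _ hp (by omega)
      have hg4 : gen (slotTree s) i < 4 := by
        have : slotGens s ≤ 4 := by fin_cases s <;> decide
        omega
      refine ⟨sG ⟨_, hg4⟩ * f, mul_mem ⟨Subgroup.subset_closure ⟨⟨_, hg4⟩, ?_, rfl⟩, ?_⟩ hf, ?_⟩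
      · simp only; omega
      · exact baseFix_anti (by simp only; omega) (sG_fix ⟨_, hg4⟩)
      · rw [mul_smul, hfe]
        exact sG_smul ⟨_, hg4⟩ hs

theorem baseFix_le_sGrp : ∀ k, 1 ≤ k → k ≤ 5 → baseFix k ≤ sGrp k := by
  suffices H : ∀ d k, 1 ≤ k → k + d = 5 → baseFix k ≤ sGrp k from
    fun k h1 h5 => H (5 - k) k h1 (by omega)
  intro d
  induction d with
  | zero =>
    intro k _ hk
    obtain rfl : k = 5 := by omega
    rw [baseFix_five]
    exact bot_le
  | succ d ih =>
    intro k hk1 hk f hf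
    have hk4 : k - 1 < 4 := by omega
    have hlev : 5 - slotGens ⟨k - 1, by omega⟩ = k := by
      rw [slot_level, if_neg (by simp only; omega)]; simp only; omega
    obtain ⟨i, hi, he⟩ := (slot_mem (f • slotRoot ⟨k - 1, by omega⟩).2).1
      (slot_orbit_le ⟨k - 1, by omega⟩ (f := f) (by rw [hlev]; exact hf))
    obtain ⟨g, hg, hge⟩ := slot_reach_s ⟨k - 1, by omega⟩ hi
    rw [hlev] at hg
    have hroot : slotRoot ⟨k - 1, by omega⟩ = basePt ⟨k, by omega⟩ := by
      have hk5 : k < 5 := by omega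
      interval_cases k <;> rfl
    have hfix : g⁻¹ * f ∈ baseFix (k + 1) := (mem_baseFix_succ (by omega)).2
      ⟨mul_mem (inv_mem hg.2) hf, by
        rw [mul_smul, ← hroot, inv_smul_eq_iff, hge]; exact Fin.ext he.symm⟩
    have hsub : sGrp (k + 1) ≤ sGrp k :=
      Subgroup.closure_mono fun _ ⟨n, hn, e⟩ => ⟨n, by omega, e⟩
    have := mul_mem hg.1 (hsub (ih (k + 1) (by omega) (by omega) hfix))
    rwa [mul_inv_cancel_left] at this

/-! ### The transversal -/

/-- The path to a point, cut after `F` steps. -/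
noncomputable def uEl : ℕ → ℕ → fourRu
  | 0, _ => 1
  | F + 1, i => if i = 0 then 1 else letterN (gen treeT1 i) * uEl F (parent treeT1 i)

theorem forth_zero (i x : ℕ) : forth 0 i x = x := rfl

theorem forth_succ (F i x : ℕ) : forth (F + 1) i x =
    if i = 0 then x else tab piT (gen treeT1 i) (forth F (parent treeT1 i) x) := by
  show (Bool.rec (tab piT (gen treeT1 i) (forth F (parent treeT1 i) x)) x (Nat.beq i 0) : ℕ) = _
  by_cases h : i = 0
  · rw [if_pos h]; subst h; rfl
  · rw [if_neg h, show Nat.beq i 0 = false by simpa [Bool.eq_false_iff] using h]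

theorem back_succ (F i x : ℕ) : back (F + 1) i x =
    if i = 0 then x else back F (parent treeT1 i) (tab piT (gen treeT1 i + 4) x) := by
  show (Bool.rec (back F (parent treeT1 i) (tab piT (Nat.add (gen treeT1 i) 4) x)) x (Nat.beq i 0) : ℕ) = _
  by_cases h : i = 0
  · rw [if_pos h]; subst h; rfl
  · rw [if_neg h, show Nat.beq i 0 = false by simpa [Bool.eq_false_iff] using h]

theorem tree1_data {i : ℕ} (hi : i < 2304) (h : i ≠ 0) :
    parent treeT1 i < i ∧ gen treeT1 i < 4 := by
  rcases treeStep_spec (allBin_spec _ _ _ _ tree1_step i (Nat.zero_le _) hi (by omega)) with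
    ⟨e, -⟩ | ⟨-, hp, hg, -⟩
  · exact absurd e h
  · exact ⟨hp, hg⟩

theorem letterN_add_four {n : ℕ} (hn : n < 4) : letterN (n + 4) = (letterN n)⁻¹ := by
  rw [letterN, letterN, dif_pos hn, dif_neg (by omega), dif_pos (by omega)]
  simp

theorem path_spec : ∀ (F : ℕ) {i x : ℕ}, i < 2304 → x < 2304 →
    uEl F i ∈ baseFix 1 ∧
    (forth F i x < 2304 ∧ uEl F i • spt treeT1 x = spt treeT1 (forth F i x)) ∧
    (back F i x < 2304 ∧ (uEl F i)⁻¹ • spt treeT1 x = spt treeT1 (back F i x))
  | 0, i, x, _, hx => ⟨one_mem _, ⟨hx, one_smul _ _⟩, ⟨hx, by simp [uEl, back]⟩⟩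
  | F + 1, i, x, hi, hx => by
    rw [uEl, forth_succ, back_succ]
    by_cases h : i = 0
    · rw [if_pos h, if_pos h, if_pos h]
      exact ⟨one_mem _, ⟨hx, one_smul _ _⟩, ⟨hx, by rw [inv_one, one_smul]⟩⟩
    · rw [if_neg h, if_neg h, if_neg h]
      obtain ⟨hp, hg⟩ := tree1_data hi h
      obtain ⟨hu, ⟨hf1, hf2⟩, -⟩ := path_spec F (i := parent treeT1 i) (x := x) (by omega) hx
      obtain ⟨hb1, hb2⟩ := pi_spec (n := gen treeT1 i + 4) (by omega) hx
      obtain ⟨-, -, ⟨hb3, hb4⟩⟩ := path_spec F (i := parent treeT1 i) (by omega) hb1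
      obtain ⟨hs1, hs2⟩ := pi_spec (n := gen treeT1 i) (by omega) hf1
      refine ⟨mul_mem (letterN_mem (by omega)) hu, ⟨hs1, ?_⟩, ⟨hb3, ?_⟩⟩
      · rw [mul_smul, hf2, hs2]
      · rw [mul_inv_rev, mul_smul, ← letterN_add_four hg, hb2, hb4]

/-- The transversal. -/
noncomputable def tv (i : ℕ) : fourRu := uEl 10 i

theorem tv_zero : tv 0 = 1 := by rw [tv, uEl, if_pos rfl]

theorem spt1_zero : spt treeT1 0 = basePt 1 := by
  obtain ⟨-, he⟩ | ⟨h, -⟩ := treeStep_spec (allBin_spec _ _ _ _ tree1_step 0 le_rfl (by norm_num) (by norm_num))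
  · rw [spt, he]; rfl
  · exact absurd rfl h

theorem tv_root {i : ℕ} (hi : i < 2304) : tv i • spt treeT1 0 = spt treeT1 i := by
  have h := allBin_spec _ _ _ _ path_ok i (Nat.zero_le _) hi (by omega)
  unfold pathOK at h
  cases hb : (Nat.blt (gen treeT1 i) 4 || Nat.beq i 0)
  · simp [hb] at h
  · simp only [hb] at h
    rw [tv, (path_spec 10 hi (x := 0) (by norm_num)).2.1.2, Nat.eq_of_beq_eq_true h]

theorem tv_mem {i : ℕ} (hi : i < 2304) : tv i ∈ baseFix 1 := (path_spec 10 hi (x := 0) (by norm_num)).1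

theorem mem_fix_two {f : fourRu} (hf : f ∈ baseFix 1) (h : f • spt treeT1 0 = spt treeT1 0) :
    f ∈ baseFix 2 :=
  (mem_baseFix_succ (k := 1) (by norm_num)).2 ⟨hf, by rw [spt1_zero] at h; exact h⟩

theorem fix_two_iff {f : fourRu} : f ∈ baseFix 2 ↔ f ∈ baseFix 1 ∧ f • spt treeT1 0 = spt treeT1 0 :=
  ⟨fun h => ⟨baseFix_anti (by norm_num) h, by
    rw [spt1_zero]; exact h 1 (by norm_num)⟩, fun h => mem_fix_two h.1 h.2⟩

/-! ### The halves -/

/-- Membership in a half. -/
def InH (c : Bool) (x : ℕ) : Prop := x < 2304 ∧ inHalf c x = true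

theorem inHalf_iff (c : Bool) (x : ℕ) : inHalf c x = (halfSet c).testBit x := by
  unfold inHalf
  rw [show Nat.land (Nat.shiftRight (halfSet c) x) 1 = ((halfSet c >>> x) &&& 1) from rfl]
  rw [Nat.testBit, Nat.one_and_eq_mod_two, Nat.and_one_is_mod]
  cases Nat.mod_two_eq_zero_or_one (halfSet c >>> x) with
  | inl e => rw [e]; rfl
  | inr e => rw [e]; rfl

theorem half_facts : halfPt < 2304 ∧ inHalf false halfPt = true ∧ halfA &&& halfB = 0 ∧ pathB 0 = false := by
  have h := half_ok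
  simp only [Bool.and_eq_true, Nat.beq_eq, Nat.blt_eq, Bool.not_eq_true'] at h
  exact ⟨h.1.2, h.1.1.2, h.1.1.1, h.2⟩

theorem inH_unique {c c' : Bool} {x : ℕ} (h : InH c x) (h' : InH c' x) : c = c' := by
  by_contra hne
  have hb : inHalf false x = true ∧ inHalf true x = true := by
    cases c <;> cases c' <;> first | exact absurd rfl hne | exact ⟨h.2, h'.2⟩ | exact ⟨h'.2, h.2⟩
  rw [inHalf_iff, inHalf_iff] at hb
  have := Nat.testBit_and halfA halfB x
  rw [half_facts.2.2.1, Nat.zero_testBit] at this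
  simp [halfSet] at hb
  simp [hb] at this

/-- A map sends each half into the half shifted by a parity. -/
def Blk (h : fourRu) (β : Bool) : Prop :=
  ∀ c x, InH c x → ∃ y, InH (xor c β) y ∧ h • spt treeT1 x = spt treeT1 y

theorem Blk.mul {h k : fourRu} {β γ : Bool} (hh : Blk h β) (hk : Blk k γ) :
    Blk (h * k) (xor β γ) := fun c x hx => by
  obtain ⟨y, hy, hye⟩ := hk c x hx
  obtain ⟨z, hz, hze⟩ := hh _ y hy
  refine ⟨z, ?_, by rw [mul_smul, hye, hze]⟩
  have e : xor c (xor β γ) = xor (xor c γ) β := by cases c <;> cases β <;> cases γ <;> rfl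
  rw [e]; exact hz

theorem Blk.one : Blk 1 false := fun c x hx => ⟨x, by cases c <;> exact hx, one_smul _ _⟩

theorem blk_gen (n : ℕ) (hn : n < 3) : Blk (letterN n) (epsB n) := by
  intro c x hx
  have h := List.all_eq_true.1 block_ok n (List.mem_range.2 hn)
  simp only [Bool.and_eq_true] at h
  have hb := allBin_spec _ _ _ _ h.2 x (Nat.zero_le _) hx.1 (by have := hx.1; omega)
  obtain ⟨h1, h2⟩ := pi_spec (n := n) (by omega) hx.1
  refine ⟨_, ⟨h1, ?_⟩, h2⟩
  unfold blockOK at hb
  have hx2 := hx.2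
  cases c
  · simp only [hx2] at hb
    cases hv : inHalf (epsB n) (tab piT n x)
    · simp [hv] at hb
    · simpa using hv
  · simp only [hx2] at hb
    cases h0 : (Bool.rec true (inHalf (epsB n) (tab piT n x)) (inHalf false x) : Bool)
    · simp [h0] at hb
    · simp only [h0] at hb
      exact hb

theorem blk_exists {f : fourRu} (hf : f ∈ baseFix 2) : ∃ β, Blk f β := by
  have hf' := baseFix_le_sGrp 2 (by norm_num) (by norm_num) hf
  rw [sGrp, ← Subgroup.mem_toSubmonoid, Subgroup.closure_toSubmonoid_of_finite] at hf'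
  clear hf
  induction hf' using Submonoid.closure_induction with
  | mem x hx =>
    obtain ⟨n, hn, rfl⟩ := hx
    have e : letterN (n : ℕ) = sG n := by rw [letterN, dif_pos n.2]
    exact ⟨_, e ▸ blk_gen n (by omega)⟩
  | one => exact ⟨_, Blk.one⟩
  | mul x y _ _ hx hy =>
    obtain ⟨β, hβ⟩ := hx; obtain ⟨γ, hγ⟩ := hy
    exact ⟨_, hβ.mul hγ⟩

/-! ### The parity -/

/-- `f` respects the transversal up to the parity `ε`. -/
def Good (ε : Bool) (f : fourRu) : Prop :=
  ∀ i < 2304, ∃ j < 2304, f • spt treeT1 i = spt treeT1 j ∧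
    Blk ((tv j)⁻¹ * f * tv i) (xor ε (xor (pathB i) (pathB j)))

theorem Good.mul {f g : fourRu} {δ ε : Bool} (hf : Good δ f) (hg : Good ε g) :
    Good (xor δ ε) (f * g) := fun i hi => by
  obtain ⟨j, hj, hje, hjb⟩ := hg i hi
  obtain ⟨l, hl, hle, hlb⟩ := hf j hj
  refine ⟨l, hl, by rw [mul_smul, hje, hle], ?_⟩
  have := hlb.mul hjb
  rw [show (tv l)⁻¹ * f * tv j * ((tv j)⁻¹ * g * tv i) = (tv l)⁻¹ * (f * g) * tv i by group] at this
  have e : xor (xor δ ε) (xor (pathB i) (pathB l)) =
      xor (xor δ (xor (pathB j) (pathB l))) (xor ε (xor (pathB i) (pathB j))) := by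
    cases δ <;> cases ε <;> cases pathB i <;> cases pathB j <;> cases pathB l <;> rfl
  rw [e]; exact this

theorem Good.one : Good false 1 := fun i hi => ⟨i, hi, one_smul _ _, by
  rw [mul_one, inv_mul_cancel, Bool.xor_self]; exact Blk.one⟩

theorem good_gen (n : ℕ) (hn : n < 4) : Good (epsB n) (letterN n) := by
  intro i hi
  obtain ⟨hj, hje⟩ := pi_spec (n := n) (by omega) hi
  refine ⟨_, hj, hje, ?_⟩
  set j := tab piT n i
  have hmem : (tv j)⁻¹ * letterN n * tv i ∈ baseFix 2 := mem_fix_two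
    (mul_mem (mul_mem (inv_mem (tv_mem hj)) (letterN_mem (by omega))) (tv_mem hi))
    (by rw [mul_smul, mul_smul, tv_root hi, hje, inv_smul_eq_iff, tv_root hj])
  obtain ⟨β, hβ⟩ := blk_exists hmem
  obtain ⟨y, hy, hye⟩ := hβ false halfPt ⟨half_facts.1, half_facts.2.1⟩
  have hb := allBin_spec _ _ _ _ (List.all_eq_true.1 bit_ok n (List.mem_range.2 hn)) i (Nat.zero_le _) hi
    (by omega)
  obtain ⟨h1, h2⟩ := (path_spec 10 hi half_facts.1).2.1
  obtain ⟨h3, h4⟩ := pi_spec (n := n) (by omega) h1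
  obtain ⟨h5, h6⟩ := (path_spec 10 hj h3).2.2
  simp only [tv, mul_smul, h2, h4, h6] at hye
  have hy' := spt1_inj h5 hy.1 hye
  rw [← hy', Bool.false_xor] at hy
  have hu := inH_unique hy ⟨h5, hb⟩
  rw [← hu]; exact hβ

theorem good_exists {f : fourRu} (hf : f ∈ baseFix 1) : ∃ ε, Good ε f := by
  have hf' := baseFix_le_sGrp 1 (by norm_num) (by norm_num) hf
  rw [sGrp, ← Subgroup.mem_toSubmonoid, Subgroup.closure_toSubmonoid_of_finite] at hf'
  clear hf
  induction hf' using Submonoid.closure_induction with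
  | mem x hx =>
    obtain ⟨n, hn, rfl⟩ := hx
    have e : letterN (n : ℕ) = sG n := by rw [letterN, dif_pos n.2]
    exact ⟨_, e ▸ good_gen n n.2⟩
  | one => exact ⟨_, Good.one⟩
  | mul x y _ _ hx hy =>
    obtain ⟨β, hβ⟩ := hx; obtain ⟨γ, hγ⟩ := hy
    exact ⟨_, hβ.mul hγ⟩

theorem good_unique {f : fourRu} {δ ε : Bool} (h : Good δ f) (h' : Good ε f) : δ = ε := by
  obtain ⟨j, hj, he, hb⟩ := h 0 (by norm_num)
  obtain ⟨j', hj', he', hb'⟩ := h' 0 (by norm_num)
  obtain rfl := spt1_inj hj hj' (he.symm.trans he')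
  obtain ⟨y, hy, hye⟩ := hb false halfPt ⟨half_facts.1, half_facts.2.1⟩
  obtain ⟨y', hy', hye'⟩ := hb' false halfPt ⟨half_facts.1, half_facts.2.1⟩
  obtain rfl := spt1_inj hy.1 hy'.1 (hye.symm.trans hye')
  have := inH_unique hy hy'
  revert this
  cases δ <;> cases ε <;> cases pathB 0 <;> cases pathB j <;> simp

theorem good_inv {f : fourRu} {ε : Bool} (hf : f ∈ baseFix 1) (h : Good ε f) : Good ε f⁻¹ := by
  obtain ⟨δ, hδ⟩ := good_exists (inv_mem hf)
  have h2 := h.mul hδ
  rw [mul_inv_cancel] at h2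
  have := good_unique h2 Good.one
  cases ε <;> cases δ <;> simp at this <;> exact hδ

/-- The subgroup of index two. -/
noncomputable def titsGrp : Subgroup fourRu where
  carrier := {f | f ∈ baseFix 1 ∧ Good false f}
  one_mem' := ⟨one_mem _, Good.one⟩
  mul_mem' {f g} hf hg := ⟨mul_mem hf.1 hg.1, hf.2.mul hg.2⟩
  inv_mem' {f} hf := ⟨inv_mem hf.1, good_inv hf.1 hf.2⟩

theorem titsGrp_le : titsGrp ≤ baseFix 1 := fun _ h => h.1

/-- The parity of a word. -/
noncomputable def wordPar (w : List ℕ) : Bool := w.foldr (fun a b => xor (epsB (a % 4)) b) false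

theorem good_word : ∀ w : List ℕ, (∀ a ∈ w, a < 8) → Good (wordPar w) (wordEl w)
  | [], _ => Good.one
  | a :: w, h => by
    have ha : a < 8 := h a List.mem_cons_self
    have hg : Good (epsB (a % 4)) (letterN a) := by
      by_cases h4 : a < 4
      · rw [Nat.mod_eq_of_lt h4]; exact good_gen a h4
      · have e : a = a % 4 + 4 := by omega
        conv => arg 2; rw [e, letterN_add_four (Nat.mod_lt _ (by norm_num))]
        exact good_inv (letterN_mem (by omega)) (good_gen _ (Nat.mod_lt _ (by norm_num)))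
    exact hg.mul (good_word w fun b hb => h b (List.mem_cons_of_mem _ hb))

theorem word_mem_tits {w : List ℕ} (h : ∀ a ∈ w, a < 8) (hp : wordPar w = false) :
    wordEl w ∈ titsGrp :=
  ⟨word_fix_one w, hp ▸ good_word w h⟩

theorem sG_one_odd : Good true (letterN 1) := good_gen 1 (by norm_num)

theorem card_baseFix : Nat.card (baseFix 1) = 35942400 ∧ Nat.card (baseFix 2) = 15600 ∧
    Nat.card (baseFix 3) = 52 ∧ Nat.card (baseFix 4) = 2 := by
  have hstep : ∀ s : Fin 5, ∀ hs : (s : ℕ) < 4, Nat.card (baseFix ((s : ℕ) + 1)) =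
      slotSize s * Nat.card (baseFix ((s : ℕ) + 2)) := by
    intro s hs
    rw [card_step (show (s : ℕ) + 1 < 5 by omega)]
    congr 1
    rw [show basePt ⟨(s : ℕ) + 1, by omega⟩ = slotRoot s by fin_cases s <;> first | rfl | (simp at hs),
      orbit_eq s hs, ncard_slotClass]
  have e1 : Nat.card (baseFix 1) = 2304 * Nat.card (baseFix 2) := hstep 0 (by norm_num)
  have e2 : Nat.card (baseFix 2) = 300 * Nat.card (baseFix 3) := hstep 1 (by norm_num)
  have e3 : Nat.card (baseFix 3) = 26 * Nat.card (baseFix 4) := hstep 2 (by norm_num)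
  have e4 : Nat.card (baseFix 4) = 2 * Nat.card (baseFix 5) := hstep 3 (by norm_num)
  have e5 : Nat.card (baseFix 5) = 1 := by rw [baseFix_five]; exact Subgroup.card_bot
  omega

theorem half_card {k : ℕ} (h1 : 1 ≤ k) (h3 : k ≤ 3) :
    2 * Nat.card (titsGrp ⊓ baseFix k : Subgroup fourRu) = Nat.card (baseFix k) := by
  have hidx : ((titsGrp ⊓ baseFix k).subgroupOf (baseFix k)).index = 2 := by
    rw [Subgroup.index_eq_two_iff]
    refine ⟨⟨letterN 1, letterN_mem (by omega)⟩, fun b => ?_⟩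
    obtain ⟨ε, hε⟩ := good_exists (baseFix_anti h1 b.2)
    have hprod : Good (xor ε true) ((b : fourRu) * letterN 1) := hε.mul sG_one_odd
    simp only [Subgroup.mem_subgroupOf, Subgroup.mem_inf, Subgroup.coe_mul, b.2,
      mul_mem b.2 (letterN_mem (n := 1) (by omega : 1 % 4 + k ≤ 4)), and_true]
    cases ε
    · exact Or.inr ⟨⟨baseFix_anti h1 b.2, hε⟩, fun hc => Bool.noConfusion (good_unique hprod hc.2)⟩
    · exact Or.inl ⟨⟨mul_mem (baseFix_anti h1 b.2) (letterN_mem (by omega)), hprod⟩,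
        fun hc => Bool.noConfusion (good_unique hε hc.2)⟩
  have := Subgroup.card_mul_index ((titsGrp ⊓ baseFix k).subgroupOf (baseFix k))
  rw [hidx, Nat.card_congr (Subgroup.subgroupOfEquivOfLe inf_le_right).toEquiv] at this
  omega

theorem card_titsGrp : Nat.card titsGrp = 17971200 := by
  have h := half_card (k := 1) le_rfl (by norm_num)
  rw [inf_eq_left.2 titsGrp_le, card_baseFix.1] at h
  omega

end CfsgLib.RuGroup
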