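import Cfsg.Agent.Lib.RuGroup.Pack
import Cfsg.Agent.Lib.RuGroup.MapChecks
import Cfsg.Agent.Lib.RuGroup.CheckMaps
import Cfsg.Agent.Lib.RuGroup.CheckShort

/-!
The vectors of the codes, and the meaning of the packed tables.
-/

set_option autoImplicit false
set_option maxRecDepth 100000

namespace CfsgLib.RuGroup

open CfsgLib.PresCert

/-- Real coordinates. -/
abbrev X : Type := Fin 56 → ℤ

/-- A signed unit vector. -/
def unitV (c : ℕ) : X := fun r => if c = (r : ℕ) then 1 else if c = (r : ℕ) + 56 then -1 else 0

/-- The vector of a code. -/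
def vec (code : ℕ) : X := ∑ k ∈ Finset.range 16, unitV (fld code k)

/-- The short vector with a given index. -/
noncomputable def sv (i : ℕ) : X := vec (el i)

/-- The scalar product. -/
def dot (x y : X) : ℤ := ∑ j, x j * y j

theorem dot_comm (x y : X) : dot x y = dot y x :=
  Finset.sum_congr rfl fun j _ => mul_comm _ _

theorem dot_add_left (x y z : X) : dot (x + y) z = dot x z + dot y z := by
  simp [dot, add_mul, Finset.sum_add_distrib]

theorem dot_smul_left (c : ℤ) (x z : X) : dot (c • x) z = c * dot x z := by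
  simp [dot, Finset.mul_sum, mul_assoc]

theorem dot_single (x : X) (j : Fin 56) (a : ℤ) : dot x (Pi.single j a) = x j * a := by
  rw [dot, Finset.sum_eq_single j (fun k _ hk => by simp [Pi.single_eq_of_ne hk]) (by simp)]
  simp

theorem dot_self_eq_zero {x : X} (h : dot x x = 0) : x = 0 := funext fun j =>
  mul_self_eq_zero.1 ((Finset.sum_eq_zero_iff_of_nonneg fun k _ => mul_self_nonneg (x k)).1 h j
    (Finset.mem_univ j))

theorem unitV_lo (j : Fin 56) : unitV j = Pi.single j 1 := by
  funext r
  by_cases h : r = j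
  · subst h; simp [unitV]
  · have : ¬ (j : ℕ) = r := fun e => h (Fin.ext e.symm)
    simp [unitV, this, Pi.single_eq_of_ne h]
    omega

theorem unitV_hi (j : Fin 56) : unitV ((j : ℕ) + 56) = -Pi.single j 1 := by
  funext r
  by_cases h : r = j
  · subst h; simp [unitV]
  · have : ¬ (j : ℕ) = r := fun e => h (Fin.ext e.symm)
    simp [unitV, Pi.single_eq_of_ne h, this]
    omega

/-- The linear map with given images of the unit vectors. -/
def lin {M : Type*} [AddCommGroup M] (w : Fin 56 → M) : X →+ M where
  toFun x := ∑ j, x j • w j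
  map_zero' := by simp
  map_add' x y := by simp [add_smul, Finset.sum_add_distrib]

theorem lin_single {M : Type*} [AddCommGroup M] (w : Fin 56 → M) (j : Fin 56) (a : ℤ) :
    lin w (Pi.single j a) = a • w j := by
  show ∑ k, (Pi.single j a : X) k • w k = _
  rw [Finset.sum_eq_single j (fun k _ hk => by simp [Pi.single_eq_of_ne hk]) (by simp)]
  simp

/-- The columns of a table are the values of an additive map on the signed unit vectors. -/
def ColIs (w mask T B m : ℕ) (L : X →+ (ℕ → ℤ)) : Prop :=
  ∀ c < 112, colW w mask T c = pkN B m (fun r => (L (unitV c) r + 4).toNat) ∧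
    ∀ r < m, |L (unitV c) r| ≤ 4

theorem sumCols_colIs {w mask T B m : ℕ} {L : X →+ (ℕ → ℤ)} (h : ColIs w mask T B m L) :
    ∀ n code, okCode n code = true →
      sumCols w mask T n code =
          pkN B m (fun r => (L (∑ k ∈ Finset.range n, unitV (fld code k)) r + 4 * n).toNat) ∧
        ∀ r < m, |L (∑ k ∈ Finset.range n, unitV (fld code k)) r| ≤ 4 * n
  | 0, code, _ => by
    refine ⟨?_, fun r _ => by simp⟩
    simp [sumCols, pkN_zero]
  | n + 1, code, hok => by
    have hf := okCode_spec (n + 1) code hok
    have hrest : okCode n (code >>> 7) = true := by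
      change (Bool.rec false (okCode n (code >>> 7)) (Nat.blt (code &&& 127) 112) : Bool) = true at hok
      cases hb : Nat.blt (code &&& 127) 112 <;> simp_all
    obtain ⟨e1, b1⟩ := h (fld code 0) (hf 0 (by omega))
    obtain ⟨e2, b2⟩ := sumCols_colIs h n _ hrest
    have hs : ∑ k ∈ Finset.range (n + 1), unitV (fld code k) =
        unitV (fld code 0) + ∑ k ∈ Finset.range n, unitV (fld (code >>> 7) k) := by
      rw [Finset.sum_range_succ', add_comm]
      simp only [fld_succ]
    refine ⟨?_, fun r hr => ?_⟩
    · rw [sumCols_succ, ← fld_zero, e1, e2, ← pkN_add]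
      refine pkN_congr _ _ _ _ fun r hr => ?_
      have := abs_le.1 (b1 r hr)
      have := abs_le.1 (b2 r hr)
      rw [hs, map_add, Pi.add_apply]
      push_cast
      omega
    · have := abs_le.1 (b1 r hr)
      have := abs_le.1 (b2 r hr)
      rw [hs, map_add, Pi.add_apply, abs_le]
      push_cast
      omega

/-- Real coordinates indexed by the natural numbers. -/
def natX : X →+ (ℕ → ℤ) where
  toFun x r := if h : r < 56 then x ⟨r, h⟩ else 0
  map_zero' := by funext r; simp
  map_add' x y := by funext r; by_cases h : r < 56 <;> simp [h]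

theorem natX_fin (x : X) (r : Fin 56) : natX x r = x r := by simp [natX]

theorem natX_lt (x : X) {r : ℕ} (h : r < 56) : natX x r = x ⟨r, h⟩ := by simp [natX, h]

theorem colIs_id : ColIs 896 m896 idT 65536 56 (4 • natX) := fun c hc => by
  have h := allBin_spec _ _ _ _ id_ok c (by omega) hc (by omega)
  simp only [idOK, Nat.beq_eq] at h
  refine ⟨(h.trans (pkN_congr _ _ _ _ fun r hr => ?_) : col idT c = _), fun r hr => ?_⟩
  · simp only [AddMonoidHom.smul_apply, Pi.smul_apply, nsmul_eq_mul, Nat.cast_ofNat, natX_lt _ hr, unitV]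
    change pick (Nat.beq r c) 8 (pick (Nat.beq (r + 56) c) 0 4) = _
    by_cases h1 : r = c
    · subst h1; simp [pick]
    · have e1 : Nat.beq r c = false := Bool.eq_false_iff.2 fun e => h1 (Nat.eq_of_beq_eq_true e)
      by_cases h2 : r + 56 = c
      · subst h2; simp [pick, e1]
      · have e2 : Nat.beq (r + 56) c = false :=
          Bool.eq_false_iff.2 fun e => h2 (Nat.eq_of_beq_eq_true e)
        simp [pick, e1, e2, (Ne.symm h1), (Ne.symm h2)]
  · simp only [AddMonoidHom.smul_apply, Pi.smul_apply, nsmul_eq_mul, Nat.cast_ofNat, natX_lt _ hr, unitV]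
    split_ifs <;> norm_num

theorem app_id {code : ℕ} (h : okCode 16 code = true) :
    app idT code = pkN 65536 56 (fun r => (4 * natX (vec code) r + 64).toNat) ∧
      ∀ r : Fin 56, |vec code r| ≤ 16 := by
  obtain ⟨e, b⟩ := sumCols_colIs colIs_id 16 code h
  refine ⟨?_, fun r => ?_⟩
  · refine e.trans (pkN_congr _ _ _ _ fun r hr => ?_)
    simp [vec, Finset.mul_sum]
  · have := b r r.2
    simp only [AddMonoidHom.smul_apply, Pi.smul_apply, nsmul_eq_mul, Nat.cast_ofNat, natX_fin] at this
    rw [abs_mul, abs_of_nonneg (by norm_num : (0 : ℤ) ≤ 4)] at this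
    simpa [vec] using (by omega : |(∑ k ∈ Finset.range 16, unitV (fld code k)) r| ≤ 16)

theorem lane_app_id {code : ℕ} (h : okCode 16 code = true) (r : Fin 56) :
    ((lane (app idT code) r : ℕ) : ℤ) = 4 * vec code r + 64 := by
  obtain ⟨e, b⟩ := app_id h
  have hb : ∀ i < 56, |natX (vec code) i| ≤ 16 := fun i hi => by rw [natX_lt _ hi]; exact b _
  rw [e, lane_pkN (fun i hi => by have := abs_le.1 (hb i hi); omega) r.2, natX_fin]
  have := abs_le.1 (b r)
  omega

end CfsgLib.RuGroup
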